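import Cfsg.Agent.Lib.FusionSystem.Bicyclic.CyclicShape
import Cfsg.Agent.Lib.FusionSystem.MaxClassRealize.Pull
import Cfsg.Agent.Lib.FusionSystem.Models

/-!
A bicyclic non-metacyclic `2`-group with cyclic commutator subgroup supports a saturated system which is not inner.
-/

set_option autoImplicit false
set_option linter.style.haveILetI false
set_option linter.unusedSectionVars false

open Cfsg Cfsg.FusionSystem
open CfsgLib.Fsys.MaxClassRealize (pullSys pullSys_realized)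
open scoped commutatorElement IsMulCommutative

namespace CfsgLib.Fsys.Bicyclic

variable {Ω : Type*} [Group Ω] {S : Subgroup Ω} [Finite S]

theorem exists_noninner_of_cyclic (hS : IsPGroup 2 S) {x y : ↥S} (hxy : IsProduct x y)
    (hm : ¬ Cfsg.IsMetacyclic ↥S) (hcyc : IsCyclic ↥(commutator ↥S)) :
    ∃ F : FusionSystem S, F.IsSaturated 2 ∧ ¬ ∀ P : Subgroup Ω, F.Hom P = (innerFusionSystem S).Hom P := by
  haveI : Fact (Nat.Prime 2) := ⟨Nat.prime_two⟩
  haveI := hxy.comm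
  obtain ⟨a, b, hgen, hbb⟩ := exists_generators hS hxy hm
  let h : Pre ↥S := { a := a, b := b, isP := hS, gen := hgen, bb := hbb, notMeta := hm }
  obtain ⟨X, _, _, j, hinj, hT, u, v, hu, hv, t, ht⟩ := exists_embedding h hcyc
  refine ⟨pullSys j hinj, realized_saturated (pullSys_realized j hinj) hT, fun hall => ?_⟩
  set P : Subgroup Ω := Subgroup.zpowers (v : Ω) with hP
  have hPS : P ≤ S := Subgroup.zpowers_le.2 v.2
  have himg : ∀ z : P, t * j ⟨z, hPS z.2⟩ * t⁻¹ ∈ j.range := fun z => by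
    obtain ⟨k, hk⟩ := Subgroup.mem_zpowers_iff.1 z.2
    refine ⟨u ^ k, ?_⟩
    rw [show (⟨(z : Ω), hPS z.2⟩ : S) = v ^ k from Subtype.ext (by rw [Subgroup.coe_zpow]; exact hk.symm), map_zpow,
      map_zpow, ← ht, conj_zpow]
  let e := MonoidHom.ofInjective hinj
  let ψ : P →* j.range :=
    (((MulAut.conj t).toMonoidHom.comp j).comp (Subgroup.inclusion hPS)).codRestrict j.range himg
  let φ : P →* Ω := S.subtype.comp (e.symm.toMonoidHom.comp ψ)
  have hmemF : φ ∈ (pullSys j hinj).Hom P := by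
    refine ⟨hPS, fun z => (e.symm (ψ z)).2, t, fun z => ?_⟩
    show th j ((e.symm (ψ z) : S) : Ω) = _
    rw [th_apply (e.symm (ψ z)).2, th_apply (hPS z.2)]
    exact congrArg Subtype.val (e.apply_symm_apply (ψ z))
  rw [hall P] at hmemF
  obtain ⟨-, g, hg, hgφ⟩ := hmemF
  have hv' : φ ⟨v, Subgroup.mem_zpowers _⟩ = (u : Ω) := by
    show ((e.symm (ψ ⟨v, Subgroup.mem_zpowers _⟩) : S) : Ω) = (u : Ω)
    congr 1
    refine e.injective ?_
    rw [e.apply_symm_apply]
    exact Subtype.ext ht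
  have huv : u = (⟨g, hg⟩ : S) * v * (⟨g, hg⟩ : S)⁻¹ := Subtype.ext (hv'.symm.trans (hgφ _))
  apply hv
  have h2 := (inferInstance : (commutator ↥S).Normal).conj_mem _ hu (⟨g, hg⟩ : S)⁻¹
  rwa [huv, inv_inv, show (⟨g, hg⟩ : S)⁻¹ * ((⟨g, hg⟩ : S) * v * (⟨g, hg⟩ : S)⁻¹) * ⟨g, hg⟩ = v by group] at h2

end CfsgLib.Fsys.Bicyclic
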