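import Cfsg.Agent.Lib.FusionSystem.Bicyclic.Shape

/-!
Two-generated non-metacyclic `2`-groups with commutative commutator subgroup and `b² ∈ [G', G] G'²`:
the action on the commutator subgroup, written additively.
-/

set_option autoImplicit false
set_option linter.style.haveILetI false
set_option linter.unusedSectionVars false

open scoped commutatorElement IsMulCommutative

namespace CfsgLib.Fsys.Bicyclic

variable {G : Type*} [Group G]

/-- The generators and hypotheses. -/
structure Pre (G : Type*) [Group G] where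
  a : G
  b : G
  isP : IsPGroup 2 G
  gen : Subgroup.closure {a, b} = (⊤ : Subgroup G)
  bb : b * b ∈ deepComm G
  notMeta : ¬ Cfsg.IsMetacyclic G

/-- The commutator subgroup, written additively. -/
abbrev DP (G : Type*) [Group G] := Additive ↥(commutator G)

/-- An element of the commutator subgroup as an element of the group. -/
def ι (x : DP G) : G := ((Additive.toMul x : ↥(commutator G)) : G)

/-- An element of the commutator subgroup as an element of `DP G`. -/
def toDP {g : G} (hg : g ∈ commutator G) : DP G := Additive.ofMul ⟨g, hg⟩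

@[simp] theorem ι_toDP {g : G} (hg : g ∈ commutator G) : ι (toDP hg) = g := rfl

theorem ι_mem (x : DP G) : ι x ∈ commutator G := (Additive.toMul x).2

theorem exists_ι {g : G} (hg : g ∈ commutator G) : ∃ x : DP G, ι x = g := ⟨toDP hg, rfl⟩

theorem ι_inj {x y : DP G} (h : ι x = ι y) : x = y := Subtype.ext h

variable [IsMulCommutative ↥(commutator G)]

@[simp] theorem ι_zero : ι (0 : DP G) = 1 := rfl
theorem ι_add (x y : DP G) : ι (x + y) = ι x * ι y := rfl
theorem ι_neg (x : DP G) : ι (-x) = (ι x)⁻¹ := rfl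
theorem ι_sub (x y : DP G) : ι (x - y) = ι x * (ι y)⁻¹ := by rw [sub_eq_add_neg, ι_add, ι_neg]

theorem ι_zsmul (k : ℤ) (x : DP G) : ι (k • x) = ι x ^ k := by
  show (((Additive.toMul x : ↥(commutator G)) ^ k : ↥(commutator G)) : G) = _
  rw [Subgroup.coe_zpow]; rfl

theorem ι_eq_one {x : DP G} (h : ι x = 1) : x = 0 := ι_inj h

theorem ι_comm (x y : DP G) : ι x * ι y = ι y * ι x := by rw [← ι_add, ← ι_add, add_comm]

theorem toDP_add {g g' : G} (hg : g ∈ commutator G) (hg' : g' ∈ commutator G) :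
    toDP (mul_mem hg hg') = toDP hg + toDP hg' := rfl

/-- Conjugation on the commutator subgroup. -/
noncomputable def act : G →* AddMonoid.End (DP G) where
  toFun g := MonoidHom.toAdditive (MulAut.conjNormal g).toMonoidHom
  map_one' := by
    refine DFunLike.ext _ _ fun x => ι_inj ?_
    show (MulAut.conjNormal (1 : G) (Additive.toMul x) : G) = _
    rw [MulAut.conjNormal_apply, one_mul, inv_one, mul_one]; rfl
  map_mul' g g' := by
    refine DFunLike.ext _ _ fun x => ι_inj ?_
    show (MulAut.conjNormal (g * g') (Additive.toMul x) : G) =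
      (MulAut.conjNormal g (MulAut.conjNormal g' (Additive.toMul x)) : G)
    rw [map_mul]; rfl

theorem ι_act (g : G) (x : DP G) : ι (act g x) = g * ι x * g⁻¹ := MulAut.conjNormal_apply g _

theorem conj_ι (g : G) (x : DP G) : g * ι x * g⁻¹ = ι (act g x) := (ι_act g x).symm

theorem mul_ι (g : G) (x : DP G) : g * ι x = ι (act g x) * g := by rw [ι_act, inv_mul_cancel_right]

theorem ι_mul (g : G) (x : DP G) : ι x * g = g * ι (act g⁻¹ x) := by rw [ι_act]; group

theorem act_of_mem {g : G} (hg : g ∈ commutator G) : act g = 1 := by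
  refine DFunLike.ext _ _ fun x => ι_inj ?_
  obtain ⟨y, rfl⟩ := exists_ι hg
  rw [ι_act, ι_comm, mul_inv_cancel_right]; rfl

theorem act_ι (x : DP G) : act (ι x) = (1 : AddMonoid.End (DP G)) := act_of_mem (ι_mem x)

theorem act_comm (g g' : G) : Commute (act g) (act g') := by
  show act g * act g' = act g' * act g
  rw [← map_mul, ← map_mul, show g * g' = ⁅g, g'⁆ * (g' * g) by rw [commutatorElement_def]; group, map_mul,
    act_of_mem (Subgroup.commutator_mem_commutator (Subgroup.mem_top g) (Subgroup.mem_top g')), one_mul]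

theorem sq_identity {R : Type*} [Ring R] (Y Q : R) :
    (Y - 1 + 2 * Q) * (Y - 1 + 2 * Q) = Y * Y - 1 + 2 * (1 - Y + (Y - 1) * Q + Q * (Y - 1) + 2 * Q * Q) := by
  noncomm_ring

namespace Pre

variable (h : Pre G)

/-- Conjugation by `a`. -/
noncomputable def A : AddMonoid.End (DP G) := act h.a
/-- Conjugation by `b`. -/
noncomputable def B : AddMonoid.End (DP G) := act h.b
/-- Conjugation by `a`, minus the identity. -/
noncomputable def X : AddMonoid.End (DP G) := h.A - 1
/-- The commutator of `a` and `b`. -/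
def c : DP G := toDP (g := ⁅h.a, h.b⁆)
  (show ⁅h.a, h.b⁆ ∈ commutator G from
    Subgroup.commutator_mem_commutator (Subgroup.mem_top h.a) (Subgroup.mem_top h.b))
/-- The square of `b`. -/
def q : DP G := toDP (g := h.b * h.b) (deepComm_le_commutator h.bb)

omit [IsMulCommutative ↥(commutator G)] in
theorem ι_c : ι h.c = ⁅h.a, h.b⁆ := rfl
omit [IsMulCommutative ↥(commutator G)] in
theorem ι_q : ι h.q = h.b * h.b := rfl

theorem X_apply (x : DP G) : h.X x = h.A x - x := rfl

theorem A_apply (x : DP G) : h.A x = x + h.X x := by rw [h.X_apply]; abel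

theorem comm_AB : Commute h.A h.B := act_comm _ _

theorem comm_XB : Commute h.X h.B := h.comm_AB.sub_left (Commute.one_left _)

theorem comm_XA : Commute h.X h.A := (Commute.refl _).sub_left (Commute.one_left _)

theorem comm_X_act (g : G) : Commute h.X (act g) := (act_comm _ g).sub_left (Commute.one_left _)

theorem a_b : h.a * h.b = ι h.c * (h.b * h.a) := by rw [h.ι_c, commutatorElement_def]; group

theorem A_q : h.A h.q = h.c + h.B h.c + h.q := by
  refine ι_inj ?_
  rw [ι_add, ι_add, A, B, ι_act, ι_act, h.ι_q, h.ι_c, commutatorElement_def]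
  group

theorem B_c : h.B h.c = h.X h.q - h.c := by rw [h.X_apply, h.A_q]; abel

theorem B_q : h.B h.q = h.q := by
  refine ι_inj ?_
  rw [B, ι_act, h.ι_q]; group

section Finite

variable [Finite G]
include h

theorem exists_pow_kill : ∃ N : ℕ, 1 ≤ N ∧ (∀ x : DP G, ((2 : ℤ) ^ N) • x = 0) ∧ (∀ g : G, g ^ (2 ^ N) = 1) := by
  obtain ⟨N, hN⟩ := IsPGroup.iff_card.1 h.isP
  have hall : ∀ g : G, g ^ (2 ^ (N + 1)) = 1 := fun g => by
    rw [pow_succ, pow_mul, ← hN, pow_card_eq_one', one_pow]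
  refine ⟨N + 1, by omega, fun x => ι_eq_one ?_, hall⟩
  rw [ι_zsmul]
  exact_mod_cast hall (ι x)

theorem two_nilpotent : IsNilpotent (2 : AddMonoid.End (DP G)) := by
  obtain ⟨N, -, hN, -⟩ := h.exists_pow_kill
  refine ⟨N, DFunLike.ext _ _ fun x => ?_⟩
  have : ((2 : AddMonoid.End (DP G)) ^ N) = (((2 : ℤ) ^ N : ℤ) : AddMonoid.End (DP G)) := by push_cast; rfl
  rw [this, AddMonoid.End.intCast_apply, hN]; rfl

theorem X_nilpotent : IsNilpotent h.X := by
  have hstep : ∀ k : ℕ, ∃ Q, h.X ^ (2 ^ k) = h.A ^ (2 ^ k) - 1 + 2 * Q := by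
    intro k
    induction k with
    | zero => exact ⟨0, by simp [X]⟩
    | succ k ih =>
      obtain ⟨Q, hQ⟩ := ih
      set Y := h.A ^ (2 ^ k) with hY
      refine ⟨1 - Y + (Y - 1) * Q + Q * (Y - 1) + 2 * Q * Q, ?_⟩
      rw [pow_succ 2 k, pow_mul, hQ, pow_mul, ← hY, pow_two, pow_two]
      exact sq_identity Y Q
  obtain ⟨N, -, -, hN⟩ := h.exists_pow_kill
  obtain ⟨Q, hQ⟩ := hstep N
  rw [show h.A ^ (2 ^ N) = 1 by rw [A, ← map_pow, hN, map_one], sub_self, zero_add] at hQ
  obtain ⟨k, hk⟩ := h.two_nilpotent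
  refine ⟨2 ^ N * k, ?_⟩
  rw [pow_mul, hQ, (show Commute (2 : AddMonoid.End (DP G)) Q from Commute.ofNat_left 2 Q).mul_pow, hk, zero_mul]

/-- Nakayama for the pair `2, X`. -/
theorem top_of_step (T : AddSubgroup (DP G)) (hX : ∀ x ∈ T, h.X x ∈ T)
    (hstep : ∀ x : DP G, ∃ t ∈ T, ∃ y z : DP G, x = t + ((2 : ℤ) • y + h.X z)) : ∀ x, x ∈ T := by
  -- first kill `X` modulo `2`
  have h1 : ∀ k : ℕ, ∀ x : DP G, ∃ t ∈ T, ∃ y z : DP G, x = t + ((2 : ℤ) • y + (h.X ^ k) z) := by
    intro k
    induction k with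
    | zero => exact fun x => ⟨0, T.zero_mem, 0, x, by simp⟩
    | succ k ih =>
      intro x
      obtain ⟨t, ht, y, z, rfl⟩ := ih x
      obtain ⟨t', ht', y', z', rfl⟩ := hstep z
      have hpow : ∀ (j : ℕ), ∀ w ∈ T, (h.X ^ j) w ∈ T := by
        intro j
        induction j with
        | zero => exact fun w hw => hw
        | succ j ihj => intro w hw; rw [pow_succ']; exact hX _ (ihj w hw)
      refine ⟨t + (h.X ^ k) t', T.add_mem ht (hpow k t' ht'), y + (h.X ^ k) y', z', ?_⟩
      rw [map_add, map_add, map_zsmul, pow_succ, smul_add]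
      simp only [AddMonoid.End.coe_mul, Function.comp_apply]
      abel
  obtain ⟨k, hk⟩ := h.X_nilpotent
  have h2 : ∀ j : ℕ, ∀ x : DP G, ∃ t ∈ T, ∃ y : DP G, x = t + ((2 : ℤ) ^ j) • y := by
    intro j
    induction j with
    | zero => exact fun x => ⟨0, T.zero_mem, x, by simp⟩
    | succ j ih =>
      intro x
      obtain ⟨t, ht, y, rfl⟩ := ih x
      obtain ⟨t', ht', y', z', rfl⟩ := h1 k y
      refine ⟨t + ((2 : ℤ) ^ j) • t', T.add_mem ht (T.zsmul_mem ht' _), y', ?_⟩
      rw [hk, AddMonoid.End.zero_apply, add_zero, smul_add, pow_succ, mul_smul, add_assoc]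
  obtain ⟨N, -, hN, -⟩ := h.exists_pow_kill
  intro x
  obtain ⟨t, ht, y, rfl⟩ := h2 N x
  rw [hN, add_zero]
  exact ht

end Finite

/-- `2 P + X P`. -/
noncomputable def deep : AddSubgroup (DP G) :=
  (zsmulAddGroupHom (2 : ℤ) : DP G →+ DP G).range ⊔ AddMonoidHom.range (h.X : DP G →+ DP G)

theorem mem_deep {x : DP G} : x ∈ h.deep ↔ ∃ y z : DP G, x = (2 : ℤ) • y + h.X z := by
  constructor
  · intro hx
    obtain ⟨u, ⟨y, rfl⟩, v, ⟨z, rfl⟩, rfl⟩ := AddSubgroup.mem_sup.1 hx
    exact ⟨y, z, rfl⟩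
  · rintro ⟨y, z, rfl⟩
    exact AddSubgroup.mem_sup.2 ⟨_, ⟨y, rfl⟩, _, ⟨z, rfl⟩, rfl⟩

theorem act_deep (g : G) {x : DP G} (hx : x ∈ h.deep) : act g x ∈ h.deep := by
  obtain ⟨y, z, rfl⟩ := h.mem_deep.1 hx
  refine h.mem_deep.2 ⟨act g y, act g z, ?_⟩
  rw [map_add, map_zsmul]
  congr 1
  exact (DFunLike.congr_fun (h.comm_X_act g).eq z).symm

/-- `P = ℤ c + 2 P + X P`. -/
theorem decomp (x : DP G) : ∃ (k : ℤ), x - k • h.c ∈ h.deep := by
  let T : AddSubgroup (DP G) := AddSubgroup.zmultiples h.c ⊔ h.deep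
  have hXm : ∀ z, h.X z ∈ T := fun z => AddSubgroup.mem_sup_right (h.mem_deep.2 ⟨0, z, by simp⟩)
  have hc : h.c ∈ T := AddSubgroup.mem_sup_left (AddSubgroup.mem_zmultiples _)
  have hA : ∀ x ∈ T, h.A x ∈ T := fun x hx => by rw [h.A_apply]; exact T.add_mem hx (hXm x)
  have hB : ∀ x ∈ T, h.B x ∈ T := by
    intro x hx
    obtain ⟨u, hu, v, hv, rfl⟩ := AddSubgroup.mem_sup.1 hx
    obtain ⟨k, rfl⟩ := AddSubgroup.mem_zmultiples_iff.1 hu
    rw [map_add, map_zsmul, h.B_c]
    exact T.add_mem (T.zsmul_mem (T.sub_mem (hXm _) hc) k) (AddSubgroup.mem_sup_right (h.act_deep _ hv))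
  let K : Subgroup G :=
    { carrier := {g | ∃ x ∈ T, ι x = g}
      one_mem' := ⟨0, T.zero_mem, rfl⟩
      mul_mem' := by rintro _ _ ⟨x, hx, rfl⟩ ⟨y, hy, rfl⟩; exact ⟨x + y, T.add_mem hx hy, ι_add x y⟩
      inv_mem' := by rintro _ ⟨x, hx, rfl⟩; exact ⟨-x, T.neg_mem hx, ι_neg x⟩ }
  have hKn : ∀ g ∈ Subgroup.closure {h.a, h.b}, ∀ x ∈ T, act g x ∈ T ∧ act g⁻¹ x ∈ T := by
    have inv : ∀ g : G, (∀ x ∈ T, act g x ∈ T) → ∀ x ∈ T, act g⁻¹ x ∈ T := by
      intro g hg x hx
      have hit : ∀ n : ℕ, act (g ^ n) x ∈ T := by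
        intro n
        induction n with
        | zero => simpa using hx
        | succ n ih => rw [pow_succ', map_mul]; exact hg _ ih
      obtain ⟨k, hk⟩ := h.isP g
      have : g⁻¹ = g ^ (2 ^ k - 1) := by
        rw [inv_eq_iff_mul_eq_one, ← pow_succ', Nat.sub_add_cancel (Nat.one_le_two_pow), hk]
      rw [this]
      exact hit _
    intro g hg
    induction hg using Subgroup.closure_induction with
    | mem g hg =>
      rcases hg with rfl | rfl
      · exact fun x hx => ⟨hA x hx, inv _ hA x hx⟩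
      · exact fun x hx => ⟨hB x hx, inv _ hB x hx⟩
    | one => exact fun x hx => by simpa using hx
    | mul g g' _ _ h1 h2 =>
      intro x hx
      rw [map_mul, mul_inv_rev, map_mul]
      exact ⟨(h1 _ (h2 x hx).1).1, (h2 _ (h1 x hx).2).2⟩
    | inv g _ h1 => exact fun x hx => by rw [inv_inv]; exact ⟨(h1 x hx).2, (h1 x hx).1⟩
  haveI : K.Normal := ⟨by
    rintro _ ⟨x, hx, rfl⟩ g
    exact ⟨act g x, (hKn g (h.gen ▸ Subgroup.mem_top g) x hx).1, ι_act g x⟩⟩
  have hle : commutator G ≤ K := by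
    set π := QuotientGroup.mk' K
    have hab : Commute (π h.a) (π h.b) := by
      rw [← commutatorElement_eq_one_iff_commute, ← map_commutatorElement]
      exact (QuotientGroup.eq_one_iff _).2 ⟨h.c, hc, rfl⟩
    have hall : ∀ v w : G, Commute (π v) (π w) := by
      have h2 : Subgroup.closure {h.a, h.b} ≤ (Subgroup.centralizer {π h.a, π h.b}).comap π := by
        rw [Subgroup.closure_le]
        rintro g (rfl | rfl)
        · show π h.a ∈ Subgroup.centralizer _
          rw [Subgroup.mem_centralizer_iff]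
          rintro y (rfl | rfl)
          · rfl
          · exact hab.symm.eq
        · show π h.b ∈ Subgroup.centralizer _
          rw [Subgroup.mem_centralizer_iff]
          rintro y (rfl | rfl)
          · exact hab.eq
          · rfl
      intro v w
      have hv := Subgroup.mem_centralizer_iff.1 (h2 (h.gen ▸ Subgroup.mem_top v))
      have h3 : Subgroup.closure {h.a, h.b} ≤ (Subgroup.centralizer {π v}).comap π := by
        rw [Subgroup.closure_le]
        rintro g (rfl | rfl)
        · show π h.a ∈ Subgroup.centralizer _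
          rw [Subgroup.mem_centralizer_iff]
          rintro y rfl
          exact (hv _ (Or.inl rfl)).symm
        · show π h.b ∈ Subgroup.centralizer _
          rw [Subgroup.mem_centralizer_iff]
          rintro y rfl
          exact (hv _ (Or.inr rfl)).symm
      exact Subgroup.mem_centralizer_iff.1 (h3 (h.gen ▸ Subgroup.mem_top w)) _ rfl
    rw [commutator_def, Subgroup.commutator_le]
    intro v _ w _
    rw [← QuotientGroup.eq_one_iff, ← QuotientGroup.mk'_apply, map_commutatorElement,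
      commutatorElement_eq_one_iff_commute]
    exact hall v w
  obtain ⟨t, ht, hte⟩ := hle (ι_mem x)
  obtain rfl := ι_inj hte
  obtain ⟨u, hu, v, hv, rfl⟩ := AddSubgroup.mem_sup.1 ht
  obtain ⟨k, rfl⟩ := AddSubgroup.mem_zmultiples_iff.1 hu
  exact ⟨k, by rwa [add_sub_cancel_left]⟩

/-- `g` acts trivially modulo `2 P + X P`. -/
theorem act_sub_mem_deep (g : G) (x : DP G) : act g x - x ∈ h.deep := by
  have hB : ∀ y, h.B y - y ∈ h.deep := by
    intro y
    obtain ⟨k, hk⟩ := h.decomp y
    have e : h.B y - y = k • (h.B h.c - h.c) + (h.B (y - k • h.c) - (y - k • h.c)) := by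
      rw [map_sub, map_zsmul, smul_sub]; abel
    rw [e, h.B_c]
    refine h.deep.add_mem (h.deep.zsmul_mem ?_ k) (h.deep.sub_mem (h.act_deep _ hk) hk)
    exact h.mem_deep.2 ⟨-h.c, h.q, by rw [smul_neg, two_zsmul]; abel⟩
  have hg : g ∈ Subgroup.closure {h.a, h.b} := h.gen ▸ Subgroup.mem_top g
  induction hg using Subgroup.closure_induction generalizing x with
  | mem g hg =>
    rcases hg with rfl | rfl
    · exact h.mem_deep.2 ⟨0, x, by simp [X_apply, A]⟩
    · exact hB x
  | one => rw [map_one, AddMonoid.End.coe_one, id, sub_self]; exact h.deep.zero_mem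
  | mul g g' _ _ h1 h2 =>
    rw [map_mul, show (act g * act g') x - x = (act g (act g' x) - act g' x) + (act g' x - x) by
      simp]
    exact h.deep.add_mem (h1 _) (h2 _)
  | inv g _ h1 =>
    have := h1 (act g⁻¹ x)
    rw [show act g (act g⁻¹ x) = x by
      show (act g * act g⁻¹) x = x
      rw [← map_mul, mul_inv_cancel, map_one]; rfl] at this
    rw [← neg_sub]
    exact h.deep.neg_mem this

/-- `[G', G] G'²` lies in `2 P + X P`. -/
theorem deepComm_deep {g : G} (hg : g ∈ deepComm G) : toDP (deepComm_le_commutator hg) ∈ h.deep := by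
  let K : Subgroup G :=
    { carrier := {g | ∃ x ∈ h.deep, ι x = g}
      one_mem' := ⟨0, h.deep.zero_mem, rfl⟩
      mul_mem' := by rintro _ _ ⟨x, hx, rfl⟩ ⟨y, hy, rfl⟩; exact ⟨x + y, h.deep.add_mem hx hy, ι_add x y⟩
      inv_mem' := by rintro _ ⟨x, hx, rfl⟩; exact ⟨-x, h.deep.neg_mem hx, ι_neg x⟩ }
  have hle : deepComm G ≤ K := by
    refine sup_le (Subgroup.commutator_le.2 fun m hm w _ => ?_) ((Subgroup.closure_le _).2 ?_)
    · obtain ⟨x, rfl⟩ := exists_ι hm
      refine ⟨x - act w x, ?_, ?_⟩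
      · rw [← neg_sub]; exact h.deep.neg_mem (h.act_sub_mem_deep w x)
      · rw [ι_sub, ι_act, commutatorElement_def]; group
    · rintro _ ⟨m, hm, rfl⟩
      obtain ⟨x, rfl⟩ := exists_ι hm
      exact ⟨x + x, h.mem_deep.2 ⟨x, 0, by rw [map_zero, add_zero, two_zsmul]⟩, ι_add x x⟩
  obtain ⟨x, hx, hxe⟩ := hle hg
  rwa [show toDP (deepComm_le_commutator hg) = x from ι_inj (by rw [hxe, ι_toDP])]

theorem q_deep : h.q ∈ h.deep := h.deepComm_deep h.bb

/-- Two endomorphisms commuting with `X` that agree at `c` agree. -/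
theorem ext_c [Finite G] {f f' : AddMonoid.End (DP G)} (hf : Commute f h.X) (hf' : Commute f' h.X)
    (he : f h.c = f' h.c) : f = f' := by
  refine DFunLike.ext _ _ fun x => ?_
  refine h.top_of_step (AddMonoidHom.eqLocus (f : DP G →+ DP G) f') (fun y hy => ?_) (fun y => ?_) x
  · show f (h.X y) = f' (h.X y)
    show (f * h.X) y = (f' * h.X) y
    rw [hf.eq, hf'.eq]
    exact congrArg h.X (show f y = f' y from hy)
  · obtain ⟨k, hk⟩ := h.decomp y
    obtain ⟨u, v, huv⟩ := h.mem_deep.1 hk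
    exact ⟨k • h.c, AddSubgroup.zsmul_mem _ he k, u, v, by rw [← huv]; abel⟩

section Exponent

variable [Finite G]

omit [IsMulCommutative ↥(commutator G)] [Finite G] in
include h in
theorem exists_orderOf_a : ∃ r : ℕ, orderOf (h.a : G ⧸ commutator G) = 2 ^ r := by
  obtain ⟨k, hk⟩ := (h.isP.to_quotient (commutator G)) (h.a : G ⧸ commutator G)
  obtain ⟨r, -, hr⟩ := (Nat.dvd_prime_pow Nat.prime_two).1 (orderOf_dvd_of_pow_eq_one hk)
  exact ⟨r, hr⟩

omit [Finite G] in
/-- The exponent of `a` modulo the commutator subgroup is `2 ^ r`. -/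
noncomputable def r : ℕ := h.exists_orderOf_a.choose

theorem orderOf_a : orderOf (h.a : G ⧸ commutator G) = 2 ^ h.r := h.exists_orderOf_a.choose_spec

omit [IsMulCommutative ↥(commutator G)] [Finite G] in
theorem mem_commutator_iff {g : G} : g ∈ commutator G ↔ (g : G ⧸ commutator G) = 1 :=
  (QuotientGroup.eq_one_iff g).symm

theorem a_zpow_mem (i : ℤ) : h.a ^ i ∈ commutator G ↔ (2 ^ h.r : ℤ) ∣ i := by
  rw [mem_commutator_iff, QuotientGroup.mk_zpow, ← orderOf_dvd_iff_zpow_eq_one, h.orderOf_a]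
  norm_cast

omit [Finite G] in
theorem b_sq_mem : h.b * h.b ∈ commutator G := deepComm_le_commutator h.bb

theorem sep {i : ℤ} {e : ℤ} : h.a ^ i * h.b ^ e ∈ commutator G ↔ (2 ^ h.r : ℤ) ∣ i ∧ Even e := by
  have hbe : ∀ k : ℤ, h.b ^ (k + k) ∈ commutator G := fun k => by
    rw [← two_mul, zpow_mul, zpow_two]; exact zpow_mem h.b_sq_mem k
  constructor
  · intro hm
    rcases Int.even_or_odd e with ⟨k, rfl⟩ | ⟨k, rfl⟩
    · refine ⟨(h.a_zpow_mem i).1 ?_, ⟨k, rfl⟩⟩
      have := mul_mem hm (inv_mem (hbe k))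
      rwa [mul_inv_cancel_right] at this
    · exfalso
      have hb : h.a ^ i * h.b ∈ commutator G := by
        have := mul_mem hm (inv_mem (hbe k))
        rwa [two_mul, zpow_add_one, mul_assoc, mul_assoc,
          (Commute.self_zpow h.b _).inv_right.eq, mul_inv_cancel_left] at this
      have hmeta : Cfsg.IsMetacyclic (G ⧸ deepComm G) := by
        set π := QuotientGroup.mk' (deepComm G)
        have hcen : ∀ m ∈ commutator G, ∀ w : G, Commute (π m) (π w) := fun m hm' w => by
          rw [← commutatorElement_eq_one_iff_commute, ← map_commutatorElement]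
          exact (QuotientGroup.eq_one_iff _).2 (comm_mem_deepComm hm' w)
        have hab : Commute (π h.a) (π h.b) := by
          rw [show h.b = (h.a ^ i)⁻¹ * (h.a ^ i * h.b) by group, map_mul, map_inv, map_zpow]
          exact ((Commute.refl _).zpow_right i).inv_right.mul_right (hcen _ hb h.a).symm
        have hgen : Subgroup.closure {π h.a, π h.b} = (⊤ : Subgroup (G ⧸ deepComm G)) := by
          rw [← Subgroup.map_top_of_surjective π (QuotientGroup.mk'_surjective _), ← h.gen, MonoidHom.map_closure,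
            Set.image_pair]
        have hconj : ∀ i : ℤ, π h.b * π h.a ^ i * (π h.b)⁻¹ = π h.a ^ i := fun i => by
          rw [← (hab.zpow_left i).eq, mul_inv_cancel_right]
        refine metacyclic_of_gen hgen (fun i => ?_) (fun i => ?_)
        · rw [hconj]; exact zpow_mem (Subgroup.mem_zpowers _) i
        · rw [← (hab.zpow_left i).inv_right.eq, inv_mul_cancel_right]; exact zpow_mem (Subgroup.mem_zpowers _) i
      exact h.notMeta (metacyclic_lift h.isP hmeta)
  · rintro ⟨hi, k, rfl⟩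
    exact mul_mem ((h.a_zpow_mem i).2 hi) (hbe k)

omit [Finite G] in
theorem nf (g : G) : ∃ (i e : ℤ) (x : DP G), g = h.a ^ i * h.b ^ e * ι x := by
  have hcl : (g : G ⧸ commutator G) ∈ Subgroup.closure {(h.a : G ⧸ commutator G), (h.b : G ⧸ commutator G)} := by
    have : Subgroup.closure {(h.a : G ⧸ commutator G), (h.b : G ⧸ commutator G)} = ⊤ := by
      rw [← Subgroup.map_top_of_surjective (QuotientGroup.mk' (commutator G)) (QuotientGroup.mk'_surjective _),
        ← h.gen, MonoidHom.map_closure, Set.image_pair]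
      rfl
    rw [this]; trivial
  have hcm : ∀ u v : G ⧸ commutator G, Commute u v := fun u v => by
    obtain ⟨u, rfl⟩ := QuotientGroup.mk_surjective u
    obtain ⟨v, rfl⟩ := QuotientGroup.mk_surjective v
    rw [← commutatorElement_eq_one_iff_commute]
    exact (QuotientGroup.eq_one_iff _).2
      (Subgroup.commutator_mem_commutator (Subgroup.mem_top u) (Subgroup.mem_top v))
  have key : ∃ i e : ℤ, (g : G ⧸ commutator G) = (h.a : G ⧸ commutator G) ^ i * (h.b : G ⧸ commutator G) ^ e := by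
    generalize (g : G ⧸ commutator G) = w at hcl ⊢
    induction hcl using Subgroup.closure_induction with
    | mem u hu =>
      rcases hu with rfl | rfl
      · exact ⟨1, 0, by simp⟩
      · exact ⟨0, 1, by simp⟩
    | one => exact ⟨0, 0, by simp⟩
    | mul u v _ _ hu hv =>
      obtain ⟨i, e, rfl⟩ := hu
      obtain ⟨i', e', rfl⟩ := hv
      refine ⟨i + i', e + e', ?_⟩
      rw [zpow_add, zpow_add, mul_assoc, ← mul_assoc (_ ^ e), (hcm (_ ^ e) (_ ^ i')).eq]
      simp only [mul_assoc]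
    | inv u _ hu =>
      obtain ⟨i, e, rfl⟩ := hu
      exact ⟨-i, -e, by rw [mul_inv_rev, ← zpow_neg, ← zpow_neg, (hcm _ _).eq]⟩
  obtain ⟨i, e, he⟩ := key
  rw [← QuotientGroup.mk_zpow, ← QuotientGroup.mk_zpow, ← QuotientGroup.mk_mul] at he
  obtain ⟨x, hx⟩ := exists_ι (QuotientGroup.eq.1 he.symm)
  exact ⟨i, e, x, by rw [hx]; group⟩

theorem two_le_r : 2 ≤ h.r := by
  by_contra hr
  have hr1 : (2 ^ h.r : ℤ) ∣ 2 := by
    rcases (show h.r = 0 ∨ h.r = 1 by omega) with e | e <;> simp [e]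
  obtain ⟨x, hx⟩ := exists_ι ((h.a_zpow_mem 2).2 hr1)
  obtain ⟨k, hk⟩ := h.decomp x
  apply h.notMeta
  refine metacyclic_lift h.isP ?_
  set π := QuotientGroup.mk' (deepComm G) with hπ
  have hgen : Subgroup.closure {π h.a, π h.b} = (⊤ : Subgroup (G ⧸ deepComm G)) := by
    rw [← Subgroup.map_top_of_surjective π (QuotientGroup.mk'_surjective _), ← h.gen, MonoidHom.map_closure,
      Set.image_pair]
  have hd : ∀ y : DP G, y ∈ h.deep → π (ι y) = 1 := by
    intro y hy
    obtain ⟨u, v, rfl⟩ := h.mem_deep.1 hy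
    rw [ι_add, map_mul, two_zsmul, ι_add, h.X_apply, ι_sub, A, ι_act]
    have h1 : π (ι u * ι u) = 1 := (QuotientGroup.eq_one_iff _).2 (sq_mem_deepComm (ι_mem u))
    have h2 : π (h.a * ι v * h.a⁻¹ * (ι v)⁻¹) = 1 := by
      refine (QuotientGroup.eq_one_iff _).2 ?_
      rw [show h.a * ι v * h.a⁻¹ * (ι v)⁻¹ = ⁅ι v, h.a⁆⁻¹ by rw [commutatorElement_def]; group]
      exact inv_mem (comm_mem_deepComm (ι_mem v) _)
    rw [h1, h2, one_mul]
  have hcy : ∀ y : DP G, ∃ j : ℤ, π (ι y) = π (ι h.c) ^ j := fun y => by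
    obtain ⟨j, hj⟩ := h.decomp y
    refine ⟨j, ?_⟩
    have := hd _ hj
    rw [ι_sub, map_mul, map_inv, mul_inv_eq_one] at this
    rw [this, ι_zsmul, map_zpow]
  have hQ : commutator (G ⧸ deepComm G) ≤ Subgroup.zpowers (π (ι h.c)) := by
    intro w hw
    rw [commutator_def, ← Subgroup.map_top_of_surjective π (QuotientGroup.mk'_surjective _),
      ← Subgroup.map_commutator] at hw
    obtain ⟨m, hm, rfl⟩ := hw
    obtain ⟨y, rfl⟩ := exists_ι (commutator_def G ▸ hm : m ∈ commutator G)
    obtain ⟨j, hj⟩ := hcy y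
    exact hj ▸ zpow_mem (Subgroup.mem_zpowers _) j
  have hc2 : π (ι h.c) * π (ι h.c) = 1 := by
    rw [← map_mul]; exact (QuotientGroup.eq_one_iff _).2 (sq_mem_deepComm (ι_mem _))
  have ha2 : π (h.a * h.a) = π (ι h.c) ^ k := by
    have := hd _ hk
    rw [ι_sub, map_mul, map_inv, mul_inv_eq_one, ι_zsmul, map_zpow, hx, zpow_two] at this
    exact this
  rcases Int.even_or_odd k with ⟨l, rfl⟩ | ⟨l, rfl⟩
  · -- `a² = 1`: use `a * b`
    have ha : π (h.a * h.a) = 1 := by rw [ha2, ← two_mul, zpow_mul, zpow_two, hc2, one_zpow]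
    have hb : π (h.b * h.b) = 1 := (QuotientGroup.eq_one_iff _).2 h.bb
    have hab : π (h.a * h.b) * π (h.a * h.b) = π (ι h.c) := by
      have hai : π h.a⁻¹ = π h.a := by
        rw [map_inv, inv_eq_iff_mul_eq_one, ← map_mul, ha]
      have hbi : π h.b⁻¹ = π h.b := by
        rw [map_inv, inv_eq_iff_mul_eq_one, ← map_mul, hb]
      rw [h.ι_c, commutatorElement_def]
      simp only [map_mul]
      rw [← hai, ← hbi]
      simp only [map_inv, inv_inv]
      group
    refine metacyclic_of_comm_le (x := π (h.a * h.b)) (y := π h.b) ?_ (hQ.trans (Subgroup.zpowers_le.2 ?_))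
    · rw [eq_top_iff, ← hgen, Subgroup.closure_le]
      rintro g (rfl | rfl)
      · rw [SetLike.mem_coe, show π h.a = π (h.a * h.b) * (π h.b)⁻¹ by rw [map_mul, mul_inv_cancel_right]]
        exact mul_mem (Subgroup.subset_closure (by simp)) (inv_mem (Subgroup.subset_closure (by simp)))
      · exact Subgroup.subset_closure (by simp)
    · rw [← hab]; exact mul_mem (Subgroup.mem_zpowers _) (Subgroup.mem_zpowers _)
  · refine metacyclic_of_comm_le hgen (hQ.trans (Subgroup.zpowers_le.2 ?_))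
    rw [zpow_add_one, zpow_mul, zpow_two, hc2, one_zpow, one_mul, map_mul] at ha2
    rw [← ha2]
    exact mul_mem (Subgroup.mem_zpowers _) (Subgroup.mem_zpowers _)

/-- `a ^ (2 ^ r)` as an element of `P`. -/
noncomputable def m : DP G := toDP ((h.a_zpow_mem (2 ^ h.r)).2 dvd_rfl)

theorem ι_m : ι h.m = h.a ^ (2 ^ h.r : ℤ) := rfl

theorem A_m : h.A h.m = h.m := by
  refine ι_inj ?_
  rw [A, ι_act, h.ι_m]
  group

theorem X_m : h.X h.m = 0 := by rw [h.X_apply, h.A_m, sub_self]

/-- `[a ^ k, b]`, as an element of `P`. -/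
noncomputable def S : ℕ → DP G
  | 0 => 0
  | k + 1 => h.A (S k) + h.c

omit [Finite G] in
theorem ι_S (k : ℕ) : ι (h.S k) = ⁅h.a ^ k, h.b⁆ := by
  induction k with
  | zero => simp [S]
  | succ k ih =>
    rw [S, ι_add, A, ι_act, ih, h.ι_c, pow_succ', commutatorElement_def, commutatorElement_def,
      commutatorElement_def]
    group

theorem m_sub_B_m : h.m - h.B h.m = h.S (2 ^ h.r) := by
  refine ι_inj ?_
  rw [ι_sub, h.ι_S, B, ι_act, h.ι_m, commutatorElement_def]
  norm_cast
  group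

end Exponent

end Pre

end CfsgLib.Fsys.Bicyclic
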