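import Cfsg.Agent.Lib.FusionSystem.Bicyclic.EssA

/-!
Non-cyclic commutator subgroup: candidates containing `b` and lying over `a ^ (2 ^ e)`, `2 ≤ e`, `3 ≤ r`.
-/

set_option autoImplicit false
set_option linter.style.haveILetI false
set_option linter.unusedSectionVars false

open scoped commutatorElement IsMulCommutative

namespace CfsgLib.Fsys.Bicyclic

variable {G : Type*} [Group G] [Finite G] [IsMulCommutative ↥(commutator G)]

namespace Coord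

variable {h : Pre G} (K : Coord h) {H : Subgroup G}
include K

theorem comm_ι_pow_b (w : DP G) (k : ℕ) : ⁅ι w * h.a ^ k, h.b⁆ = ι (h.S k + (2 : ℤ) • K.U w) := by
  rw [show h.S k + (2 : ℤ) • K.U w = w + h.S k + -h.B w by
    rw [show (2 : ℤ) • K.U w = -(h.B w - w) by rw [K.B_sub, neg_neg]]; abel]
  rw [ι_add, ι_add, ι_neg, h.ι_S, Pre.B, ι_act]
  simp only [commutatorElement_def]
  group

theorem comm_ι_pow_ι (w y : DP G) (k : ℕ) : ⁅ι w * h.a ^ k, ι y⁆ = ι ((h.A ^ k) y - y) := by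
  rw [comm_ι_right, map_mul, act_ι, one_mul, h.act_a_pow]

/-- For `3 ≤ r` the commutator subgroup is `ℤ c + ℤ v` with an involution `v`. -/
theorem shape_three (hr : 3 ≤ h.r) : ∃ (v : DP G) (j' μ : ℤ), (2 : ℤ) • v = 0 ∧ h.m = (2 * μ) • h.c + v ∧
    h.d = (2 * j') • h.c + v ∧ ∀ x : DP G, ∃ k l : ℤ, x = k • h.c + l • v := by
  obtain ⟨N, hN1, hN, -⟩ := h.exists_pow_kill
  have hNz : ∀ (z : ℤ) (y : DP G), (2 ^ N * z) • y = 0 := fun z y => by rw [mul_smul, hN]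
  obtain ⟨t, ht⟩ := kap_four K.j (2 ^ (h.r - 2))
  have h4 : 4 * 2 ^ (h.r - 2) = 2 ^ h.r := by
    rw [show (4 : ℕ) = 2 ^ 2 by norm_num, ← pow_add]; congr 1; omega
  rw [h4] at ht
  push_cast at ht
  have hp : (2 : ℤ) ^ (h.r - 2) = 2 * 2 ^ (h.r - 3) := by rw [← pow_succ']; congr 1; omega
  set κ1 : ℤ := 2 ^ (h.r - 3) + t with hκ1
  have hκ : kap K.j (2 ^ h.r) = 4 * κ1 := by rw [ht, hp, hκ1]; ring
  have h2 := K.two_m
  rw [K.S_eq, hκ] at h2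
  obtain ⟨ω, β, hω⟩ : ∃ ω β : ℤ, (1 - 2 * κ1 * K.ε) * ω = 1 + 2 ^ N * β := by
    have hcop : IsCoprime (1 - 2 * κ1 * K.ε) ((2 : ℤ) ^ N) := by
      refine IsCoprime.pow_right ?_
      exact ⟨1, κ1 * K.ε, by ring⟩
    obtain ⟨a', b', hab⟩ := hcop
    exact ⟨a', -b', by linear_combination hab⟩
  set μ := ω * (2 ^ (h.r - 2) + 2 * K.j * κ1) with hμ
  set v := h.m - (2 * μ) • h.c with hv
  have h2v : (2 : ℤ) • v = 0 := by
    have e1 : (2 * (1 - 2 * κ1 * K.ε)) • h.m = (4 * (2 ^ (h.r - 2) + 2 * K.j * κ1)) • h.c := by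
      rw [Nat.cast_pow, Nat.cast_ofNat, show (2 : ℤ) ^ h.r = 4 * 2 ^ (h.r - 2) by
        rw [show (4 : ℤ) = 2 ^ 2 by norm_num, ← pow_add]; congr 1; omega, K.hd] at h2
      linear_combination (norm := module) h2
    have e2 := congrArg (fun y => ω • y) e1
    simp only [smul_smul] at e2
    rw [show ω * (2 * (1 - 2 * κ1 * K.ε)) = 2 * ((1 - 2 * κ1 * K.ε) * ω) by ring, hω, mul_add, mul_one, add_smul,
      show (2 : ℤ) * (2 ^ N * β) = 2 ^ N * (2 * β) by ring, hNz, add_zero] at e2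
    rw [hv, smul_sub, smul_smul, e2, sub_eq_zero, hμ]
    congr 1
    ring
  refine ⟨v, K.j + K.ε * μ, μ, h2v, by rw [hv]; abel, ?_, fun x => ?_⟩
  · obtain ⟨e, he⟩ := K.odd
    have : K.ε • v = v := by rw [he, add_smul, one_smul, mul_comm, mul_smul, h2v, smul_zero, zero_add]
    conv_rhs => rw [← this]
    rw [hv, K.hd]; module
  · obtain ⟨k, l, rfl⟩ := K.gen x
    exact ⟨k + 2 * l * μ, l, by rw [hv]; module⟩

/-- Data of the decomposition used below. -/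
theorem two_X_mem_Phi {v : DP G} {j' : ℤ} (h2v : (2 : ℤ) • v = 0) (hd : h.d = (2 * j') • h.c + v)
    (hgen : ∀ x : DP G, ∃ k l : ℤ, x = k • h.c + l • v) (hvH : ι v ∈ H) {y : DP G} (hy : ι y ∈ H) :
    ι ((2 : ℤ) • h.X y) ∈ Phi H := by
  obtain ⟨k, l, rfl⟩ := hgen y
  have hkc : ι (k • h.c) ∈ H := by
    rw [show k • h.c = (k • h.c + l • v) - l • v by abel, ι_sub]
    exact mul_mem hy (inv_mem (ι_zsmul_mem hvH l))
  have e1 : (2 : ℤ) • h.X (k • h.c + l • v) = (2 : ℤ) • ((2 * j') • (k • h.c)) := by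
    rw [map_add, map_zsmul, map_zsmul, show h.X h.c = h.d from rfl, smul_add, smul_smul (2 : ℤ) l, mul_comm (2 : ℤ) l,
      mul_smul, ← map_zsmul h.X, h2v, map_zero, smul_zero, add_zero, hd]
    linear_combination (norm := module) k • h2v
  rw [e1]
  exact K.two_mem_Phi (ι_zsmul_mem hkc _)

/-- Only `b` and the commutator subgroup, `3 ≤ r`. -/
theorem b_exp_top (hs : Stab H) (hr : 3 ≤ h.r) (hb : h.b ∈ H)
    (hexp : ∀ (i f : ℕ) (x : DP G), h.a ^ i * h.b ^ f * ι x ∈ H → 2 ^ h.r ∣ i) : False := by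
  obtain ⟨v, j', μ, h2v, -, hd, hgen'⟩ := K.shape_three hr
  have hvH : ι v ∈ H := K.torsion_mem hs h2v
  set K0 := 2 ^ (h.r - 1) with hK0
  obtain ⟨t, ht⟩ := kap_four K.j (2 ^ (h.r - 3))
  have h4 : 4 * 2 ^ (h.r - 3) = K0 := by
    rw [hK0, show (4 : ℕ) = 2 ^ 2 by norm_num, ← pow_add]; congr 1; omega
  rw [h4] at ht
  obtain ⟨w, hw⟩ := K.U_surj (-((2 * (2 : ℤ) ^ (h.r - 3)) • h.c + (((2 : ℤ) ^ (h.r - 3)) + 2 * t) • h.d))
  have hn : ι w * h.a ^ K0 ∈ H := by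
    refine hs.mem_of_central' h.isP (Y := {h.b} ∪ ι '' {y | ι y ∈ H}) ?_ ?_ ?_
    · intro g hg
      obtain ⟨i, f, y, hf, rfl⟩ := h.nf_nat g
      obtain ⟨i', rfl⟩ := hexp i f y hg
      have hpm : h.a ^ (2 ^ h.r * i') = ι ((i' : ℤ) • h.m) := by
        rw [ι_zsmul, h.ι_m, ← zpow_natCast, ← zpow_mul]; norm_cast
      rw [hpm, ι_mul, mul_assoc, ← ι_add] at hg ⊢
      have hbf : h.b ^ f ∈ H := pow_mem hb f
      refine mul_mem (pow_mem (Subgroup.subset_closure (k := {h.b} ∪ ι '' {y | ι y ∈ H}) (Or.inl rfl)) f) ?_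
      exact Subgroup.subset_closure (k := {h.b} ∪ ι '' {y | ι y ∈ H})
        (Or.inr ⟨_, by simpa using mul_mem (inv_mem hbf) hg, rfl⟩)
    · rintro g (rfl | ⟨y, hy, rfl⟩) <;> assumption
    · rintro g (rfl | ⟨y, hy, rfl⟩)
      · rw [K.comm_ι_pow_b, hw, K.S_eq, ht, ← h4]
        push_cast
        convert one_mem (Phi H) using 1
        rw [← ι_zero]; congr 1; module
      · obtain ⟨s, hs'⟩ := ee_even K.j (2 * 2 ^ (h.r - 3))
        rw [K.comm_ι_pow_ι, K.A_pow_sub, ← h4, show 4 * 2 ^ (h.r - 3) = 2 * (2 * 2 ^ (h.r - 3)) by ring, hs',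
          show 2 * (1 + K.j) * s = ((1 + K.j) * s) * 2 by ring, mul_smul]
        exact zsmul_mem_Phi (K.two_X_mem_Phi h2v hd hgen' hvH hy) _
  rw [ι_mul] at hn
  have := hexp K0 0 _ (by rw [pow_zero, mul_one]; exact hn)
  have h2 := Nat.le_of_dvd (by positivity) this
  rw [hK0] at h2
  exact absurd ((Nat.pow_le_pow_iff_right (by norm_num : 1 < 2)).1 h2) (by omega)

/-- `b ∈ H` and `H` lies over `a ^ (2 ^ e)`, `2 ≤ e < r`. -/
theorem b_exp_mid (hs : Stab H) {e : ℕ} (he : 2 ≤ e) (her : e < h.r) (hb : h.b ∈ H) (u0 : DP G)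
    (hg : h.a ^ 2 ^ e * ι u0 ∈ H)
    (hexp : ∀ (i f : ℕ) (x : DP G), h.a ^ i * h.b ^ f * ι x ∈ H → 2 ^ e ∣ i)
    (hgen : ∀ v ∈ H, ∃ l f : ℕ, ∃ y : DP G, f ≤ 1 ∧ ι y ∈ H ∧ v = (h.a ^ 2 ^ e * ι u0) ^ l * h.b ^ f * ι y) :
    False := by
  obtain ⟨v, j', μ, h2v, hm, hd, hgen'⟩ := K.shape_three (by omega)
  have hvH : ι v ∈ H := K.torsion_mem hs h2v
  set g := h.a ^ 2 ^ e * ι u0 with hgdef
  set y0 := (h.A ^ 2 ^ e) u0 with hy0
  have heq : g = ι y0 * h.a ^ 2 ^ e := by rw [hgdef, hy0, ← h.act_a_pow, ← mul_ι]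
  set Y : Set G := {g, h.b} ∪ ι '' {y | ι y ∈ H} with hYdef
  have hY : H ≤ Subgroup.closure Y := fun x hx => by
    obtain ⟨l, f, y, -, hy, rfl⟩ := hgen x hx
    exact mul_mem (mul_mem (pow_mem (Subgroup.subset_closure (show g ∈ Y from Or.inl (Or.inl rfl))) l)
      (pow_mem (Subgroup.subset_closure (show h.b ∈ Y from Or.inl (Or.inr rfl))) f))
      (Subgroup.subset_closure (show ι y ∈ Y from Or.inr ⟨y, hy, rfl⟩))
  have hYH : Y ⊆ H := by rintro x ((rfl | rfl) | ⟨y, hy, rfl⟩) <;> assumption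
  obtain ⟨e2, rfl⟩ : ∃ e2, e = e2 + 2 := ⟨e - 2, by omega⟩
  set K0 := 2 ^ (e2 + 1) with hK0
  have hKE : K0 * 2 = 2 ^ (e2 + 2) := by rw [hK0, ← pow_succ]
  have hnot : ∀ y : DP G, ι y * h.a ^ K0 ∉ H := by
    intro y hy
    rw [ι_mul] at hy
    have := Nat.le_of_dvd (by positivity) (hexp K0 0 _ (by rw [pow_zero, mul_one]; exact hy))
    rw [hK0] at this
    exact absurd ((Nat.pow_le_pow_iff_right (by norm_num : 1 < 2)).1 this) (by omega)
  -- a square congruent to `v`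
  obtain ⟨k, hk⟩ : ∃ k, h.r = e2 + 2 + (k + 1) := ⟨h.r - e2 - 3, by omega⟩
  obtain ⟨z, hz⟩ := K.pow_two_pow y0 (2 ^ (e2 + 2)) k
    (Nat.even_mul.2 (Or.inl ((Nat.even_pow).2 ⟨even_two, by omega⟩)))
  rw [← heq, ← pow_add, ← hk, ← zpow_natCast h.a, Nat.cast_pow, Nat.cast_ofNat, ← h.ι_m, ← ι_add] at hz
  set x0 := (2 : ℤ) • z + h.m with hx0
  have hx0Phi : ι x0 ∈ Phi H := by
    rw [← hz, pow_succ, pow_mul, pow_two]
    exact sq_mem_Phi h.isP (pow_mem hg _)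
  obtain ⟨k2, l2, hz2⟩ := hgen' z
  have hx0v : x0 = (2 * (k2 + μ)) • h.c + v := by
    rw [hx0, hm, hz2]
    linear_combination (norm := module) l2 • h2v
  obtain ⟨N, hN1, hN, -⟩ := h.exists_pow_kill
  obtain ⟨i, hi⟩ := exists_two_pow ((Jof H).comap (zmultiplesHom (DP G) h.c))
    (show ι (((2 : ℤ) ^ N) • h.c) ∈ H by rw [hN, ι_zero]; exact one_mem H)
  have hJ : ∀ k : ℤ, ι (k • h.c) ∈ H ↔ (2 : ℤ) ^ i ∣ k := hi
  rcases Nat.eq_zero_or_pos i with hi0 | hipos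
  · -- the whole commutator subgroup lies in `H`
    have hall : ∀ y : DP G, ι y ∈ H := fun y => by
      obtain ⟨k, l, rfl⟩ := hgen' y
      rw [ι_add]; exact mul_mem ((hJ k).2 (by simp [hi0])) (ι_zsmul_mem hvH l)
    have hdPhi : ι h.d ∈ Phi H := by
      rw [K.hd, show h.m = x0 - (2 : ℤ) • z by rw [hx0]; abel, mul_smul, ι_add, smul_sub, ι_sub,
        smul_comm K.ε]
      exact mul_mem (K.two_mem_Phi (hall _)) (mul_mem (zsmul_mem_Phi hx0Phi _) (inv_mem (K.two_mem_Phi (hall _))))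
    refine hnot 0 ?_
    rw [ι_zero, one_mul]
    refine hs.mem_of_central' h.isP hY hYH ?_
    rintro x ((rfl | rfl) | ⟨y, -, rfl⟩)
    · rw [hgdef, h.comm_pow_g0, K.A_pow_sub, map_zsmul, K.A_pow (2 ^ (e2 + 2)) (h.X u0), ← map_zsmul h.X,
        ← map_add h.X]
      exact zsmul_mem_Phi (K.X_d_mem_Phi hdPhi _) _
    · rw [h.comm_a_pow_b, K.S_eq, hK0, Nat.cast_pow, Nat.cast_ofNat, pow_succ', mul_smul, ι_add]
      exact mul_mem (K.two_mem_Phi (hall _)) (zsmul_mem_Phi hdPhi _)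
    · rw [h.comm_pow_ι, K.A_pow_sub]
      exact zsmul_mem_Phi (K.X_d_mem_Phi hdPhi _) _
  obtain ⟨i, rfl⟩ : ∃ i', i = i' + 1 := ⟨i - 1, by omega⟩
  set w := (2 : ℤ) ^ (i + 1) • h.c with hw
  have hwH : ι w ∈ H := (hJ _).2 dvd_rfl
  have h2id : ι ((2 : ℤ) ^ (i + 1) • h.d) ∈ Phi H := by
    rw [show (2 : ℤ) ^ (i + 1) • h.d = (2 : ℤ) • (j' • w) by
      rw [hd, hw]; linear_combination (norm := (rw [pow_succ]; module)) ((2 : ℤ) ^ i) • h2v]
    exact K.two_mem_Phi (ι_zsmul_mem hwH _)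
  set n := (2 : ℤ) ^ i • h.c with hn
  have hnb : ∀ σ : ℤ, (2 : ℤ) • K.U (σ • n) = σ • w - (σ * K.p) • ((2 : ℤ) ^ (i + 1) • h.d) := fun σ => by
    rw [U, hn, hw, map_zsmul, map_zsmul, show h.X h.c = h.d from rfl, pow_succ]; module
  have hng : ∀ σ : ℤ, ι (σ • n - (h.A ^ 2 ^ (e2 + 2)) (σ • n)) ∈ Phi H := fun σ => by
    obtain ⟨t, ht⟩ := ee_even K.j (2 ^ (e2 + 1))
    rw [← neg_sub, K.A_pow_sub, map_zsmul, hn, map_zsmul, show h.X h.c = h.d from rfl, ι_neg,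
      show 2 ^ (e2 + 2) = 2 * 2 ^ (e2 + 1) by rw [← pow_succ'], ht, smul_smul, smul_smul,
      show 2 * (1 + K.j) * t * σ * 2 ^ i = ((1 + K.j) * t * σ) * 2 ^ (i + 1) by ring, mul_smul]
    exact inv_mem (zsmul_mem_Phi h2id _)
  have hwPhi : ι w ∉ Phi H := by
    intro hwP
    have hnH : ι n ∈ H := by
      refine hs.mem_of_central' h.isP hY hYH ?_
      rintro x ((rfl | rfl) | ⟨y, -, rfl⟩)
      · rw [hgdef, h.comm_ι_g0]; simpa using hng 1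
      · rw [comm_ι_left, show act h.b = h.B from rfl, ← neg_sub, K.B_sub, neg_neg, ← one_smul ℤ n, hnb, ι_sub,
          one_smul]
        exact mul_mem hwP (inv_mem (zsmul_mem_Phi h2id _))
      · rw [comm_ι_left, act_ι]; simp
    have := Int.le_of_dvd (by positivity) ((hJ _).1 hnH)
    rw [pow_succ] at this
    have : (0 : ℤ) < 2 ^ i := by positivity
    omega
  -- the commutator of `g` and `b`
  obtain ⟨κe, hκe⟩ : ∃ κe : ℤ, kap K.j (2 ^ (e2 + 2)) = 2 * κe := by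
    obtain ⟨t, ht⟩ := kap_four K.j (2 ^ e2)
    rw [show 2 ^ (e2 + 2) = 4 * 2 ^ e2 by ring, ht]
    exact ⟨(2 ^ e2 : ℕ) + 2 * t, by ring⟩
  obtain ⟨k1, l1, hy1⟩ := hgen' (K.U y0)
  set γ1 := k1 + 2 ^ (e2 + 1) + 2 * κe * j' with hγ1
  set u := h.S (2 ^ (e2 + 2)) + (2 : ℤ) • K.U y0 with hu
  have hueq : u = (2 * γ1) • h.c := by
    rw [hu, hy1, K.S_eq, hκe, hd, hγ1, Nat.cast_pow, Nat.cast_ofNat, pow_succ']
    linear_combination (norm := module) (κe + l1) • h2v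
  have huPhi : ι u ∈ Phi H := by
    rw [hu, ← K.comm_ι_pow_b, ← heq]
    exact comm_mem_Phi h.isP hg hb
  obtain ⟨s, hs2⟩ : ∃ s : ℤ, u = (2 : ℤ) • (s • w) := by
    obtain ⟨δ, hδ⟩ := (hJ _).1 (show ι ((2 * γ1) • h.c) ∈ H by rw [← hueq]; exact Phi_le huPhi)
    rcases Int.even_or_odd δ with ⟨s, rfl⟩ | ⟨s, rfl⟩
    · exact ⟨s, by rw [hueq, hδ, hw]; module⟩
    · exfalso
      apply hwPhi
      rw [show w = u - (2 : ℤ) • (s • w) by rw [hueq, hδ, hw]; module, ι_sub]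
      exact mul_mem huPhi (inv_mem (K.two_mem_Phi (ι_zsmul_mem hwH s)))
  -- an element over `a ^ (2 ^ (e - 1))`
  set κ := kap K.j K0 with hκ
  obtain ⟨w1, hw1⟩ := K.U_surj (-(((2 : ℤ) ^ e2 + j' * κ) • h.c))
  have hTb : h.S K0 + (2 : ℤ) • K.U w1 = κ • v := by
    rw [hw1, K.S_eq, ← hκ, hd, hK0, Nat.cast_pow, Nat.cast_ofNat, pow_succ']
    module
  obtain ⟨eK, heK⟩ : ∃ eK : ℤ, ee K.j K0 = eK * 2 := by
    obtain ⟨t, ht⟩ := ee_even K.j (2 ^ e2)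
    exact ⟨(1 + K.j) * t, by rw [hK0, show 2 ^ (e2 + 1) = 2 * 2 ^ e2 by rw [pow_succ'], ht]; ring⟩
  have hTy : ∀ y, ι y ∈ H → ι ((h.A ^ K0) y - y) ∈ Phi H := fun y hy => by
    rw [K.A_pow_sub, heK, mul_smul]
    exact zsmul_mem_Phi (K.two_X_mem_Phi h2v hd hgen' hvH hy) _
  have hXJ : ∀ y, ι y ∈ H → ι (h.X y) ∈ H := by
    intro y hy
    obtain ⟨k, l, rfl⟩ := hgen' y
    have hkc : ι (k • h.c) ∈ H := by
      rw [show k • h.c = (k • h.c + l • v) - l • v by abel, ι_sub]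
      exact mul_mem hy (inv_mem (ι_zsmul_mem hvH l))
    rw [map_add, map_zsmul, map_zsmul, show h.X h.c = h.d from rfl, hd, smul_add, smul_comm k, ι_add, ι_add]
    refine mul_mem (mul_mem (ι_zsmul_mem hkc _) (ι_zsmul_mem hvH _)) (ι_zsmul_mem (K.torsion_mem hs ?_) _)
    rw [← map_zsmul, h2v, map_zero]
  set yy := w1 + (h.A ^ K0) w1 - y0 with hyy
  have hTT : ι w1 * h.a ^ K0 * (ι w1 * h.a ^ K0) = ι yy * g := by
    rw [h.sq_pow, hKE, heq, ← mul_assoc, ← ι_add, hyy, sub_add_cancel]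
  have hyyJ : ι yy ∈ H := by
    have h1 : h.S (2 ^ (e2 + 2)) + (2 : ℤ) • K.U (w1 + (h.A ^ K0) w1) = (h.A ^ K0) (κ • v) + κ • v := by
      apply ι_inj
      have hconj : ι ((h.A ^ K0) (κ • v)) = ι w1 * h.a ^ K0 * ι (κ • v) * (ι w1 * h.a ^ K0)⁻¹ := by
        rw [← ι_act, map_mul, act_ι, one_mul, h.act_a_pow]
      rw [← K.comm_ι_pow_b, ← hKE, ← h.sq_pow, ι_add, hconj, ← hTb, ← K.comm_ι_pow_b]
      simp only [commutatorElement_def]
      group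
    have h2 : (2 : ℤ) • (K.U yy + s • w) = 0 := by
      have hU : K.U (w1 + (h.A ^ K0) w1) = K.U yy + K.U y0 := by
        rw [hyy]; simp only [U, map_sub, smul_sub]; module
      rw [hU, smul_add, ← add_assoc, add_comm (h.S _), add_assoc, ← hu, hs2, ← smul_add] at h1
      rw [h1, K.A_pow, map_zsmul, heK]
      linear_combination (norm := (simp only [map_zsmul]; module)) κ • h2v +
        (eK * κ) • (congrArg h.X h2v).trans (map_zero h.X)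
    have hUyy : ι (K.U yy) ∈ H := by
      rw [show K.U yy = (K.U yy + s • w) - s • w by abel, ι_sub]
      exact mul_mem (K.torsion_mem hs h2) (inv_mem (ι_zsmul_mem hwH s))
    have hUJ : ∀ y : Jof H, K.U y ∈ Jof H := fun y => by
      rw [U, mem_Jof, ι_sub]
      exact mul_mem y.2 (inv_mem (ι_zsmul_mem (hXJ _ y.2) _))
    have hinj : Function.Injective (fun y : Jof H => (⟨K.U y, hUJ y⟩ : Jof H)) := fun a b hab =>
      Subtype.ext (K.U_inj (congrArg Subtype.val hab))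
    obtain ⟨⟨y, hy⟩, hy'⟩ := Finite.injective_iff_surjective.1 hinj ⟨_, hUyy⟩
    rw [← K.U_inj (congrArg Subtype.val hy')]
    exact hy
  -- correct it by `n`
  obtain ⟨l, hl⟩ := (hJ _).1 (show ι ((2 * (k2 + μ)) • h.c) ∈ H by
    rw [show (2 * (k2 + μ)) • h.c = x0 - v by rw [hx0v]; abel, ι_sub]
    exact mul_mem (Phi_le hx0Phi) (inv_mem hvH))
  refine hnot ((κ * l) • n + w1) (hs.mem_of_central' h.isP hY hYH ?_)
  have hsplit : ∀ (x : G) (p1 : DP G), ⁅ι w1 * h.a ^ K0, x⁆ = ι p1 →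
      ⁅ι ((κ * l) • n + w1) * h.a ^ K0, x⁆ = ι p1 * ⁅ι ((κ * l) • n), x⁆ := fun x p1 hp => by
    rw [← hp, ι_add, mul_assoc (ι _) (ι w1)]
    have h3 : ι ((κ * l) • n) * ⁅ι w1 * h.a ^ K0, x⁆ = ⁅ι w1 * h.a ^ K0, x⁆ * ι ((κ * l) • n) := by
      rw [hp, ι_comm]
    generalize ι w1 * h.a ^ K0 = T at h3 ⊢
    generalize ι ((κ * l) • n) = p at h3 ⊢
    rw [show ⁅p * T, x⁆ = p * ⁅T, x⁆ * (x * p⁻¹ * x⁻¹) by rw [commutatorElement_def, commutatorElement_def]; group,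
      h3, commutatorElement_def p x]
    group
  rintro x ((rfl | rfl) | ⟨y, hy, rfl⟩)
  · have hTg : ⁅ι w1 * h.a ^ K0, g⁆ = ι ((h.A ^ K0) (-yy) - -yy) := by
      rw [show g = ι (-yy) * (ι w1 * h.a ^ K0 * (ι w1 * h.a ^ K0)) by
        rw [hTT, ← mul_assoc, ← ι_add, neg_add_cancel, ι_zero, one_mul], ← K.comm_ι_pow_ι w1]
      simp only [commutatorElement_def]
      group
    rw [hsplit _ _ hTg, hgdef, h.comm_ι_g0]
    exact mul_mem (hTy _ (by rw [ι_neg]; exact inv_mem hyyJ)) (hng _)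
  · rw [hsplit _ (κ • v) (by rw [K.comm_ι_pow_b, hTb]), comm_ι_left, show act h.b = h.B from rfl, ← neg_sub,
      K.B_sub, neg_neg, hnb, ← ι_add,
      show κ • v + ((κ * l) • w - (κ * l * K.p) • ((2 : ℤ) ^ (i + 1) • h.d)) =
        κ • x0 - (κ * l * K.p) • ((2 : ℤ) ^ (i + 1) • h.d) by rw [hx0v, hl, hw]; module, ι_sub]
    exact mul_mem (zsmul_mem_Phi hx0Phi _) (inv_mem (zsmul_mem_Phi h2id _))
  · rw [hsplit _ _ (K.comm_ι_pow_ι w1 y K0), comm_ι_left, act_ι]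
    simp only [AddMonoid.End.coe_one, id_eq, sub_self, ι_zero, mul_one]
    exact hTy y hy

end Coord

end CfsgLib.Fsys.Bicyclic
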