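import Mathlib

/-!
Transvections of a small elementary abelian group, and the two facts about subgroups generated by them
which exclude an elementary abelian essential subgroup of order eight.
-/

set_option autoImplicit false
set_option linter.style.haveILetI false
set_option linter.unusedSectionVars false

namespace CfsgLib.Fsys.Bicyclic

variable {X : Type*} [CommGroup X] [Finite X]

/-- The transvection with axis `W` and centre `l`. -/
structure Tr (f : MulAut X) (l : X) (W : Subgroup X) : Prop where
  sq : l * l = 1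
  mem : l ∈ W
  two : ∀ x y : X, x ∉ W → y ∉ W → x * y ∈ W
  fixes : ∀ x, x ∈ W → f x = x
  moves : ∀ x, x ∉ W → f x = x * l

variable {f f' : MulAut X} {l l' : X} {W W' : Subgroup X}

theorem Tr.invol (h : Tr f l W) : f * f = 1 := by
  refine MulEquiv.ext fun x => ?_
  show f (f x) = x
  by_cases hx : x ∈ W
  · rw [h.fixes x hx, h.fixes x hx]
  · rw [h.moves x hx, map_mul, h.moves x hx, h.fixes l h.mem, mul_assoc, h.sq, mul_one]

theorem Tr.conj (h : Tr f l W) (γ : MulAut X) : Tr (γ * f * γ⁻¹) (γ l) (W.map γ.toMonoidHom) := by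
  have hmem : ∀ x, x ∈ W.map γ.toMonoidHom ↔ γ⁻¹ x ∈ W := fun x => by
    rw [Subgroup.mem_map]
    constructor
    · rintro ⟨y, hy, rfl⟩
      show γ⁻¹ (γ y) ∈ W
      rwa [MulAut.inv_apply_self]
    · exact fun hx => ⟨_, hx, MulAut.apply_inv_self _ γ x⟩
  refine ⟨by rw [← map_mul, h.sq, map_one], ⟨l, h.mem, rfl⟩, fun x y hx hy => ?_, fun x hx => ?_, fun x hx => ?_⟩
  · rw [hmem] at hx hy ⊢
    rw [map_mul]
    exact h.two _ _ hx hy
  · show γ (f (γ⁻¹ x)) = x
    rw [h.fixes _ ((hmem x).1 hx), MulAut.apply_inv_self]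
  · show γ (f (γ⁻¹ x)) = x * γ l
    rw [h.moves _ (fun e => hx ((hmem x).2 e)), map_mul, MulAut.apply_inv_self]

/-- If the centre of one lies in the axis of the other, the product has order dividing four. -/
theorem Tr.pow_four (h : Tr f l W) (h' : Tr f' l' W') (hl : l' ∈ W) : (f * f') ^ 4 = 1 := by
  set g := (f * f') ^ 2 with hg
  have hfl : f l' = l' := h.fixes l' hl
  have hgl : g l' = l' := by
    rw [hg, pow_two]
    show f (f' (f (f' l'))) = l'
    rw [h'.fixes l' h'.mem, hfl, h'.fixes l' h'.mem, hfl]
  have hgx : ∀ x, g x = x ∨ g x = x * l' := by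
    intro x
    rw [hg, pow_two]
    show f (f' (f (f' x))) = x ∨ f (f' (f (f' x))) = x * l'
    by_cases hx' : x ∈ W'
    · rw [h'.fixes x hx']
      by_cases hx : x ∈ W
      · left; rw [h.fixes x hx, h'.fixes x hx', h.fixes x hx]
      · rw [h.moves x hx]
        by_cases hl2 : l ∈ W'
        · left
          rw [h'.fixes _ (mul_mem hx' hl2), map_mul, h.moves x hx, h.fixes l h.mem, mul_assoc, h.sq, mul_one]
        · right
          rw [h'.moves _ (fun e => hl2 (by simpa using mul_mem (inv_mem hx') e)), map_mul, map_mul, h.moves x hx,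
            h.fixes l h.mem, hfl, mul_assoc x, h.sq, mul_one]
    · rw [h'.moves x hx']
      by_cases hx : x ∈ W
      · left
        rw [h.fixes _ (mul_mem hx hl), map_mul, h'.moves x hx', h'.fixes l' h'.mem, mul_assoc, h'.sq, mul_one,
          h.fixes x hx]
      · by_cases hl2 : l ∈ W'
        · left
          simp only [map_mul, h.moves x hx, h.fixes l h.mem, hfl, h'.moves x hx', h'.fixes l' h'.mem, h'.fixes l hl2]
          rw [show x * l * l' * l * l' = x * (l * l) * (l' * l') by ac_rfl, h.sq, h'.sq, mul_one, mul_one]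
        · right
          simp only [map_mul, h.moves x hx, h.fixes l h.mem, hfl, h'.moves x hx', h'.fixes l' h'.mem, h'.moves l hl2]
          rw [show x * l * l' * (l * l') * l' = x * l' * (l * l) * (l' * l') by ac_rfl, h.sq, h'.sq, mul_one,
            mul_one]
  have : g * g = 1 := by
    refine MulEquiv.ext fun x => ?_
    show g (g x) = x
    rcases hgx x with e | e
    · rw [e, e]
    · rw [e, map_mul, e, hgl, mul_assoc, h'.sq, mul_one]
  rw [show (4 : ℕ) = 2 + 2 from rfl, pow_add, ← hg, this]

end CfsgLib.Fsys.Bicyclic
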