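import Cfsg.Agent.Lib.FusionSystem.Bicyclic.EssD
import Cfsg.Agent.Lib.FusionSystem.Bicyclic.Transvection

/-!
The elementary abelian candidate `⟨b⟩ × Ω₁(G')`: its automizer has no room for a strongly embedded subgroup.
-/

set_option autoImplicit false
set_option linter.style.haveILetI false
set_option linter.unusedSectionVars false

open scoped commutatorElement IsMulCommutative

namespace CfsgLib.Fsys.Bicyclic

section Sylow

variable {A : Type*} [Group A] [Finite A] (T : Sylow 2 A)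

theorem mem_sylow_of_normalizes {u : A} (hu : u * u = 1) (hn : ∀ t ∈ (T : Subgroup A), u * t * u⁻¹ ∈ (T : Subgroup A)) :
    u ∈ (T : Subgroup A) := by
  have hZ : IsPGroup 2 ↥(Subgroup.zpowers u) := by
    rintro ⟨v, hv⟩
    obtain ⟨k, rfl⟩ := Subgroup.mem_zpowers_iff.1 hv
    refine ⟨1, Subtype.ext ?_⟩
    show (u ^ k) ^ (2 ^ 1) = 1
    rw [pow_one, ← zpow_natCast, ← zpow_mul, mul_comm, zpow_mul, Nat.cast_ofNat, zpow_two, hu, one_zpow]
  have hle : Subgroup.zpowers u ≤ Subgroup.normalizer ((T : Subgroup A) : Set A) :=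
    Subgroup.zpowers_le.2 (Subgroup.mem_normalizer_fintype hn)
  have := T.3 (hZ.to_sup_of_normal_right' T.2 hle) le_sup_right
  exact this.le (Subgroup.mem_sup_left (Subgroup.mem_zpowers u))

theorem invol_eq_of_cyclic (hT : IsCyclic ↥(T : Subgroup A)) {x y : A} (hx : x * x = 1) (hy : y * y = 1)
    (hx1 : x ≠ 1) (hy1 : y ≠ 1) (hc : Commute x y) : x = y := by
  haveI : Fact (Nat.Prime 2) := ⟨Nat.prime_two⟩
  by_contra hne
  let V : Subgroup A :=
    { carrier := {v | v * v = 1 ∧ Commute v x ∧ Commute v y ∧ v ∈ Subgroup.closure {x, y}}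
      one_mem' := ⟨one_mul 1, Commute.one_left _, Commute.one_left _, one_mem _⟩
      mul_mem' := by
        rintro v w ⟨hv, hvx, hvy, hvm⟩ ⟨hw, hwx, hwy, hwm⟩
        have hvw : Commute v w := by
          have h2 : Subgroup.closure {x, y} ≤ Subgroup.centralizer {v} := by
            rw [Subgroup.closure_le]
            rintro z (rfl | rfl) <;> rw [SetLike.mem_coe, Subgroup.mem_centralizer_singleton_iff]
            · exact hvx.symm.eq
            · exact hvy.symm.eq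
          exact ((Subgroup.mem_centralizer_singleton_iff.1 (h2 hwm)) : w * v = v * w).symm
        exact ⟨by rw [hvw.symm.mul_mul_mul_comm, hv, hw, one_mul], hvx.mul_left hwx, hvy.mul_left hwy, mul_mem hvm hwm⟩
      inv_mem' := by
        rintro v ⟨hv, hvx, hvy, hvm⟩
        exact ⟨by rw [← mul_inv_rev, hv, inv_one], hvx.inv_left, hvy.inv_left, inv_mem hvm⟩ }
  have hV : IsPGroup 2 ↥V := fun v => ⟨1, Subtype.ext (by
    show (v : A) ^ (2 ^ 1) = 1
    rw [pow_one, pow_two]; exact v.2.1)⟩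
  obtain ⟨R, hR⟩ := hV.exists_le_sylow
  haveI : IsCyclic ↥(R : Subgroup A) := isCyclic_of_surjective _ (Sylow.equiv T R).surjective
  classical
  haveI := Fintype.ofFinite ↥(R : Subgroup A)
  have hxR : x ∈ (R : Subgroup A) := hR ⟨hx, Commute.refl _, hc, Subgroup.subset_closure (Or.inl rfl)⟩
  have hyR : y ∈ (R : Subgroup A) := hR ⟨hy, hc.symm, Commute.refl _, Subgroup.subset_closure (Or.inr rfl)⟩
  have hle := IsCyclic.card_pow_eq_one_le (α := ↥(R : Subgroup A)) (n := 2) (by norm_num)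
  have hsub : ({1, ⟨x, hxR⟩, ⟨y, hyR⟩} : Finset ↥(R : Subgroup A)) ⊆ Finset.univ.filter fun a => a ^ 2 = 1 := by
    intro a ha
    rw [Finset.mem_filter]
    refine ⟨Finset.mem_univ a, ?_⟩
    simp only [Finset.mem_insert, Finset.mem_singleton] at ha
    rcases ha with rfl | rfl | rfl
    · exact one_pow 2
    · exact Subtype.ext (by rw [Subgroup.coe_pow, pow_two]; exact hx)
    · exact Subtype.ext (by rw [Subgroup.coe_pow, pow_two]; exact hy)
  have h3 := (Finset.card_le_card hsub).trans hle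
  rw [Finset.card_insert_of_notMem, Finset.card_insert_of_notMem, Finset.card_singleton] at h3
  · omega
  · rw [Finset.mem_singleton]; exact fun e => hne (congrArg Subtype.val e)
  · simp only [Finset.mem_insert, Finset.mem_singleton, not_or]
    exact ⟨fun e => hx1 (congrArg Subtype.val e).symm, fun e => hy1 (congrArg Subtype.val e).symm⟩

/-- With cyclic Sylow subgroups no two distinct involutions have a product of order dividing four. -/
theorem no_pair_of_cyclic (hT : IsCyclic ↥(T : Subgroup A)) {x y : A} (hx : x * x = 1) (hy : y * y = 1)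
    (hx1 : x ≠ 1) (hy1 : y ≠ 1) (h4 : (x * y) ^ 4 = 1) : x = y := by
  by_cases h2 : (x * y) ^ 2 = 1
  · refine invol_eq_of_cyclic T hT hx hy hx1 hy1 ?_
    rw [pow_two] at h2
    show x * y = y * x
    rw [eq_inv_of_mul_eq_one_left h2, mul_inv_rev, inv_eq_of_mul_eq_one_right hx, inv_eq_of_mul_eq_one_right hy]
  · exfalso
    have hg : (x * y) ^ 2 * (x * y) ^ 2 = 1 := by rw [← pow_add]; exact h4
    have hc : Commute x ((x * y) ^ 2) := by
      have hxi : x⁻¹ = x := inv_eq_of_mul_eq_one_right hx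
      have hyi : y⁻¹ = y := inv_eq_of_mul_eq_one_right hy
      show x * (x * y) ^ 2 = (x * y) ^ 2 * x
      calc x * (x * y) ^ 2 = x * ((x * y) ^ 2)⁻¹ := by rw [inv_eq_of_mul_eq_one_right hg]
        _ = x * (y * x * (y * x)) := by rw [pow_two, mul_inv_rev, mul_inv_rev, hxi, hyi]
        _ = _ := by rw [pow_two]; group
    have he := invol_eq_of_cyclic T hT hx hg hx1 h2 hc
    apply hy1
    rw [pow_two, mul_assoc] at he
    have h5 : y * (x * y) = 1 := mul_eq_left.1 he.symm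
    have h6 : x * y = y⁻¹ := (eq_inv_of_mul_eq_one_right h5)
    rw [inv_eq_of_mul_eq_one_right hy] at h6
    exact absurd (mul_eq_right.1 h6) hx1

end Sylow

variable {G : Type*} [Group G] [Finite G] [IsMulCommutative ↥(commutator G)]

namespace Coord

variable {h : Pre G} (K : Coord h) {H : Subgroup G}
include K

/-- The elementary abelian candidate. -/
theorem no_elementary (hs : Stab H) (hr : h.r = 2) (hb : h.b ∈ H)
    (hexp : ∀ (i f : ℕ) (x : DP G), h.a ^ i * h.b ^ f * ι x ∈ H → 2 ^ h.r ∣ i) (hq : h.q = 0)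
    (hJ : ∀ y : DP G, ι y ∈ H → (2 : ℤ) • y = 0) (A : Subgroup (MulAut ↥H))
    (hA : ∀ α : MulAut ↥H, (∃ n : G, ∀ x : H, (α x : G) = n * x * n⁻¹) → α ∈ A) (T : Sylow 2 A)
    (hT : ∀ α : A, α ∈ (T : Subgroup A) ↔ ∃ n : G, ∀ x : H, ((α : MulAut ↥H) x : G) = n * x * n⁻¹)
    (hrad : ∀ N : Subgroup A, N.Normal → IsPGroup 2 N → ∀ α ∈ N, ∃ g : H, (α : MulAut ↥H) = MulAut.conj g) :
    False := by
  haveI : Fact (Nat.Prime 2) := ⟨Nat.prime_two⟩
  have hnf : ∀ x ∈ H, ∃ y : DP G, (2 : ℤ) • y = 0 ∧ (x = ι y ∨ x = h.b * ι y) := by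
    intro x hx
    obtain ⟨i, f, y, hf, rfl⟩ := h.nf_nat x
    obtain ⟨i', rfl⟩ := hexp i f y hx
    have hpm : h.a ^ (2 ^ h.r * i') = ι ((i' : ℤ) • h.m) := by
      rw [ι_zsmul, h.ι_m, ← zpow_natCast, ← zpow_mul]; norm_cast
    rw [hpm, ι_mul, mul_assoc, ← ι_add] at hx ⊢
    refine ⟨_, hJ _ (by simpa using mul_mem (inv_mem (pow_mem hb f)) hx), ?_⟩
    interval_cases f <;> simp
  have htor : ∀ y : DP G, (2 : ℤ) • y = 0 → ι y ∈ H := fun y hy => K.torsion_mem hs hy
  have hBt : ∀ {z : DP G}, (2 : ℤ) • z = 0 → h.B z = z := fun {z} hz => by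
    have hy : -z = z := by rw [two_zsmul] at hz; rw [neg_eq_iff_add_eq_zero]; exact hz
    rw [K.B_eq, hy, mul_comm, mul_smul, ← map_zsmul, hz, map_zero, smul_zero, add_zero]
  have hcomm : ∀ x y : ↥H, x * y = y * x := by
    rintro ⟨x, hx⟩ ⟨y, hy⟩
    apply Subtype.ext
    show x * y = y * x
    obtain ⟨u, hu, rfl | rfl⟩ := hnf x hx <;> obtain ⟨v, hv, rfl | rfl⟩ := hnf y hy
    · exact ι_comm u v
    · rw [mul_ι (h.b * ι v) u, map_mul, act_ι, mul_one, show act h.b = h.B from rfl, hBt hu]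
    · rw [mul_ι (h.b * ι u) v, map_mul, act_ι, mul_one, show act h.b = h.B from rfl, hBt hv]
    · calc h.b * ι u * (h.b * ι v) = ι (h.B u) * (h.b * h.b) * ι v := by rw [Pre.B, ι_act]; group
        _ = ι (h.B v) * (h.b * h.b) * ι u := by
          rw [hBt hu, hBt hv, ← h.ι_q, hq, ι_zero, mul_one, mul_one, ι_comm]
        _ = h.b * ι v * (h.b * ι u) := by rw [Pre.B, ι_act]; group
  letI : CommGroup ↥H := { (inferInstance : Group ↥H) with mul_comm := hcomm }
  have hsq : ∀ x : ↥H, x * x = 1 := by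
    rintro ⟨x, hx⟩
    apply Subtype.ext
    show x * x = 1
    obtain ⟨u, hu, rfl | rfl⟩ := hnf x hx
    · rw [← ι_add, ← two_zsmul, hu, ι_zero]
    · calc h.b * ι u * (h.b * ι u) = ι (h.B u) * (h.b * h.b) * ι u := by rw [Pre.B, ι_act]; group
        _ = 1 := by rw [hBt hu, ← h.ι_q, hq, ι_zero, mul_one, ← ι_add, ← two_zsmul, hu, ι_zero]
  have hinn : ∀ N : Subgroup A, N.Normal → IsPGroup 2 N → ∀ α ∈ N, α = 1 := by
    intro N hN hp α hα
    obtain ⟨g, hg⟩ := hrad N hN hp α hα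
    refine Subtype.ext (hg.trans (MulEquiv.ext fun x => ?_))
    show g * x * g⁻¹ = x
    rw [hcomm g x, mul_inv_cancel_right]
  let V : Subgroup ↥H := (commutator G).subgroupOf H
  have hVmem : ∀ x : ↥H, x ∈ V ↔ ∃ y : DP G, (2 : ℤ) • y = 0 ∧ (x : G) = ι y := fun x => by
    constructor
    · intro hx
      obtain ⟨y, hy⟩ := exists_ι (show (x : G) ∈ commutator G from hx)
      exact ⟨y, hJ y (hy ▸ x.2), hy.symm⟩
    · rintro ⟨y, -, hy⟩
      show (x : G) ∈ commutator G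
      rw [hy]; exact ι_mem y
  have hbV : (⟨h.b, hb⟩ : ↥H) ∉ V := fun e => by
    have : h.a ^ 0 * h.b ^ 1 ∈ commutator G := by simpa using (show h.b ∈ commutator G from e)
    exact absurd (h.sep_nat.1 this).2 (by decide)
  have hout : ∀ x : ↥H, x ∉ V → ∃ v ∈ V, x = ⟨h.b, hb⟩ * v := by
    intro x hx
    obtain ⟨y, hy, e | e⟩ := hnf x x.2
    · exact absurd ((hVmem x).2 ⟨y, hy, e⟩) hx
    · exact ⟨⟨ι y, htor y hy⟩, (hVmem _).2 ⟨y, hy, rfl⟩, Subtype.ext e⟩
  have htwo : ∀ x y : ↥H, x ∉ V → y ∉ V → x * y ∈ V := by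
    intro x y hx hy
    obtain ⟨u, hu, rfl⟩ := hout x hx
    obtain ⟨v, hv, rfl⟩ := hout y hy
    rw [mul_mul_mul_comm, hsq, one_mul]
    exact mul_mem hu hv
  -- an automorphism sends some involution of `V` into `V`
  have hmeet : ∀ γ : MulAut ↥H, ∃ x ∈ V, x ≠ 1 ∧ γ x ∈ V := by
    intro γ
    obtain ⟨z1, hz1, hz10, -⟩ := K.exists_two_involutions 0
    obtain ⟨z2, hz2, hz20, hz21⟩ := K.exists_two_involutions z1
    set x1 : ↥H := ⟨ι z1, htor z1 hz1⟩
    set x2 : ↥H := ⟨ι z2, htor z2 hz2⟩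
    have h1 : x1 ∈ V := (hVmem _).2 ⟨z1, hz1, rfl⟩
    have h2 : x2 ∈ V := (hVmem _).2 ⟨z2, hz2, rfl⟩
    by_cases e1 : γ x1 ∈ V
    · exact ⟨x1, h1, fun e => hz10 (ι_eq_one (congrArg Subtype.val e)), e1⟩
    by_cases e2 : γ x2 ∈ V
    · exact ⟨x2, h2, fun e => hz20 (ι_eq_one (congrArg Subtype.val e)), e2⟩
    refine ⟨x1 * x2, mul_mem h1 h2, fun e => hz21 ?_, by rw [map_mul]; exact htwo _ _ e1 e2⟩
    have h12 : x1 = x2 := by rw [mul_eq_one_iff_eq_inv.1 e, inv_eq_of_mul_eq_one_right (hsq x2)]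
    have h13 : ι z1 = ι z2 := congrArg (fun w : ↥H => (w : G)) h12
    exact (ι_inj h13).symm
  by_cases h2P : ∀ y : DP G, (2 : ℤ) • y = 0
  · -- the commutator subgroup is elementary: the Sylow subgroup is cyclic
    have hd : h.d = h.m := by
      obtain ⟨e, he⟩ := K.odd
      rw [K.hd, he, mul_comm 2 K.j, mul_smul, h2P, smul_zero, zero_add, add_smul, one_smul, mul_comm, mul_smul,
        h2P, smul_zero, zero_add]
    have hXd : h.X h.d = 0 := by rw [K.X_d, mul_comm, mul_smul, h2P, smul_zero]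
    have hna : h.a ∈ Subgroup.normalizer (H : Set G) := by
      refine Subgroup.mem_normalizer_fintype fun x hx => ?_
      obtain ⟨y, -, rfl | rfl⟩ := hnf x hx
      · rw [conj_ι]; exact htor _ (h2P _)
      · rw [show h.a * (h.b * ι y) * h.a⁻¹ = ⁅h.a, h.b⁆ * (h.b * (h.a * ι y * h.a⁻¹)) by
          rw [commutatorElement_def]; group, ← h.ι_c, conj_ι]
        exact mul_mem (htor _ (h2P _)) (mul_mem hb (htor _ (h2P _)))
    set α : MulAut ↥H := Subgroup.normalizerMonoidHom H ⟨h.a, hna⟩ with hα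
    have hαn : ∀ (i : ℕ) (x : ↥H), ((α ^ i) x : G) = h.a ^ i * x * (h.a ^ i)⁻¹ := fun i x => by
      rw [hα, ← map_pow]; rfl
    have hαA : α ∈ A := hA α ⟨h.a, fun x => by simpa using hαn 1 x⟩
    have hTz : ∀ γ : A, γ ∈ (T : Subgroup A) ↔ ∃ i : ℕ, (γ : MulAut ↥H) = α ^ i := by
      intro γ
      rw [hT]
      constructor
      · rintro ⟨n, hn⟩
        obtain ⟨i, f, y, -, rfl⟩ := h.nf_nat n
        refine ⟨i, MulEquiv.ext fun x => Subtype.ext ?_⟩
        rw [hn, hαn]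
        have hc := congrArg Subtype.val (hcomm ⟨h.b ^ f * ι y, mul_mem (pow_mem hb f) (htor y (h2P y))⟩ x)
        simp only [Subgroup.coe_mul] at hc
        rw [show h.a ^ i * h.b ^ f * ι y * (x : G) * (h.a ^ i * h.b ^ f * ι y)⁻¹ =
          h.a ^ i * (h.b ^ f * ι y * x * (h.b ^ f * ι y)⁻¹) * (h.a ^ i)⁻¹ by group, hc, mul_inv_cancel_right]
      · rintro ⟨i, hi⟩
        exact ⟨h.a ^ i, fun x => by rw [hi]; exact hαn i x⟩
    have hTc : IsCyclic ↥(T : Subgroup A) := by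
      refine ⟨⟨⟨⟨α, hαA⟩, (hTz _).2 ⟨1, (pow_one α).symm⟩⟩, fun γ => ?_⟩⟩
      obtain ⟨i, hi⟩ := (hTz _).1 γ.2
      refine ⟨i, Subtype.ext (Subtype.ext ?_)⟩
      simpa using hi.symm
    set d : ↥H := ⟨ι h.d, htor _ (h2P _)⟩ with hdd
    set c : ↥H := ⟨ι h.c, htor _ (h2P _)⟩ with hcc
    set b : ↥H := ⟨h.b, hb⟩ with hbb
    have hαb : α b = b * c := by
      rw [hcomm b c]
      apply Subtype.ext
      have := hαn 1 b
      rw [pow_one, pow_one] at this
      rw [this]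
      show h.a * h.b * h.a⁻¹ = ι h.c * h.b
      rw [h.ι_c, commutatorElement_def]; group
    have hαc : α c = c * d := by
      apply Subtype.ext
      have := hαn 1 c
      rw [pow_one, pow_one] at this
      rw [this]
      show h.a * ι h.c * h.a⁻¹ = ι h.c * ι h.d
      rw [conj_ι, ← ι_add, show act h.a = h.A from rfl, h.A_apply]
      rfl
    have hαd : α d = d := by
      apply Subtype.ext
      have := hαn 1 d
      rw [pow_one, pow_one] at this
      rw [this]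
      show h.a * ι h.d * h.a⁻¹ = ι h.d
      rw [conj_ι, show act h.a = h.A from rfl, h.A_apply, hXd, add_zero]
    have hVcd : ∀ v ∈ V, v = 1 ∨ v = c ∨ v = d ∨ v = c * d := by
      intro v hv
      obtain ⟨y, -, hvy⟩ := (hVmem v).1 hv
      obtain ⟨k, l, rfl⟩ := K.gen y
      have hk : ∀ (k : ℤ) (z : DP G), k • z = 0 ∨ k • z = z := fun k z => by
        rcases Int.even_or_odd' k with ⟨t, rfl | rfl⟩
        · left; rw [mul_comm, mul_smul, h2P, smul_zero]
        · right; rw [add_smul, one_smul, mul_comm, mul_smul, h2P, smul_zero, zero_add]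
      rw [← hd] at hvy
      rcases hk k h.c with ek | ek <;> rcases hk l h.d with el | el <;> rw [ek, el] at hvy
      · exact Or.inl (Subtype.ext (by rw [hvy, add_zero, ι_zero]; rfl))
      · exact Or.inr (Or.inr (Or.inl (Subtype.ext (by rw [hvy, zero_add]))))
      · exact Or.inr (Or.inl (Subtype.ext (by rw [hvy, add_zero])))
      · exact Or.inr (Or.inr (Or.inr (Subtype.ext (by rw [hvy, ι_add]; rfl))))
    have hαV : ∀ v ∈ V, (α ^ 2) v = v := by
      intro v hv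
      rw [pow_two, MulAut.mul_apply]
      rcases hVcd v hv with rfl | rfl | rfl | rfl
      · rw [map_one, map_one]
      · rw [hαc, map_mul, hαc, hαd, mul_assoc, hsq, mul_one]
      · rw [hαd, hαd]
      · rw [map_mul, hαc, hαd, mul_assoc, hsq, mul_one, hαc]
    have hα2b : (α ^ 2) b = b * d := by
      rw [pow_two, MulAut.mul_apply, hαb, map_mul, hαb, hαc, ← mul_assoc, mul_assoc b, hsq, mul_one]
    have hdV : d ∈ V := ι_mem h.d
    have htr : Tr (α ^ 2) d V := by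
      refine ⟨hsq d, hdV, htwo, hαV, fun x hx => ?_⟩
      obtain ⟨v, hv, rfl⟩ := hout x hx
      rw [map_mul, hα2b, hαV v hv, mul_right_comm]
    have hd1 : d ≠ 1 := fun e => by
      have h0 : h.d = 0 := ι_eq_one (congrArg Subtype.val e)
      exact absurd (K.ind 0 1 ⟨0, by rw [smul_zero, zero_smul, zero_add, one_smul, ← hd, h0]⟩).2 (by decide)
    set z : A := ⟨α, hαA⟩ ^ 2 with hz
    have hz1 : z ≠ 1 := fun e => by
      apply hd1
      have h1 := congrArg (fun u : A => (u : MulAut ↥H) b) e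
      simp only [hz, Subgroup.coe_pow, Subgroup.coe_one, MulAut.one_apply] at h1
      rw [hα2b] at h1
      exact mul_eq_left.1 h1
    have hzi : z * z = 1 := Subtype.ext (by
      rw [Subgroup.coe_mul, hz, Subgroup.coe_pow]; exact htr.invol)
    have hcent : ∀ γ : A, γ * z * γ⁻¹ = z := by
      intro γ
      by_contra hne
      set f := γ * z * γ⁻¹ with hf
      have hf1 : f ≠ 1 := fun e => hz1 (conj_eq_one_iff.1 e)
      have hfi : f * f = 1 := by rw [hf, conj_mul, hzi, mul_one, mul_inv_cancel]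
      have hftr : Tr (f : MulAut ↥H) ((γ : MulAut ↥H) d) (V.map (γ : MulAut ↥H).toMonoidHom) := by
        have := htr.conj (γ : MulAut ↥H)
        simpa [hf, hz] using this
      have contra : ∀ x y : A, x * x = 1 → y * y = 1 → x ≠ 1 → y ≠ 1 →
          ((x : MulAut ↥H) * y) ^ 4 = 1 → x = y := fun x y hx hy hx1 hy1 h4 =>
        no_pair_of_cyclic T hTc hx hy hx1 hy1 (Subtype.ext (by simpa using h4))
      by_cases hl : (γ : MulAut ↥H) d ∈ V
      · exact hne (contra z f hzi hfi hz1 hf1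
          (by simpa [hz] using htr.pow_four hftr hl)).symm
      by_cases hdW : d ∈ V.map (γ : MulAut ↥H).toMonoidHom
      · exact hne (contra f z hfi hzi hf1 hz1 (by simpa [hz] using hftr.pow_four htr hdW))
      obtain ⟨v, hvV, hv1, hγv⟩ := hmeet (γ : MulAut ↥H)
      set l := (γ : MulAut ↥H) d with hldef
      set l2 := l * (γ : MulAut ↥H) v with hl2
      have hl2V : l2 ∉ V := fun e => hl (by
        have h1 := mul_mem e (inv_mem hγv)
        rwa [hl2, mul_inv_cancel_right] at h1)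
      have hl2W : l2 ∈ V.map (γ : MulAut ↥H).toMonoidHom :=
        ⟨d * v, mul_mem hdV hvV, by rw [hl2, hldef]; exact map_mul _ _ _⟩
      have hl2ne : l2 ≠ l := fun e => hv1 ((MulEquiv.map_eq_one_iff _).1 (mul_eq_left.1 e))
      have horbit : ∀ x, x ∉ V → ∃ k : ℕ, (α ^ k) b = x := by
        intro x hx
        obtain ⟨u, hu, rfl⟩ := hout x hx
        rcases hVcd u hu with rfl | rfl | rfl | rfl
        · exact ⟨0, by simp [hbb]⟩
        · exact ⟨1, by rw [pow_one, hαb]⟩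
        · exact ⟨2, hα2b⟩
        · refine ⟨3, ?_⟩
          rw [pow_succ', MulAut.mul_apply, hα2b, map_mul, hαb, hαd, mul_assoc]
      have hα4 : α ^ 4 = 1 := by rw [show (4 : ℕ) = 2 + 2 from rfl, pow_add]; exact htr.invol
      obtain ⟨k1, hk1⟩ := horbit l hl
      obtain ⟨k2, hk2⟩ := horbit l2 hl2V
      set g : A := (⟨α, hαA⟩ : A) ^ (k2 + 3 * k1) with hgdef
      have hgl : (g : MulAut ↥H) l = l2 := by
        rw [hgdef, Subgroup.coe_pow, ← hk1, ← MulAut.mul_apply, ← pow_add,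
          show k2 + 3 * k1 + k1 = k2 + 4 * k1 by ring, pow_add, pow_mul, hα4, one_pow, mul_one]
        exact hk2
      set f2 := g * f * g⁻¹ with hf2
      have hf2tr : Tr (f2 : MulAut ↥H) l2
          ((V.map (γ : MulAut ↥H).toMonoidHom).map (g : MulAut ↥H).toMonoidHom) := by
        have := hftr.conj (g : MulAut ↥H)
        rw [hgl] at this
        simpa [hf2] using this
      have hf21 : f2 ≠ 1 := fun e => hf1 (conj_eq_one_iff.1 e)
      have hf2i : f2 * f2 = 1 := by rw [hf2, conj_mul, hfi, mul_one, mul_inv_cancel]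
      have heq : f = f2 := contra f f2 hfi hf2i hf1 hf21 (hftr.pow_four hf2tr hl2W)
      have hx : ∃ x, x ∉ V.map (γ : MulAut ↥H).toMonoidHom := ⟨d, hdW⟩
      obtain ⟨x, hx⟩ := hx
      have hfx := hftr.moves x hx
      rw [heq] at hfx
      by_cases hx2 : x ∈ (V.map (γ : MulAut ↥H).toMonoidHom).map (g : MulAut ↥H).toMonoidHom
      · rw [hf2tr.fixes x hx2] at hfx
        exact hl ((mul_eq_left.1 hfx.symm) ▸ one_mem V)
      · rw [hf2tr.moves x hx2] at hfx
        exact hl2ne (mul_left_cancel hfx)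
    have hnor : (Subgroup.zpowers z).Normal := by
      refine ⟨fun x hx g => ?_⟩
      obtain ⟨k, rfl⟩ := Subgroup.mem_zpowers_iff.1 hx
      rw [← conj_zpow, hcent]
      exact zpow_mem (Subgroup.mem_zpowers z) k
    have hzp : IsPGroup 2 ↥(Subgroup.zpowers z) := by
      refine fun u => ⟨1, Subtype.ext ?_⟩
      obtain ⟨k, hk⟩ := Subgroup.mem_zpowers_iff.1 u.2
      show (u : A) ^ (2 ^ 1) = 1
      rw [← hk, pow_one, ← zpow_natCast, ← zpow_mul, mul_comm, zpow_mul, Nat.cast_ofNat, zpow_two, hzi, one_zpow]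
    exact hz1 (hinn _ hnor hzp z (Subgroup.mem_zpowers z))
  -- otherwise the Sylow subgroup is the group of transvections with axis `V`
  have hndiv : ¬ ∀ y : DP G, ∃ z w : DP G, (2 : ℤ) • z = 0 ∧ y = z + (2 : ℤ) • w := by
    intro hall
    apply h2P
    obtain ⟨N, -, hN, -⟩ := h.exists_pow_kill
    have hit : ∀ k : ℕ, ∀ y : DP G, ∃ w : DP G, (2 : ℤ) • y = (2 : ℤ) ^ (k + 1) • w := by
      intro k
      induction k with
      | zero => exact fun y => ⟨y, by rw [pow_one]⟩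
      | succ k ih =>
        intro y
        obtain ⟨w, hw⟩ := ih y
        obtain ⟨z, w', hz, rfl⟩ := hall w
        refine ⟨w', ?_⟩
        rw [hw, smul_add, pow_succ, mul_smul _ (2 : ℤ) z, hz, smul_zero, zero_add, smul_smul, ← pow_succ, ← pow_succ]
    intro y
    obtain ⟨w, hw⟩ := hit N y
    rw [hw, pow_succ', mul_smul, hN, smul_zero]
  have hodd : ∀ z0 w0 : DP G, (2 : ℤ) • z0 = 0 → ∀ k l : ℤ, Odd k →
      z0 = k • h.c + l • h.m + (2 : ℤ) • w0 → False := by
    intro z0 w0 hz0 k l hk he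
    apply hndiv
    let S2 : AddSubgroup (DP G) :=
      { carrier := {y | ∃ z w : DP G, (2 : ℤ) • z = 0 ∧ y = z + (2 : ℤ) • w}
        zero_mem' := ⟨0, 0, smul_zero _, by simp⟩
        add_mem' := by
          rintro _ _ ⟨z, w, hz, rfl⟩ ⟨z', w', hz', rfl⟩
          exact ⟨z + z', w + w', by rw [smul_add, hz, hz', add_zero], by rw [smul_add]; abel⟩
        neg_mem' := by
          rintro _ ⟨z, w, hz, rfl⟩
          exact ⟨-z, -w, by rw [smul_neg, hz, neg_zero], by rw [smul_neg]; abel⟩ }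
    have h2mem : ∀ w : DP G, (2 : ℤ) • w ∈ S2 := fun w => ⟨0, w, smul_zero _, by rw [zero_add]⟩
    obtain ⟨k', rfl⟩ := hk
    have hdm : h.d ∈ S2 := by
      refine ⟨h.X z0, -(k' • h.d + h.X w0), by rw [← map_zsmul, hz0, map_zero], ?_⟩
      rw [he, map_add, map_add, map_zsmul, map_zsmul, map_zsmul, h.X_m, show h.X h.c = h.d from rfl]
      module
    have hmm : h.m ∈ S2 := by
      obtain ⟨e, he'⟩ := K.odd
      rw [show h.m = h.d - (2 : ℤ) • (K.j • h.c + e • h.m) by rw [K.hd, he']; module]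
      exact S2.sub_mem hdm (h2mem _)
    have hcm : h.c ∈ S2 := by
      rw [show h.c = z0 - l • h.m - (2 : ℤ) • (k' • h.c + w0) by rw [he]; module]
      exact S2.sub_mem (S2.sub_mem ⟨z0, 0, hz0, by simp⟩ (S2.zsmul_mem hmm l)) (h2mem _)
    intro y
    obtain ⟨a1, b1, rfl⟩ := K.gen y
    exact S2.add_mem (S2.zsmul_mem hcm a1) (S2.zsmul_mem hmm b1)
  -- a normalising element has even exponent
  have heven : ∀ (i f : ℕ) (y : DP G),
      h.a ^ i * h.b ^ f * ι y * h.b * (h.a ^ i * h.b ^ f * ι y)⁻¹ ∈ H → Even i := by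
    intro i f y hmem
    by_contra hi
    have hbf : ∃ w, h.b ^ f * ι y * h.b * (h.b ^ f * ι y)⁻¹ = ι ((2 : ℤ) • w) * h.b := by
      refine ⟨(h.B ^ f) (K.U y), ?_⟩
      rw [← map_zsmul, show h.B ^ f = act (h.b ^ f) by rw [map_pow]; rfl, ι_act,
        show (2 : ℤ) • K.U y = y - h.B y by rw [← neg_sub, K.B_sub, neg_neg], ι_sub, Pre.B, ι_act]
      group
    obtain ⟨w, hw⟩ := hbf
    have e : h.a ^ i * h.b ^ f * ι y * h.b * (h.a ^ i * h.b ^ f * ι y)⁻¹ =
        ι ((h.A ^ i) ((2 : ℤ) • w) + h.S i) * h.b := by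
      rw [show h.a ^ i * h.b ^ f * ι y * h.b * (h.a ^ i * h.b ^ f * ι y)⁻¹ =
        h.a ^ i * (h.b ^ f * ι y * h.b * (h.b ^ f * ι y)⁻¹) * (h.a ^ i)⁻¹ by group, hw, ← h.act_a_pow, ι_add, ι_act,
        h.ι_S, commutatorElement_def]
      group
    rw [e] at hmem
    have h2 : (2 : ℤ) • ((h.A ^ i) ((2 : ℤ) • w) + h.S i) = 0 :=
      hJ _ (by simpa using mul_mem hmem (inv_mem hb))
    refine hodd _ ((h.A ^ i) w) h2 (i + 2 * K.j * kap K.j i) (K.ε * kap K.j i) ?_ ?_
    · rw [Int.odd_add, Int.odd_coe_nat]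
      exact ⟨fun _ => ⟨K.j * kap K.j i, by ring⟩, fun _ => Nat.not_even_iff_odd.1 hi⟩
    · rw [K.S_eq, map_zsmul, K.hd]; module
  have hfixV : ∀ n : G, (∀ x : ↥H, n * (x : G) * n⁻¹ ∈ H) → ∀ v ∈ V, n * (v : G) * n⁻¹ = v := by
    intro n hn v hv
    obtain ⟨i, f, y, hf, rfl⟩ := h.nf_nat n
    obtain ⟨i', rfl⟩ := heven i f y (hn ⟨h.b, hb⟩)
    obtain ⟨z, hz, hvz⟩ := (hVmem v).1 hv
    obtain ⟨t, ht⟩ := ee_even K.j i'
    rw [hvz, conj_ι, map_mul, map_mul, act_ι, mul_one, h.act_a_pow]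
    congr 1
    show (h.A ^ (i' + i')) (act (h.b ^ f) z) = z
    have hBz : act (h.b ^ f) z = z := by
      interval_cases f
      · simp
      · rw [pow_one]; exact hBt hz
    rw [hBz, ← two_mul, K.A_pow, ht, show 2 * (1 + K.j) * t = ((1 + K.j) * t) * 2 by ring, mul_smul, ← map_zsmul,
      hz, map_zero, smul_zero, add_zero]
  -- every shift is realised
  have hreal : ∀ z : DP G, (2 : ℤ) • z = 0 → ∃ n : G, n * h.b * n⁻¹ = ι z * h.b := by
    intro z hz
    obtain ⟨k, l, hzkl⟩ := K.gen z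
    rcases Int.even_or_odd k with ⟨k', rfl⟩ | hk
    swap
    · exact (hodd z 0 hz k l hk (by rw [smul_zero, add_zero]; exact hzkl)).elim
    rcases Int.even_or_odd l with ⟨l', rfl⟩ | ⟨l', rfl⟩
    · obtain ⟨y, hy⟩ := K.U_surj (k' • h.c + l' • h.m)
      refine ⟨ι y, ?_⟩
      rw [show z = (2 : ℤ) • K.U y by rw [hy, hzkl]; module,
        show (2 : ℤ) • K.U y = y - h.B y by rw [← neg_sub, K.B_sub, neg_neg], ι_sub, Pre.B, ι_act]
      group
    · obtain ⟨e, he⟩ := K.odd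
      obtain ⟨s, hs'⟩ := K.U_surj (l' • h.d + (K.ε * k' - (2 * l' + 1) * K.j - 1) • h.c)
      refine ⟨ι s * h.a ^ 2, ?_⟩
      have hεz : K.ε • z = z := by rw [he, add_smul, one_smul, mul_comm, mul_smul, hz, smul_zero, zero_add]
      have e1 : z = s + h.S 2 + -h.B s := by
        rw [show s + h.S 2 + -h.B s = h.S 2 + (2 : ℤ) • K.U s by
          rw [show (2 : ℤ) • K.U s = -(h.B s - s) by rw [K.B_sub, neg_neg]]; abel, hs', K.S_eq, kap_two, ← hεz, hzkl,
          K.hd]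
        push_cast
        module
      rw [e1, ι_add, ι_add, ι_neg, h.ι_S, Pre.B, ι_act, commutatorElement_def]
      group
  have hconjH : ∀ (n : G) (z : DP G), (2 : ℤ) • z = 0 → n * h.b * n⁻¹ = ι z * h.b → ∀ x : ↥H, n * (x : G) * n⁻¹ ∈ H := by
    intro n z hz hn x
    obtain ⟨i, f, y, hf, rfl⟩ := h.nf_nat n
    obtain ⟨w, hw, e | e⟩ := hnf x x.2
    · rw [e, conj_ι]
      exact htor _ (by rw [← map_zsmul, hw, map_zero])
    · rw [e, show ∀ g : G, g * (h.b * ι w) * g⁻¹ = g * h.b * g⁻¹ * (g * ι w * g⁻¹) from fun g => by group, hn, conj_ι]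
      exact mul_mem (mul_mem (htor z hz) hb) (htor _ (by rw [← map_zsmul, hw, map_zero]))
  have hTU : ∀ γ : A, γ ∈ (T : Subgroup A) ↔ ∀ v ∈ V, (γ : MulAut ↥H) v = v := by
    intro γ
    rw [hT]
    constructor
    · rintro ⟨n, hn⟩ v hv
      exact Subtype.ext ((hn v).trans (hfixV n (fun x => hn x ▸ ((γ : MulAut ↥H) x).2) v hv))
    · intro hfix
      have hγb : (γ : MulAut ↥H) ⟨h.b, hb⟩ ∉ V := fun e => hbV (by
        rw [← (γ : MulAut ↥H).injective (hfix _ e)]; exact e)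
      obtain ⟨v, hv, hγv⟩ := hout _ hγb
      obtain ⟨z, hz, hvz⟩ := (hVmem v).1 hv
      obtain ⟨n, hn⟩ := hreal z hz
      have hnH := hconjH n z hz hn
      refine ⟨n, fun x => ?_⟩
      by_cases hx : x ∈ V
      · rw [hfix x hx, hfixV n hnH x hx]
      · obtain ⟨u, hu, rfl⟩ := hout x hx
        rw [map_mul, hγv, hfix u hu, hcomm ⟨h.b, hb⟩ v]
        show (v : G) * h.b * (u : G) = n * (h.b * (u : G)) * n⁻¹
        rw [hvz, ← hn, show n * (h.b * (u : G)) * n⁻¹ = n * h.b * n⁻¹ * (n * u * n⁻¹) by group, hfixV n hnH u hu]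
  by_cases hinv : ∀ γ : A, ∀ v ∈ V, (γ : MulAut ↥H) v ∈ V
  · have hnorm : (T : Subgroup A).Normal := by
      refine ⟨fun t ht γ => ?_⟩
      rw [hTU] at ht ⊢
      intro v hv
      show (γ : MulAut ↥H) ((t : MulAut ↥H) ((γ : MulAut ↥H)⁻¹ v)) = v
      rw [ht _ (by simpa using hinv γ⁻¹ v hv), MulAut.apply_inv_self]
    obtain ⟨z, hz, hz0, -⟩ := K.exists_two_involutions 0
    obtain ⟨n, hn⟩ := hreal z hz
    have hnN : n ∈ Subgroup.normalizer (H : Set G) :=
      Subgroup.mem_normalizer_fintype fun x hx => hconjH n z hz hn ⟨x, hx⟩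
    set σ : A := ⟨Subgroup.normalizerMonoidHom H ⟨n, hnN⟩, hA _ ⟨n, fun x => rfl⟩⟩
    have hσT : σ ∈ (T : Subgroup A) := (hT σ).2 ⟨n, fun x => rfl⟩
    have h1 := congrArg (fun u : A => ((u : MulAut ↥H) ⟨h.b, hb⟩ : G)) (hinn _ hnorm T.2 σ hσT)
    have h3 : n * h.b * n⁻¹ = h.b := h1
    rw [hn] at h3
    exact hz0 (ι_eq_one (mul_eq_right.1 h3))
  simp only [not_forall] at hinv
  obtain ⟨γ, v0, hv0, hγv0⟩ := hinv
  obtain ⟨l0, hl0, hl01, hγl0⟩ := hmeet (γ : MulAut ↥H)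
  obtain ⟨z0, hz0, hlz⟩ := (hVmem l0).1 hl0
  obtain ⟨n, hn⟩ := hreal z0 hz0
  have hnN : n ∈ Subgroup.normalizer (H : Set G) :=
    Subgroup.mem_normalizer_fintype fun x hx => hconjH n z0 hz0 hn ⟨x, hx⟩
  set u : MulAut ↥H := Subgroup.normalizerMonoidHom H ⟨n, hnN⟩ with hu
  have hufix : ∀ v ∈ V, u v = v := fun v hv => Subtype.ext (hfixV n (hconjH n z0 hz0 hn) v hv)
  have hutr : Tr u l0 V := by
    refine ⟨hsq l0, hl0, htwo, hufix, fun x hx => ?_⟩
    obtain ⟨w, hw, rfl⟩ := hout x hx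
    rw [map_mul, hufix w hw]
    apply Subtype.ext
    show n * h.b * n⁻¹ * (w : G) = h.b * (w : G) * (l0 : G)
    rw [hn, hlz]
    have hc := congrArg Subtype.val (hcomm (⟨h.b, hb⟩ * w) ⟨ι z0, htor z0 hz0⟩)
    simp only [Subgroup.coe_mul] at hc
    rw [hc, mul_assoc]
  set uA : A := ⟨u, hA u ⟨n, fun x => rfl⟩⟩
  set u' : A := γ * uA * γ⁻¹ with hu'
  have htr' : Tr (u' : MulAut ↥H) ((γ : MulAut ↥H) l0) (V.map (γ : MulAut ↥H).toMonoidHom) := hutr.conj _
  have hu'i : u' * u' = 1 := Subtype.ext htr'.invol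
  have hpres : ∀ v ∈ V, (u' : MulAut ↥H) v ∈ V := by
    intro v hv
    by_cases hvW : v ∈ V.map (γ : MulAut ↥H).toMonoidHom
    · rw [htr'.fixes v hvW]; exact hv
    · rw [htr'.moves v hvW]; exact mul_mem hv hγl0
  have hu'inv : u'⁻¹ = u' := inv_eq_of_mul_eq_one_right hu'i
  have hu'T : u' ∈ (T : Subgroup A) := by
    refine mem_sylow_of_normalizes T hu'i fun t ht => ?_
    rw [hTU] at ht ⊢
    intro v hv
    show (u' : MulAut ↥H) ((t : MulAut ↥H) (((u'⁻¹ : A) : MulAut ↥H) v)) = v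
    rw [ht _ (by rw [hu'inv]; exact hpres v hv), ← MulAut.mul_apply, ← Subgroup.coe_mul, mul_inv_cancel]
    rfl
  have hfix' := (hTU u').1 hu'T
  have hsub : ∀ v ∈ V, v ∈ V.map (γ : MulAut ↥H).toMonoidHom := by
    intro v hv
    by_contra hvW
    have h1 := (htr'.moves v hvW).symm.trans (hfix' v hv)
    exact hl01 ((MulEquiv.map_eq_one_iff _).1 (mul_eq_left.1 h1))
  have hcard : Nat.card ↥(V.map (γ : MulAut ↥H).toMonoidHom) = Nat.card ↥V :=
    Nat.card_congr (V.equivMapOfInjective _ (γ : MulAut ↥H).injective).toEquiv.symm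
  have heqV : V = V.map (γ : MulAut ↥H).toMonoidHom := Subgroup.eq_of_le_of_card_ge hsub hcard.le
  exact hγv0 (heqV ▸ ⟨v0, hv0, rfl⟩)

end Coord

end CfsgLib.Fsys.Bicyclic
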