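import Cfsg.Agent.Lib.FusionSystem.Bicyclic.EssB
import Cfsg.Agent.Lib.FusionSystem.Bicyclic.EssC
import Cfsg.Agent.Lib.FusionSystem.Bicyclic.Exceptional
import Cfsg.Agent.Lib.FusionSystem.SmallElements
import Cfsg.Agent.Lib.PGroup.FrattiniAct

/-!
No subgroup is a candidate for an essential subgroup when the commutator subgroup is not cyclic,
and the automorphism group is a `2`-group.
-/

set_option autoImplicit false
set_option linter.style.haveILetI false
set_option linter.unusedSectionVars false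

open scoped commutatorElement IsMulCommutative

namespace CfsgLib.Fsys.Bicyclic

variable {G : Type*} [Group G] [Finite G] [IsMulCommutative ↥(commutator G)]

/-- What is used of the automizer of an essential subgroup. -/
def AutData (H : Subgroup G) : Prop :=
  ∃ A : Subgroup (MulAut ↥H), (∀ α : MulAut ↥H, (∃ n : G, ∀ x : H, (α x : G) = n * x * n⁻¹) → α ∈ A) ∧
    ∃ T : Sylow 2 A,
      (∀ α : A, α ∈ (T : Subgroup A) ↔ ∃ n : G, ∀ x : H, ((α : MulAut ↥H) x : G) = n * x * n⁻¹) ∧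
      ∀ N : Subgroup A, N.Normal → IsPGroup 2 N → ∀ α ∈ N, ∃ g : H, (α : MulAut ↥H) = MulAut.conj g

theorem comm_quot (s t : G ⧸ commutator G) : Commute s t := by
  obtain ⟨s, rfl⟩ := QuotientGroup.mk_surjective s
  obtain ⟨t, rfl⟩ := QuotientGroup.mk_surjective t
  rw [← commutatorElement_eq_one_iff_commute]
  exact (QuotientGroup.eq_one_iff _).2
    (Subgroup.commutator_mem_commutator (Subgroup.mem_top s) (Subgroup.mem_top t))

/-- An element with the class of `g` modulo the commutator subgroup is `g ι x`. -/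
theorem exists_mul_ι {g v : G} (hv : (v : G ⧸ commutator G) = (g : G ⧸ commutator G)) : ∃ x : DP G, v = g * ι x := by
  obtain ⟨x, hx⟩ := exists_ι (QuotientGroup.eq.1 hv.symm)
  exact ⟨x, by rw [hx, mul_inv_cancel_left]⟩

theorem mk_ι (g : G) (x : DP G) : ((g * ι x : G) : G ⧸ commutator G) = (g : G ⧸ commutator G) := by
  rw [QuotientGroup.mk_mul, (QuotientGroup.eq_one_iff (ι x)).2 (ι_mem x), mul_one]

namespace Pre

variable (h : Pre G) {H : Subgroup G}

theorem mk_a_pow_mod {i k : ℕ} (hik : i % 2 ^ h.r = k % 2 ^ h.r) :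
    (h.a : G ⧸ commutator G) ^ i = (h.a : G ⧸ commutator G) ^ k :=
  pow_inj_mod.2 (by rw [h.orderOf_a]; exact hik)

theorem mk_b_sq : (h.b : G ⧸ commutator G) * (h.b : G ⧸ commutator G) = 1 := by
  rw [← QuotientGroup.mk_mul]; exact (QuotientGroup.eq_one_iff _).2 h.b_sq_mem

theorem nf_mk (v : G) : ∃ i f : ℕ, f ≤ 1 ∧
    (v : G ⧸ commutator G) = (h.a : G ⧸ commutator G) ^ i * (h.b : G ⧸ commutator G) ^ f := by
  obtain ⟨i, f, x, hf, rfl⟩ := h.nf_nat v
  exact ⟨i, f, hf, by rw [mk_ι, QuotientGroup.mk_mul, QuotientGroup.mk_pow, QuotientGroup.mk_pow]⟩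

/-- Replace `b` by `b ι u`. -/
theorem exists_shift_b (u : DP G) : ∃ h' : Pre G, h'.a = h.a ∧ h'.b = h.b * ι u := by
  refine ⟨{ a := h.a, b := h.b * ι u, isP := h.isP, gen := ?_, bb := ?_, notMeta := h.notMeta }, rfl, rfl⟩
  · refine gen_of_frattini (top_le_iff.1 (h.gen.ge.trans ((Subgroup.closure_le _).2 ?_)))
    rintro g (rfl | rfl)
    · exact Subgroup.mem_sup_left (Subgroup.subset_closure (by simp))
    · rw [SetLike.mem_coe, show h.b = (h.b * ι u) * (ι u)⁻¹ by group]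
      exact mul_mem (Subgroup.mem_sup_left (Subgroup.subset_closure (by simp)))
        (Subgroup.mem_sup_right (inv_mem (commutator_le_frattini h.isP (ι_mem u))))
  · rw [show h.b * ι u * (h.b * ι u) = ι (h.B u + h.q + u) by
      rw [ι_add, ι_add, h.ι_q, Pre.B, ι_act]; group]
    refine h.ι_deep_mem ?_
    rw [show h.B u + h.q + u = (h.B u - u) + h.q + (2 : ℤ) • u by rw [two_zsmul]; abel]
    exact h.deep.add_mem (h.deep.add_mem (h.act_sub_mem_deep h.b u) h.q_deep)
      (h.mem_deep.2 ⟨u, 0, by rw [map_zero, add_zero]⟩)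

end Pre

variable {H : Subgroup G}

/-- The case of an element of `b G'` in `H`, all exponents even. -/
theorem no_candidate_b (h : Pre G) (hnc : ¬ IsCyclic ↥(commutator G)) {x y : G} (hxy : IsProduct x y)
    (hs : Stab H) (hA : AutData H) (hb : h.b ∈ H)
    (heven : ∀ (i f : ℕ) (z : DP G), h.a ^ i * h.b ^ f * ι z ∈ H → 2 ∣ i) : False := by
  classical
  obtain ⟨K⟩ := h.coord hnc hxy
  have hr := h.two_le_r
  -- the largest common power of two of the exponents
  let Q : ℕ → Prop := fun e => ∀ (i f : ℕ) (z : DP G), h.a ^ i * h.b ^ f * ι z ∈ H → 2 ^ e ∣ i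
  have hQ1 : Q 1 := fun i f z hm => by rw [pow_one]; exact heven i f z hm
  by_cases htop : Q h.r
  · rcases eq_or_lt_of_le hr with hr2 | hr3
    · obtain ⟨hq, hJ⟩ := K.b_exp_four hs hr2.symm hb htop
      obtain ⟨A, hA1, T, hT, hrad⟩ := hA
      exact K.no_elementary hs hr2.symm hb htop hq hJ A hA1 T hT hrad
    · exact K.b_exp_top hs hr3 hb htop
  obtain ⟨e, he1, her, hQe, hne⟩ : ∃ e, 1 ≤ e ∧ e < h.r ∧ Q e ∧ ¬ Q (e + 1) := by
    have hex : ∃ n, ¬ Q (n + 2) := ⟨h.r - 2, by rw [show h.r - 2 + 2 = h.r by omega]; exact htop⟩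
    have hmin := Nat.find_spec hex
    refine ⟨Nat.find hex + 1, by omega, ?_, ?_, hmin⟩
    · have : Nat.find hex ≤ h.r - 2 := Nat.find_min' hex (by rw [show h.r - 2 + 2 = h.r by omega]; exact htop)
      omega
    · rcases Nat.eq_zero_or_pos (Nat.find hex) with h0 | hpos
      · rw [h0]; exact hQ1
      · have := Nat.find_min hex (show Nat.find hex - 1 < Nat.find hex by omega)
        rw [not_not, show Nat.find hex - 1 + 2 = Nat.find hex + 1 by omega] at this
        exact this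
  simp only [Q, not_forall] at hne
  obtain ⟨i, f, z, hmem, hdvd⟩ := hne
  obtain ⟨i', rfl⟩ := hQe i f z hmem
  have hodd : Odd i' := by
    rw [← Nat.not_even_iff_odd]
    rintro ⟨t, rfl⟩
    exact hdvd ⟨t, by rw [pow_succ]; ring⟩
  obtain ⟨w, hw⟩ : ∃ w, i' * w % 2 ^ h.r = 1 % 2 ^ h.r := by
    have hcop : Nat.Coprime i' (2 ^ h.r) := (Nat.coprime_two_right.2 hodd).pow_right _
    obtain ⟨w, -, hw⟩ := Nat.exists_mul_mod_eq_one_of_coprime hcop (Nat.one_lt_two_pow (by omega))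
    exact ⟨w, by rw [hw, Nat.mod_eq_of_lt (Nat.one_lt_two_pow (by omega))]⟩
  have hg0 : (h.a ^ (2 ^ e * i') * h.b ^ f * ι z * (h.b ^ f)⁻¹) ^ w ∈ H :=
    pow_mem (mul_mem hmem (inv_mem (pow_mem hb f))) w
  obtain ⟨u0, hu0⟩ := exists_mul_ι (g := h.a ^ 2 ^ e)
    (v := (h.a ^ (2 ^ e * i') * h.b ^ f * ι z * (h.b ^ f)⁻¹) ^ w) (by
      rw [QuotientGroup.mk_pow, QuotientGroup.mk_pow, QuotientGroup.mk_mul, mk_ι, QuotientGroup.mk_mul,
        QuotientGroup.mk_inv, mul_inv_cancel_right, QuotientGroup.mk_pow, ← pow_mul]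
      refine h.mk_a_pow_mod ?_
      rw [mul_assoc, Nat.mul_mod, hw, ← Nat.mul_mod, mul_one])
  rw [hu0] at hg0
  have hgen : ∀ v ∈ H, ∃ l f : ℕ, ∃ y : DP G, f ≤ 1 ∧ ι y ∈ H ∧
      v = (h.a ^ 2 ^ e * ι u0) ^ l * h.b ^ f * ι y := by
    intro v hv
    obtain ⟨k, f', x', hf', rfl⟩ := h.nf_nat v
    obtain ⟨l, rfl⟩ := hQe k f' x' hv
    obtain ⟨y', hy'⟩ := exists_mul_ι (g := (h.a ^ 2 ^ e * ι u0) ^ l * h.b ^ f')
      (v := h.a ^ (2 ^ e * l) * h.b ^ f' * ι x') (by
        simp only [QuotientGroup.mk_mul, QuotientGroup.mk_pow, (QuotientGroup.eq_one_iff (ι _)).2 (ι_mem _),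
          mul_one, pow_mul])
    refine ⟨l, f', y', hf', ?_, hy'⟩
    have h2 := mul_mem (inv_mem (mul_mem (pow_mem hg0 l) (pow_mem hb f'))) hv
    rwa [hy', inv_mul_cancel_left] at h2
  rcases eq_or_lt_of_le he1 with he | he
  · subst he
    rw [pow_one] at hg0 hgen
    exact K.b_exp_one hs hb u0 hg0 heven hgen
  · exact K.b_exp_mid hs he her hb u0 hg0 hQe hgen

/-- No candidate at all. -/
theorem no_candidate (h : Pre G) (hnc : ¬ IsCyclic ↥(commutator G)) {x y : G} (hxy : IsProduct x y)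
    (hs : Stab H) (hA : AutData H) : False := by
  classical
  haveI : Fact (Nat.Prime 2) := ⟨Nat.prime_two⟩
  obtain ⟨K⟩ := h.coord hnc hxy
  have hr := h.two_le_r
  by_cases heven : ∀ (i f : ℕ) (z : DP G), h.a ^ i * h.b ^ f * ι z ∈ H → 2 ∣ i
  swap
  · simp only [not_forall] at heven
    obtain ⟨i, f, z, hmem, hdvd⟩ := heven
    set a' := h.a ^ i * h.b ^ f * ι z with ha'
    have hgen : Subgroup.closure {a', h.b} = (⊤ : Subgroup G) := by
      refine gen_of_frattini (top_le_iff.1 (h.gen.ge.trans ((Subgroup.closure_le _).2 ?_)))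
      set L := Subgroup.closure {a', h.b} ⊔ frattini G
      have hbL : h.b ∈ L := Subgroup.mem_sup_left (Subgroup.subset_closure (by simp))
      have hai : h.a ^ i ∈ L := by
        rw [show h.a ^ i = a' * (ι z)⁻¹ * (h.b ^ f)⁻¹ by rw [ha']; group]
        exact mul_mem (mul_mem (Subgroup.mem_sup_left (Subgroup.subset_closure (by simp)))
          (Subgroup.mem_sup_right (inv_mem (commutator_le_frattini h.isP (ι_mem z))))) (inv_mem (pow_mem hbL f))
      rintro g (rfl | rfl)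
      · obtain ⟨t, ht⟩ : Odd i := by
          rw [← Nat.not_even_iff_odd, even_iff_two_dvd]; exact hdvd
        have h2 : (h.a * h.a) ^ t ∈ L :=
          Subgroup.mem_sup_right (pow_mem (by
            rw [← pow_two]; exact CfsgLib.PGroup.Frattini.pow_mem_frattini h.isP h.a) t)
        rw [SetLike.mem_coe, show h.a = ((h.a * h.a) ^ t)⁻¹ * h.a ^ i by
          rw [ht, pow_succ, pow_mul, pow_two]; group]
        exact mul_mem (inv_mem h2) hai
      · exact hbL
    let h' : Pre G := { a := a', b := h.b, isP := h.isP, gen := hgen, bb := h.bb, notMeta := h.notMeta }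
    obtain ⟨K'⟩ := h'.coord hnc hxy
    exact K'.a_notMem hs hmem
  by_cases hbH : ∃ u : DP G, h.b * ι u ∈ H
  · obtain ⟨u, hu⟩ := hbH
    obtain ⟨h', ha, hb⟩ := h.exists_shift_b u
    refine no_candidate_b h' hnc hxy hs hA (hb ▸ hu) fun i f z hm => ?_
    rw [ha, hb] at hm
    obtain ⟨z', hz'⟩ := exists_mul_ι (g := h.a ^ i * h.b ^ f) (v := h.a ^ i * (h.b * ι u) ^ f * ι z) (by
      simp only [QuotientGroup.mk_mul, QuotientGroup.mk_pow, (QuotientGroup.eq_one_iff (ι _)).2 (ι_mem _), mul_one])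
    exact heven i f z' (hz' ▸ hm)
  simp only [not_exists] at hbH
  have hnob : ∀ v ∈ H, ∀ f : ℕ, f ≤ 1 → (v : G ⧸ commutator G) = (h.b : G ⧸ commutator G) ^ f → f = 0 := by
    intro v hv f hf he
    interval_cases f
    · rfl
    · rw [pow_one] at he
      obtain ⟨u, rfl⟩ := exists_mul_ι he
      exact absurd hv (hbH u)
  -- the largest common power of two of the exponents
  let Q : ℕ → Prop := fun e => ∀ (i f : ℕ) (z : DP G), h.a ^ i * h.b ^ f * ι z ∈ H → 2 ^ e ∣ i
  have hQ1 : Q 1 := fun i f z hm => by rw [pow_one]; exact heven i f z hm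
  by_cases htop : Q h.r
  · apply K.not_le_commutator hs
    intro v hv
    obtain ⟨i, f, z, hf, rfl⟩ := h.nf_nat v
    obtain ⟨i', rfl⟩ := htop i f z hv
    have hmk : ((h.a ^ (2 ^ h.r * i') * h.b ^ f * ι z : G) : G ⧸ commutator G) = (h.b : G ⧸ commutator G) ^ f := by
      rw [mk_ι, QuotientGroup.mk_mul, QuotientGroup.mk_pow, QuotientGroup.mk_pow, pow_mul, ← h.orderOf_a,
        pow_orderOf_eq_one, one_pow, one_mul]
    exact (QuotientGroup.eq_one_iff _).1 (hmk.trans (by rw [hnob _ hv f hf hmk, pow_zero]))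
  obtain ⟨e, he1, her, hQe, hne⟩ : ∃ e, 1 ≤ e ∧ e < h.r ∧ Q e ∧ ¬ Q (e + 1) := by
    have hex : ∃ n, ¬ Q (n + 2) := ⟨h.r - 2, by rw [show h.r - 2 + 2 = h.r by omega]; exact htop⟩
    have hmin := Nat.find_spec hex
    refine ⟨Nat.find hex + 1, by omega, ?_, ?_, hmin⟩
    · have : Nat.find hex ≤ h.r - 2 := Nat.find_min' hex (by rw [show h.r - 2 + 2 = h.r by omega]; exact htop)
      omega
    · rcases Nat.eq_zero_or_pos (Nat.find hex) with h0 | hpos
      · rw [h0]; exact hQ1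
      · have := Nat.find_min hex (show Nat.find hex - 1 < Nat.find hex by omega)
        rw [not_not, show Nat.find hex - 1 + 2 = Nat.find hex + 1 by omega] at this
        exact this
  simp only [Q, not_forall] at hne
  obtain ⟨i, f, z, hmem, hdvd⟩ := hne
  obtain ⟨i', rfl⟩ := hQe i f z hmem
  have hodd : Odd i' := by
    rw [← Nat.not_even_iff_odd]
    rintro ⟨t, rfl⟩
    exact hdvd ⟨t, by rw [pow_succ]; ring⟩
  obtain ⟨w, hw⟩ : ∃ w, i' * w % 2 ^ h.r = 1 % 2 ^ h.r := by
    have hcop : Nat.Coprime i' (2 ^ h.r) := (Nat.coprime_two_right.2 hodd).pow_right _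
    obtain ⟨w, -, hw⟩ := Nat.exists_mul_mod_eq_one_of_coprime hcop (Nat.one_lt_two_pow (by omega))
    exact ⟨w, by rw [hw, Nat.mod_eq_of_lt (Nat.one_lt_two_pow (by omega))]⟩
  obtain ⟨ε, hε, hεw⟩ : ∃ ε, ε ≤ 1 ∧
      (h.b : G ⧸ commutator G) ^ (f * w) = (h.b : G ⧸ commutator G) ^ ε := by
    refine ⟨(f * w) % 2, by omega, ?_⟩
    conv_lhs => rw [← Nat.div_add_mod (f * w) 2, pow_add, pow_mul, pow_two, h.mk_b_sq, one_pow, one_mul]
  obtain ⟨u0, hu0⟩ := exists_mul_ι (g := h.a ^ 2 ^ e * h.b ^ ε)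
    (v := (h.a ^ (2 ^ e * i') * h.b ^ f * ι z) ^ w) (by
      rw [QuotientGroup.mk_pow, mk_ι, QuotientGroup.mk_mul, QuotientGroup.mk_mul, (comm_quot _ _).mul_pow,
        QuotientGroup.mk_pow, QuotientGroup.mk_pow, QuotientGroup.mk_pow, QuotientGroup.mk_pow, ← pow_mul, ← pow_mul,
        hεw]
      congr 1
      refine h.mk_a_pow_mod ?_
      rw [mul_assoc, Nat.mul_mod, hw, ← Nat.mul_mod, mul_one])
  have hg0 : h.a ^ 2 ^ e * h.b ^ ε * ι u0 ∈ H := hu0 ▸ pow_mem hmem w
  set g := h.a ^ 2 ^ e * h.b ^ ε * ι u0 with hgdef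
  have hgen : ∀ v ∈ H, ∃ l : ℕ, ∃ y : DP G, ι y ∈ H ∧ v = g ^ l * ι y := by
    intro v hv
    obtain ⟨k, f', x', hf', rfl⟩ := h.nf_nat v
    obtain ⟨l, rfl⟩ := hQe k f' x' hv
    set v := h.a ^ (2 ^ e * l) * h.b ^ f' * ι x' with hvdef
    have hvg : (g ^ l)⁻¹ * v ∈ H := mul_mem (inv_mem (pow_mem hg0 l)) hv
    have hmk : (((g ^ l)⁻¹ * v : G) : G ⧸ commutator G) = (h.b : G ⧸ commutator G) ^ ((f' + ε * l) % 2) := by
      rw [QuotientGroup.mk_mul, QuotientGroup.mk_inv, inv_mul_eq_iff_eq_mul, hvdef, hgdef]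
      simp only [QuotientGroup.mk_mul, QuotientGroup.mk_pow, (QuotientGroup.eq_one_iff (ι _)).2 (ι_mem _), mul_one]
      have hb2 : ∀ n : ℕ, (h.b : G ⧸ commutator G) ^ n = (h.b : G ⧸ commutator G) ^ (n % 2) := fun n => by
        conv_lhs => rw [← Nat.div_add_mod n 2, pow_add, pow_mul, pow_two, h.mk_b_sq, one_pow, one_mul]
      rw [(comm_quot _ _).mul_pow, ← pow_mul, ← pow_mul, mul_assoc, ← hb2, ← pow_add]
      congr 1
      rw [hb2 f', hb2 (ε * l + (f' + ε * l))]
      congr 1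
      omega
    rw [hnob _ hvg _ (by omega) hmk, pow_zero] at hmk
    obtain ⟨y', hy'⟩ := exists_ι ((QuotientGroup.eq_one_iff _).1 hmk)
    exact ⟨l, y', by rw [hy']; exact hvg, by rw [hy', mul_inv_cancel_left]⟩
  interval_cases ε
  · rw [pow_zero, mul_one] at hgdef
    rw [hgdef] at hg0 hgen
    exact K.no_b_zero hs he1 her u0 hg0 hQe hgen
  rw [pow_one] at hgdef
  by_cases he2 : e + 2 ≤ h.r
  · rw [hgdef] at hg0 hgen
    exact K.no_b_one hs he1 he2 u0 hg0 hQe hgen
  -- `g` squares into `[G', G] G'²`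
  have her1 : e + 1 = h.r := by omega
  have hgg : g * g ∈ deepComm G := by
    set π := QuotientGroup.mk' (deepComm G)
    have h0 : ∀ v : DP G, v ∈ h.deep → π (ι v) = 1 := fun v hv => (QuotientGroup.eq_one_iff _).2 (h.ι_deep_mem hv)
    have hcen : ∀ (v : G) (y : DP G), Commute (π v) (π (ι y)) := fun v y => by
      rw [← commutatorElement_eq_one_iff_commute, ← map_commutatorElement, comm_ι_right]
      exact h0 _ (h.act_sub_mem_deep v y)
    have hc : Commute (π (h.a ^ 2 ^ e)) (π h.b) := by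
      rw [← commutatorElement_eq_one_iff_commute, ← map_commutatorElement, h.comm_a_pow_b]
      refine h0 _ ?_
      rw [K.S_eq, show e = e - 1 + 1 by omega, pow_succ']
      refine h.deep.add_mem (h.mem_deep.2 ⟨((2 : ℤ) ^ (e - 1)) • h.c, 0, ?_⟩) (h.deep.zsmul_mem ?_ _)
      · rw [map_zero, add_zero, smul_smul]; push_cast; rfl
      · exact h.mem_deep.2 ⟨0, h.c, by rw [smul_zero, zero_add]; rfl⟩
    refine (QuotientGroup.eq_one_iff (g * g)).1 ?_
    show π (g * g) = 1
    have hqq : π h.b * π h.b = 1 := by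
      rw [← map_mul]; exact (QuotientGroup.eq_one_iff _).2 h.bb
    have huu : π (ι u0) * π (ι u0) = 1 := by
      rw [← map_mul, ← ι_add]
      exact h0 _ (h.mem_deep.2 ⟨u0, 0, by rw [map_zero, add_zero, two_zsmul]⟩)
    have haa : π (h.a ^ 2 ^ e) * π (h.a ^ 2 ^ e) = 1 := by
      rw [← map_mul, ← pow_add, ← two_mul, ← pow_succ', her1, ← zpow_natCast, Nat.cast_pow, Nat.cast_ofNat, ← h.ι_m]
      refine h0 _ ?_
      obtain ⟨t, ht⟩ := K.odd
      exact h.mem_deep.2 ⟨-(K.j • h.c + t • h.m), h.c, by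
        rw [show h.X h.c = h.d from rfl, K.hd, ht]; module⟩
    rw [map_mul, hgdef, map_mul, map_mul,
      (((hcen _ u0).mul_left (hcen _ u0)).symm : Commute (π (ι u0)) (π (h.a ^ 2 ^ e) * π h.b)).mul_mul_mul_comm, huu,
      mul_one, hc.symm.mul_mul_mul_comm, haa, hqq, mul_one]
  have hgen2 : Subgroup.closure {h.a, g} = (⊤ : Subgroup G) := by
    refine gen_of_frattini (top_le_iff.1 (h.gen.ge.trans ((Subgroup.closure_le _).2 ?_)))
    rintro v (rfl | rfl)
    · exact Subgroup.mem_sup_left (Subgroup.subset_closure (by simp))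
    · rw [SetLike.mem_coe, show h.b = (h.a ^ 2 ^ e)⁻¹ * g * (ι u0)⁻¹ by rw [hgdef]; group]
      exact mul_mem (mul_mem (inv_mem (pow_mem (Subgroup.mem_sup_left (Subgroup.subset_closure (by simp))) _))
        (Subgroup.mem_sup_left (Subgroup.subset_closure (by simp))))
        (Subgroup.mem_sup_right (inv_mem (commutator_le_frattini h.isP (ι_mem u0))))
  let h' : Pre G := { a := h.a, b := g, isP := h.isP, gen := hgen2, bb := hgg, notMeta := h.notMeta }
  refine no_candidate_b h' hnc hxy hs hA hg0 fun k f' z' hm => ?_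
  obtain ⟨z'', hz''⟩ := exists_mul_ι (g := h.a ^ (k + 2 ^ e * f') * h.b ^ f') (v := h.a ^ k * g ^ f' * ι z') (by
    rw [hgdef]
    simp only [QuotientGroup.mk_mul, QuotientGroup.mk_pow, (QuotientGroup.eq_one_iff (ι _)).2 (ι_mem _), mul_one]
    rw [(comm_quot _ _).mul_pow, ← pow_mul, ← mul_assoc, ← pow_add])
  have h2 := heven _ f' z'' (hz'' ▸ (show h.a ^ k * g ^ f' * ι z' ∈ H from hm))
  have h3 : 2 ∣ 2 ^ e * f' := Dvd.dvd.mul_right (dvd_pow_self 2 (by omega)) f'
  exact (Nat.dvd_add_left h3).1 h2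

/-- Automorphisms of odd order are trivial. -/
theorem aut_coprime_eq_one (h : Pre G) {α : MulAut G} (hα : (orderOf α).Coprime 2) : α = 1 := by
  haveI : Fact (Nat.Prime 2) := ⟨Nat.prime_two⟩
  set π := QuotientGroup.mk' (frattini G) with hπ
  have hsq : ∀ g : G, π g * π g = 1 := fun g => by
    rw [← map_mul, ← pow_two]; exact (QuotientGroup.eq_one_iff _).2 (CfsgLib.PGroup.Frattini.pow_mem_frattini h.isP g)
  have hι : ∀ u : DP G, π (ι u) = 1 := fun u => (QuotientGroup.eq_one_iff _).2 (commutator_le_frattini h.isP (ι_mem u))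
  have hab : π h.b ≠ 1 := fun e => by
    have hb : h.b ∈ frattini G := (QuotientGroup.eq_one_iff _).1 e
    have hz : Subgroup.zpowers h.a = ⊤ := gen_of_frattini (top_le_iff.1 (h.gen.ge.trans ((Subgroup.closure_le _).2 (by
      rintro g (rfl | rfl)
      · exact Subgroup.mem_sup_left (Subgroup.mem_zpowers h.a)
      · exact Subgroup.mem_sup_right hb))))
    obtain ⟨k, hk⟩ := Subgroup.mem_zpowers_iff.1 (hz.ge (Subgroup.mem_top h.b))
    have : h.a ^ (-k) * h.b ^ (1 : ℤ) ∈ commutator G := by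
      rw [← hk, zpow_one, zpow_neg, inv_mul_cancel]; exact one_mem _
    exact absurd (h.sep.1 this).2 (by decide)
  have haB : ∀ f : ℕ, π h.a ≠ π h.b ^ f := fun f e => by
    have hz : Subgroup.zpowers h.b = ⊤ := gen_of_frattini (top_le_iff.1 (h.gen.ge.trans ((Subgroup.closure_le _).2 (by
      rintro g (rfl | rfl)
      · rw [SetLike.mem_coe, ← mul_inv_cancel_left (h.b ^ f) h.a]
        refine mul_mem (Subgroup.mem_sup_left (pow_mem (Subgroup.mem_zpowers h.b) f)) (Subgroup.mem_sup_right ?_)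
        refine (QuotientGroup.eq_one_iff _).1 ?_
        show π ((h.b ^ f)⁻¹ * h.a) = 1
        rw [map_mul, map_inv, map_pow, ← e, inv_mul_cancel]
      · exact Subgroup.mem_sup_left (Subgroup.mem_zpowers h.b)))))
    obtain ⟨k, hk⟩ := Subgroup.mem_zpowers_iff.1 (hz.ge (Subgroup.mem_top h.a))
    have h1 : h.a ^ (1 : ℤ) * h.b ^ (-k) ∈ commutator G := by
      rw [← hk, zpow_one, zpow_neg, mul_inv_cancel]; exact one_mem _
    have h2 := (h.sep.1 h1).1
    have h3 := Int.le_of_dvd one_pos h2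
    have : (2 : ℤ) ^ 2 ≤ 2 ^ h.r := by gcongr <;> [norm_num; exact h.two_le_r]
    omega
  have hev : ∀ i : ℕ, Even i → π (h.a ^ i) = 1 := by
    rintro i ⟨t, rfl⟩
    rw [map_pow, ← two_mul, pow_mul, pow_two, hsq, one_pow]
  have hinj : ∀ {g : G}, π g ≠ 1 → π (α g) ≠ 1 := fun {g} hg e => hg (by
    refine (QuotientGroup.eq_one_iff _).2 ?_
    have h1 := (Subgroup.characteristic_iff_map_le.1 frattini_characteristic α⁻¹)
      ⟨α g, (QuotientGroup.eq_one_iff _).1 e, rfl⟩
    rwa [show (α⁻¹).toMonoidHom (α g) = g from MulAut.inv_apply_self _ α g] at h1)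
  -- the class of `b` is fixed
  have hb : π (α h.b) = π h.b := by
    obtain ⟨i, f, u, hf, e⟩ := h.nf_nat (α h.b)
    have h2 : α h.b * α h.b ∈ commutator G := by
      rw [← map_mul]
      exact (Subgroup.characteristic_iff_map_le.1 (inferInstance : (commutator G).Characteristic) α)
        ⟨_, h.b_sq_mem, rfl⟩
    have hie : π (h.a ^ i) = 1 := hev i (even_iff_two_dvd.2
      ((dvd_pow_self 2 (by have := h.two_le_r; omega)).trans (h.even_of_sq_mem e h2)))
    have hπb : π (α h.b) = π h.b ^ f := by rw [e, map_mul, map_mul, hie, hι, one_mul, mul_one, map_pow]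
    interval_cases f
    · exact absurd (hπb.trans (pow_zero _)) (hinj hab)
    · rw [hπb, pow_one]
  -- the class of `a` moves by a power of the class of `b`
  obtain ⟨i, f, u, hf, e⟩ := h.nf_nat (α h.a)
  have hi : Odd i := by
    rw [← Nat.not_even_iff_odd]
    intro hie
    have hπa : π (α h.a) = π h.b ^ f := by rw [e, map_mul, map_mul, hev i hie, hι, one_mul, mul_one, map_pow]
    -- then all classes are powers of the class of `b`
    let L : Subgroup G := (Subgroup.zpowers (π h.b)).comap (π.comp α.toMonoidHom)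
    have htop : L = ⊤ := top_le_iff.1 (h.gen.ge.trans ((Subgroup.closure_le _).2 (by
      rintro g (rfl | rfl)
      · show π (α h.a) ∈ Subgroup.zpowers (π h.b)
        rw [hπa]; exact pow_mem (Subgroup.mem_zpowers _) f
      · show π (α h.b) ∈ Subgroup.zpowers (π h.b)
        rw [hb]; exact Subgroup.mem_zpowers _)))
    have h1 : α⁻¹ h.a ∈ L := htop.ge (Subgroup.mem_top _)
    obtain ⟨k, hk⟩ := Subgroup.mem_zpowers_iff.1 (show π (α (α⁻¹ h.a)) ∈ Subgroup.zpowers (π h.b) from h1)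
    rw [MulAut.apply_inv_self] at hk
    rcases Int.even_or_odd' k with ⟨t, rfl | rfl⟩
    · rw [zpow_mul, zpow_two, hsq, one_zpow] at hk
      exact haB 0 (by rw [pow_zero, ← hk])
    · rw [zpow_add_one, zpow_mul, zpow_two, hsq, one_zpow, one_mul] at hk
      exact haB 1 (by rw [pow_one, ← hk])
  obtain ⟨t, ht⟩ := hi
  have hπa : π (α h.a) = π h.a * π h.b ^ f := by
    rw [e, map_mul, map_mul, hι, mul_one, ht, map_pow, pow_succ, pow_mul, pow_two, hsq, one_pow, one_mul, map_pow]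
  refine CfsgLib.PGroup.FrattiniAct.eq_one_of_quot h.isP hα ?_
  set q := CfsgLib.PGroup.FrattiniAct.quot α with hqdef
  have hqb : q (π h.b) = π h.b := hb
  have hqcop : (orderOf q).Coprime 2 := hα.coprime_dvd_left (orderOf_map_dvd _ α)
  have hqa : q (π h.a) = π h.a := by
    refine fixed_of_fixed_shift (h.isP.to_quotient _) hqcop ?_
    rw [show q (π h.a) = π h.a * π h.b ^ f from hπa, inv_mul_cancel_left, map_pow, hqb]
  refine MulEquiv.ext fun v => ?_
  obtain ⟨g, rfl⟩ := QuotientGroup.mk'_surjective (frattini G) v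
  show q (π g) = π g
  have hle : Subgroup.closure {h.a, h.b} ≤ (q.toMonoidHom.comp π).eqLocus π := by
    rw [Subgroup.closure_le]
    rintro w (rfl | rfl)
    · exact hqa
    · exact hqb
  exact hle (h.gen ▸ Subgroup.mem_top g)

end CfsgLib.Fsys.Bicyclic
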