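import Cfsg.Agent.Lib.FusionSystem.Bicyclic.Noncyclic

/-!
The operators of a non-cyclic commutator subgroup of a product of two cyclic `2`-groups in coordinates.
-/

set_option autoImplicit false
set_option linter.style.haveILetI false
set_option linter.unusedSectionVars false

open scoped commutatorElement IsMulCommutative

namespace CfsgLib.Fsys.Bicyclic

variable {G : Type*} [Group G] [Finite G] [IsMulCommutative ↥(commutator G)]

/-- The coordinates of `[a, c]` and of `b²` with respect to `c` and `m`. -/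
structure Coord (h : Pre G) where
  j : ℤ
  ε : ℤ
  p : ℤ
  s : ℤ
  odd : Odd ε
  hd : h.d = (2 * j) • h.c + ε • h.m
  hq : h.q = (2 * p) • h.c + s • h.m
  gen : ∀ w : DP G, ∃ k l : ℤ, w = k • h.c + l • h.m
  ind : ∀ k l : ℤ, (∃ w : DP G, k • h.c + l • h.m = (2 : ℤ) • w) → Even k ∧ Even l

theorem Pre.coord (h : Pre G) (hnc : ¬ IsCyclic ↥(commutator G)) {x y : G} (hxy : IsProduct x y) :
    Nonempty (Coord h) := by
  obtain ⟨hgen, hind, j, ε, p, s, hε, hd, hq⟩ := h.structure_nc hnc hxy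
  exact ⟨⟨j, ε, p, s, hε, hd, hq, hgen, hind⟩⟩

namespace Coord

variable {h : Pre G} (K : Coord h)
include K

theorem X_d : h.X h.d = (2 * K.j) • h.d := by
  conv_lhs => rw [K.hd]
  rw [map_add, map_zsmul, map_zsmul, h.X_m, smul_zero, add_zero]
  rfl

theorem XX (x : DP G) : h.X (h.X x) = (2 * K.j) • h.X x := by
  have : h.X * h.X = ((2 * K.j : ℤ) : AddMonoid.End (DP G)) * h.X :=
    h.ext_c ((Commute.refl h.X).mul_left (Commute.refl h.X)) ((Int.cast_commute _ _).mul_left (Commute.refl h.X))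
      (by
        show h.X h.d = _
        rw [K.X_d]; rfl)
  exact DFunLike.congr_fun this x

theorem B_eq (x : DP G) : h.B x = -x + (2 * K.p) • h.X x := by
  have : h.B = ((-1 : ℤ) : AddMonoid.End (DP G)) + ((2 * K.p : ℤ) : AddMonoid.End (DP G)) * h.X := by
    refine h.ext_c h.comm_XB.symm ((Int.cast_commute _ _).add_left ((Int.cast_commute _ _).mul_left (Commute.refl h.X))) ?_
    rw [h.B_c]
    conv_lhs => rw [K.hq]
    rw [map_add, map_zsmul, map_zsmul, h.X_m, smul_zero, add_zero]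
    show _ = (-1 : ℤ) • h.c + (2 * K.p) • h.X h.c
    rw [neg_one_zsmul]
    abel
  rw [DFunLike.congr_fun this x]
  show (-1 : ℤ) • x + (2 * K.p) • h.X x = _
  rw [neg_one_zsmul]

theorem B_m : h.B h.m = -h.m := by rw [K.B_eq, h.X_m, smul_zero, add_zero]

/-- A multiple of `X` has no fixed points but zero. -/
theorem eq_zero_of_fix {y : DP G} {k : ℤ} (hy : y = k • h.X y) : y = 0 := by
  obtain ⟨n, hn⟩ := h.X_nilpotent
  have hit : ∀ i : ℕ, y = k ^ i • (h.X ^ i) y := by
    intro i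
    induction i with
    | zero => simp
    | succ i ih =>
      conv_lhs => rw [ih, hy]
      rw [map_zsmul, smul_smul, pow_succ, pow_succ h.X]
      rfl
  rw [hit n, hn]
  exact smul_zero _

theorem two_of_B_fix {x : DP G} (hx : h.B x = x) : (2 : ℤ) • x = 0 := by
  refine K.eq_zero_of_fix (k := K.p) ?_
  rw [K.B_eq] at hx
  rw [map_zsmul, smul_smul, mul_comm K.p]
  calc (2 : ℤ) • x = (-x + (2 * K.p) • h.X x) - x + ((2 : ℤ) • x) := by rw [hx]; abel
    _ = (2 * K.p) • h.X x := by rw [two_zsmul]; abel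

theorem two_q : (2 : ℤ) • h.q = 0 := K.two_of_B_fix h.B_q

/-- `1 - p X`. -/
noncomputable def U (x : DP G) : DP G := x - K.p • h.X x

theorem B_sub (x : DP G) : h.B x - x = -((2 : ℤ) • K.U x) := by
  rw [K.B_eq, U, smul_sub, smul_smul, two_zsmul]; abel

theorem U_inj : Function.Injective K.U := by
  intro x y hxy
  rw [← sub_eq_zero]
  refine K.eq_zero_of_fix (k := K.p) ?_
  simp only [U] at hxy
  rw [map_sub, smul_sub]
  calc x - y = (x - K.p • h.X x) - y + K.p • h.X x := by abel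
    _ = _ := by rw [hxy]; abel

theorem U_surj : Function.Surjective K.U := Finite.injective_iff_surjective.1 K.U_inj

theorem U_zsmul (k : ℤ) (x : DP G) : K.U (k • x) = k • K.U x := by
  simp only [U, map_zsmul, smul_sub, smul_comm K.p k]

omit K in
/-- The coefficient with `A ^ k = 1 + e k • X`. -/
def ee (j : ℤ) : ℕ → ℤ
  | 0 => 0
  | k + 1 => 1 + (1 + 2 * j) * ee j k

omit K in
/-- The coefficient with `[a ^ k, b] = k c + kap k • d`. -/
def kap (j : ℤ) : ℕ → ℤ
  | 0 => 0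
  | k + 1 => (1 + 2 * j) * kap j k + k

theorem A_pow (k : ℕ) (x : DP G) : (h.A ^ k) x = x + ee K.j k • h.X x := by
  induction k with
  | zero => simp [ee]
  | succ k ih =>
    rw [pow_succ']
    show h.A ((h.A ^ k) x) = _
    rw [ih, map_add, map_zsmul, h.A_apply, h.A_apply (h.X x), K.XX, ee, smul_add, smul_smul, add_smul, one_smul,
      add_mul, one_mul, add_smul, mul_comm (ee K.j k)]
    abel

theorem S_eq (k : ℕ) : h.S k = (k : ℤ) • h.c + kap K.j k • h.d := by
  induction k with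
  | zero => simp [Pre.S, kap]
  | succ k ih =>
    rw [Pre.S, ih, h.A_apply, map_add, map_zsmul, map_zsmul, K.X_d, kap, smul_smul, Nat.cast_succ, add_smul,
      one_smul, add_smul, add_mul, one_mul, add_smul, mul_comm (kap K.j k)]
    show _ + ((k : ℤ) • h.d + _) + h.c = _
    abel

theorem two_m : (2 : ℤ) • h.m = h.S (2 ^ h.r) := by
  rw [← h.m_sub_B_m, K.B_m, sub_neg_eq_add, two_zsmul]

omit K in
theorem ee_even (j : ℤ) (l : ℕ) : ∃ t : ℤ, ee j (2 * l) = 2 * (1 + j) * t := by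
  induction l with
  | zero => exact ⟨0, by simp [ee]⟩
  | succ l ih =>
    obtain ⟨t, ht⟩ := ih
    refine ⟨1 + (1 + 2 * j) ^ 2 * t, ?_⟩
    rw [show 2 * (l + 1) = 2 * l + 1 + 1 by ring, ee, ee, ht]
    ring

omit K in
theorem kap_two (j : ℤ) : kap j 2 = 1 := by simp [kap]

omit K in
theorem kap_parity (j : ℤ) (l : ℕ) : ∃ t : ℤ, kap j (2 * l) = l + 2 * t := by
  induction l with
  | zero => exact ⟨0, by simp [kap]⟩
  | succ l ih =>
    obtain ⟨t, ht⟩ := ih
    refine ⟨(1 + 2 * j) ^ 2 * t + 2 * j * (1 + j) * l + l * (1 + 2 * j) + l - (j * 0), ?_⟩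
    rw [show 2 * (l + 1) = 2 * l + 1 + 1 by ring, kap, kap, ht]
    push_cast
    ring

omit K in
theorem kap_four (j : ℤ) (l : ℕ) : ∃ t : ℤ, kap j (4 * l) = 2 * l + 4 * t := by
  induction l with
  | zero => exact ⟨0, by simp [kap]⟩
  | succ l ih =>
    obtain ⟨t, ht⟩ := ih
    have key : ∀ (u K' : ℤ), Odd u → ∀ n : ℤ, (4 : ℤ) ∣ u * (u * (u * (u * K' + n) + (n + 1)) + (n + 2)) + (n + 3) - (K' + 2) := by
      intro u K' hu n
      obtain ⟨w, rfl⟩ := hu
      obtain ⟨e, rfl | rfl⟩ := Int.even_or_odd' w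
      · exact ⟨K' * (64 * e ^ 4 + 64 * e ^ 3 + 24 * e ^ 2 + 4 * e) + n * (16 * e ^ 3 + 16 * e ^ 2 + 6 * e + 1)
          + 4 * e ^ 2 + 4 * e + 1, by ring⟩
      · exact ⟨K' * (64 * e ^ 4 + 192 * e ^ 3 + 216 * e ^ 2 + 108 * e + 20)
          + n * (16 * e ^ 3 + 40 * e ^ 2 + 34 * e + 10) + 4 * e ^ 2 + 8 * e + 4, by ring⟩
    obtain ⟨t', ht'⟩ := key (1 + 2 * j) (kap j (4 * l)) ⟨j, by ring⟩ ((4 * l : ℕ) : ℤ)
    refine ⟨t + t', ?_⟩
    rw [show 4 * (l + 1) = 4 * l + 1 + 1 + 1 + 1 by ring, kap, kap, kap, kap]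
    push_cast at ht' ⊢
    linear_combination ht' + ht

end Coord

end CfsgLib.Fsys.Bicyclic
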