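import Mathlib

/-!
Extending a finite group by a cyclic group when a power of an automorphism is inner.
-/

set_option autoImplicit false
set_option linter.style.haveILetI false

namespace CfsgLib.Fsys.Bicyclic

/-- If `α ^ d` is conjugation by `g`, `g` is fixed by `α` and `g ^ e = 1`, then `L` is normal of index `d` in a group
where `α` is conjugation by an element whose `d`-th power is `g`. -/
theorem exists_glue {L : Type} [Group L] [Finite L] (α : MulAut L) (g : L) (d e : ℕ) (hd : 0 < d) (he : 0 < e)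
    (hαd : ∀ x, (α ^ d) x = g * x * g⁻¹) (hg : α g = g) (hge : g ^ e = 1) :
    ∃ (X : Type) (_ : Group X) (_ : Finite X) (ι : L →* X) (A : X), Function.Injective ι ∧
      A ^ d = ι g ∧ (∀ x, A * ι x * A⁻¹ = ι (α x)) ∧ (∀ (j : ℕ) (x : L), A ^ j * ι x = 1 → d ∣ j) ∧
      Nat.card X = Nat.card L * d := by
  have hpow : ∀ m : ℕ, ∀ x, ((α ^ d) ^ m) x = g ^ m * x * (g ^ m)⁻¹ := by
    intro m
    induction m with
    | zero => intro x; simp
    | succ m ih => intro x; rw [pow_succ', MulAut.mul_apply, ih, hαd, pow_succ']; group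
  have hαM : α ^ (d * e) = 1 := by
    rw [pow_mul]
    refine MulEquiv.ext fun x => ?_
    rw [hpow, hge]
    simp
  haveI : NeZero (d * e) := ⟨(Nat.mul_pos hd he).ne'⟩
  let φ : Multiplicative (ZMod (d * e)) →* MulAut L :=
    AddMonoidHom.toMultiplicativeLeft (ZMod.lift (d * e) ⟨zmultiplesHom _ (Additive.ofMul α), by
      show (((d * e : ℕ) : ℤ)) • Additive.ofMul α = 0
      rw [natCast_zsmul, ← ofMul_pow, hαM, ofMul_one]⟩)
  have hφ : ∀ z : ℤ, φ (Multiplicative.ofAdd (z : ZMod (d * e))) = α ^ z := fun z => by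
    show Additive.toMul (ZMod.lift (d * e) _ (z : ZMod (d * e))) = α ^ z
    rw [ZMod.lift_coe]
    rfl
  let a : Multiplicative (ZMod (d * e)) := Multiplicative.ofAdd ((1 : ℤ) : ZMod (d * e))
  have ha : φ a = α := by rw [hφ 1, zpow_one]
  have haz : ∀ z : ℤ, a ^ z = 1 ↔ ((d * e : ℕ) : ℤ) ∣ z := fun z => by
    rw [← ZMod.intCast_zmod_eq_zero_iff_dvd, show a ^ z = Multiplicative.ofAdd ((z : ZMod (d * e))) by
      rw [show a = Multiplicative.ofAdd ((1 : ℤ) : ZMod (d * e)) from rfl, ← ofAdd_zsmul, zsmul_eq_mul, Int.cast_one,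
        mul_one]]
    rfl
  set X0 := L ⋊[φ] Multiplicative (ZMod (d * e)) with hX0
  haveI : Finite X0 := Finite.of_equiv _ SemidirectProduct.equivProd.symm
  let iL : L →* X0 := SemidirectProduct.inl
  let iR : Multiplicative (ZMod (d * e)) →* X0 := SemidirectProduct.inr
  have hconj : ∀ (w : Multiplicative (ZMod (d * e))) (x : L), iR w * iL x = iL (φ w x) * iR w := fun w x => by
    rw [show iL (φ w x) = iR w * iL x * iR w⁻¹ from SemidirectProduct.inl_aut _ _, map_inv, inv_mul_cancel_right]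
  have had : φ (a ^ d) = α ^ d := by rw [map_pow, ha]
  set δ : X0 := iL g⁻¹ * iR (a ^ d) with hδ
  have hδc : ∀ y : X0, y * δ = δ * y := by
    have h1 : ∀ x, iL x * δ = δ * iL x := fun x => by
      rw [hδ, mul_assoc _ (iR _) (iL x), hconj, had, hαd, ← mul_assoc, ← mul_assoc, ← map_mul, ← map_mul]
      congr 2
      group
    have h2 : ∀ w, iR w * δ = δ * iR w := fun w => by
      have hw : φ w g = g := by
        obtain ⟨z, hz⟩ := ZMod.intCast_surjective (Multiplicative.toAdd w)
        rw [show w = Multiplicative.ofAdd ((z : ZMod (d * e))) by rw [hz]; rfl, hφ]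
        exact (show α ^ z ∈ MulAction.stabilizer (MulAut L) g from zpow_mem hg z)
      rw [hδ, ← mul_assoc, hconj, map_inv (φ w), hw, mul_assoc, mul_assoc, ← map_mul iR, ← map_mul iR, mul_comm w]
    intro y
    rw [← SemidirectProduct.inl_left_mul_inr_right y, mul_assoc, h2, ← mul_assoc, h1, mul_assoc]
  set D : Subgroup X0 := Subgroup.zpowers δ with hD
  haveI : D.Normal := ⟨fun x hx w => by
    obtain ⟨l, rfl⟩ := Subgroup.mem_zpowers_iff.1 hx
    rw [((show Commute w δ from hδc w).zpow_right l).eq, mul_inv_cancel_right]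
    exact zpow_mem (Subgroup.mem_zpowers δ) l⟩
  have hcomm : Commute (iL g⁻¹) (iR (a ^ d)) := by
    show iL g⁻¹ * iR (a ^ d) = iR (a ^ d) * iL g⁻¹
    rw [hconj, had, hαd]
    congr 2
    group
  have hδpow : ∀ s : ℤ, δ ^ s = iL (g⁻¹ ^ s) * iR (a ^ ((d : ℤ) * s)) := fun s => by
    rw [hδ, hcomm.mul_zpow, ← map_zpow, ← map_zpow, ← zpow_natCast a, ← zpow_mul]
  have hright : ∀ (x : L) (z : ℤ), (iL x * iR (a ^ z)).right = a ^ z ∧ (iL x * iR (a ^ z)).left = x := fun x z => by
    generalize a ^ z = w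
    exact ⟨by rw [SemidirectProduct.mul_right, SemidirectProduct.right_inl, SemidirectProduct.right_inr, one_mul],
      by rw [SemidirectProduct.mul_left, SemidirectProduct.left_inl, SemidirectProduct.right_inl,
        SemidirectProduct.left_inr, map_one, mul_one]⟩
  have hmem : ∀ (x : L) (z : ℤ), iL x * iR (a ^ z) ∈ D →
      (d : ℤ) ∣ z ∧ (((d * e : ℕ) : ℤ) ∣ z → x = 1) := by
    intro x z hm
    obtain ⟨s, hs⟩ := Subgroup.mem_zpowers_iff.1 hm
    rw [hδpow] at hs
    have hr := congrArg SemidirectProduct.right hs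
    have hl := congrArg SemidirectProduct.left hs
    rw [(hright _ _).1, (hright _ _).1] at hr
    rw [(hright _ _).2, (hright _ _).2] at hl
    have h1 : ((d * e : ℕ) : ℤ) ∣ (d : ℤ) * s - z := (haz _).1 (by rw [zpow_sub, hr, mul_inv_cancel])
    have hdM : (d : ℤ) ∣ ((d * e : ℕ) : ℤ) := ⟨e, by push_cast; ring⟩
    refine ⟨(dvd_sub_right (dvd_mul_right _ s)).1 (hdM.trans h1), fun hz => ?_⟩
    have h2 : ((d * e : ℕ) : ℤ) ∣ (d : ℤ) * s := (dvd_sub_left hz).1 h1
    rw [Nat.cast_mul, mul_dvd_mul_iff_left (by exact_mod_cast hd.ne')] at h2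
    obtain ⟨s', rfl⟩ := h2
    rw [← hl, zpow_mul, zpow_natCast, inv_pow, hge, inv_one, one_zpow]
  set ρ := QuotientGroup.mk' D with hρ
  refine ⟨X0 ⧸ D, inferInstance, inferInstance, ρ.comp iL, ρ (iR a), ?_, ?_, fun x => ?_, fun j x hjx => ?_, ?_⟩
  · rw [injective_iff_map_eq_one]
    intro x hx
    have hm := (QuotientGroup.eq_one_iff _).1 hx
    exact (hmem x 0 (by rw [zpow_zero, map_one, mul_one]; exact hm)).2 (dvd_zero _)
  · show ρ (iR a) ^ d = ρ (iL g)
    rw [← map_pow, ← map_pow]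
    refine QuotientGroup.eq.2 ?_
    have e : (iR (a ^ d))⁻¹ * iL g = δ⁻¹ := by rw [hδ, mul_inv_rev, map_inv iL, inv_inv]
    rw [e]
    exact inv_mem (Subgroup.mem_zpowers δ)
  · show ρ (iR a) * ρ (iL x) * (ρ (iR a))⁻¹ = ρ (iL (α x))
    rw [← map_inv, ← map_mul, ← map_mul, hconj, mul_inv_cancel_right, ha]
  · rw [MonoidHom.comp_apply, ← map_pow, ← map_mul, ← map_pow, hconj] at hjx
    have hm := (QuotientGroup.eq_one_iff _).1 hjx
    exact_mod_cast (hmem _ (j : ℤ) (by rw [zpow_natCast]; exact hm)).1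
  · have hδo : orderOf δ = e := by
      apply Nat.dvd_antisymm
      · refine orderOf_dvd_of_pow_eq_one ?_
        rw [← zpow_natCast, hδpow, zpow_natCast, inv_pow, hge, inv_one, map_one, one_mul, (haz _).2 (by push_cast; rfl),
          map_one]
      · have h1 : δ ^ ((orderOf δ : ℕ) : ℤ) = 1 := by rw [zpow_natCast, pow_orderOf_eq_one]
        rw [hδpow] at h1
        have h2 := congrArg SemidirectProduct.right h1
        rw [(hright _ _).1, SemidirectProduct.one_right] at h2
        have h3 := (haz _).1 h2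
        rw [Nat.cast_mul, mul_dvd_mul_iff_left (by exact_mod_cast hd.ne')] at h3
        exact_mod_cast h3
    have h1 := Subgroup.card_eq_card_quotient_mul_card_subgroup D
    rw [SemidirectProduct.card, Nat.card_congr Multiplicative.toAdd, Nat.card_zmod, hD, Nat.card_zpowers, hδo,
      ← mul_assoc] at h1
    exact (Nat.eq_of_mul_eq_mul_right he h1).symm

end CfsgLib.Fsys.Bicyclic
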