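import Cfsg.Agent.Lib.FusionSystem.MetacyclicRealization
import Cfsg.Agent.Lib.FusionSystem.Bicyclic.Glue

/-!
Model groups for bicyclic `2`-groups with cyclic commutator subgroup: an extension of `SL(2, 5 ^ f)`, or of its
quotient by the central involution, by a cyclic group acting as a diagonal automorphism times a field automorphism.
-/

set_option autoImplicit false
set_option linter.style.haveILetI false
set_option linter.unusedSectionVars false

open scoped MatrixGroups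
open CfsgLib.Classical

namespace CfsgLib.Fsys.Bicyclic

/-- `1 + u + ⋯ + u ^ (k - 1)`. -/
def geo (u : ℤ) : ℕ → ℤ
  | 0 => 0
  | k + 1 => u * geo u k + 1

theorem geo_mul (u : ℤ) (k : ℕ) : (u - 1) * geo u k = u ^ k - 1 := by
  induction k with
  | zero => simp [geo]
  | succ k ih => rw [geo, pow_succ]; linear_combination u * ih

theorem geo_add (u : ℤ) (k l : ℕ) : geo u (k + l) = geo u k + u ^ k * geo u l := by
  induction k with
  | zero => simp [geo]
  | succ k ih => rw [Nat.succ_add, geo, geo, ih, pow_succ]; ring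

theorem geo_even {u : ℤ} (hu : Odd u) {k : ℕ} (hk : Even k) : Even (geo u k) := by
  obtain ⟨l, rfl⟩ := hk
  rw [geo_add, show geo u l + u ^ l * geo u l = geo u l * (1 + u ^ l) by ring]
  exact (odd_one.add_odd hu.pow).mul_left _

theorem orderOf_five (N : ℕ) : orderOf (5 : ZMod (2 ^ (N + 2))) = 2 ^ N := by
  haveI : Fact (Nat.Prime 2) := ⟨Nat.prime_two⟩
  have key : ∀ i : ℕ, (5 : ZMod (2 ^ (N + 2))) ^ (2 ^ i) = 1 ↔ N ≤ i := by
    intro i
    obtain ⟨m, hm, hm5⟩ := MetacyclicRealization.five_two_part i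
    have e : (5 : ZMod (2 ^ (N + 2))) ^ (2 ^ i) = ((2 ^ (i + 2) * m : ℕ) : ZMod (2 ^ (N + 2))) + 1 := by
      rw [show (5 : ZMod (2 ^ (N + 2))) = ((5 : ℕ) : ZMod (2 ^ (N + 2))) by norm_num, ← Nat.cast_pow, hm5,
        Nat.cast_add, Nat.cast_one]
    rw [e, add_eq_right, ZMod.natCast_eq_zero_iff]
    constructor
    · intro hd
      have := (Nat.Coprime.dvd_of_dvd_mul_right ((Nat.coprime_two_left.2 hm).pow_left _) hd)
      exact Nat.le_of_add_le_add_right ((Nat.pow_dvd_pow_iff_le_right (by norm_num : 1 < 2)).1 this)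
    · exact fun hi => Dvd.dvd.mul_right (pow_dvd_pow 2 (by omega)) m
  rcases Nat.eq_zero_or_pos N with rfl | hN
  · rw [pow_zero, orderOf_eq_one_iff]
    simpa using (key 0).2 le_rfl
  · obtain ⟨M, rfl⟩ : ∃ M, N = M + 1 := ⟨N - 1, by omega⟩
    exact orderOf_eq_prime_pow (fun h => by have := (key M).1 h; omega) ((key _).2 le_rfl)

section SL

variable {k : Type*} [Field k]

/-- The diagonal element of determinant one. -/
def torFun (x : kˣ) : SL(2, k) := ⟨!![(x : k), 0; 0, ((x⁻¹ : kˣ) : k)], by rw [Matrix.det_fin_two_of]; simp⟩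

theorem torFun_coe (x : kˣ) :
    (torFun x : Matrix (Fin 2) (Fin 2) k) = !![(x : k), 0; 0, ((x⁻¹ : kˣ) : k)] := rfl

/-- The diagonal torus. -/
def tor : kˣ →* SL(2, k) where
  toFun := torFun
  map_one' := Subtype.ext (by rw [torFun_coe]; ext i j; fin_cases i <;> fin_cases j <;> simp)
  map_mul' x y := Subtype.ext (by
    rw [Matrix.SpecialLinearGroup.coe_mul, torFun_coe, torFun_coe, torFun_coe]
    ext i j
    fin_cases i <;> fin_cases j <;> simp [Matrix.mul_apply, Fin.sum_univ_two, mul_comm])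

theorem tor_coe (x : kˣ) :
    (tor x : Matrix (Fin 2) (Fin 2) k) = !![(x : k), 0; 0, ((x⁻¹ : kˣ) : k)] := rfl

theorem tor_injective : Function.Injective (tor (k := k)) := fun x y e => by
  refine Units.ext ?_
  have h := congrArg (fun M : SL(2, k) => (M : Matrix (Fin 2) (Fin 2) k) 0 0) e
  simpa [tor_coe] using h

/-- The antidiagonal element. -/
def wel : SL(2, k) := ⟨!![0, 1; -1, 0], by rw [Matrix.det_fin_two_of]; ring⟩

theorem wel_coe : ((wel : SL(2, k)) : Matrix (Fin 2) (Fin 2) k) = !![0, 1; -1, 0] := rfl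

theorem wel_conj_tor (x : kˣ) : wel * tor x * wel⁻¹ = tor x⁻¹ := by
  rw [mul_inv_eq_iff_eq_mul]
  refine Subtype.ext ?_
  rw [Matrix.SpecialLinearGroup.coe_mul, Matrix.SpecialLinearGroup.coe_mul, tor_coe, tor_coe, wel_coe]
  ext i j
  fin_cases i <;> fin_cases j <;> simp [Matrix.mul_apply, Fin.sum_univ_two]

theorem wel_sq : wel * wel = tor (-1 : kˣ) := by
  refine Subtype.ext ?_
  rw [Matrix.SpecialLinearGroup.coe_mul, tor_coe, wel_coe]
  ext i j
  fin_cases i <;> fin_cases j <;> simp [Matrix.mul_apply, Fin.sum_univ_two]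

variable [Finite k]

/-- The map underlying `twist`. -/
def twistFun (x : kˣ) (τ : k ≃+* k) (M : SL(2, k)) : SL(2, k) :=
  ⟨!![τ ((M : Matrix (Fin 2) (Fin 2) k) 0 0), (x : k) * τ ((M : Matrix (Fin 2) (Fin 2) k) 0 1);
      ((x⁻¹ : kˣ) : k) * τ ((M : Matrix (Fin 2) (Fin 2) k) 1 0), τ ((M : Matrix (Fin 2) (Fin 2) k) 1 1)], by
    rw [Matrix.det_fin_two_of]
    have h := congrArg τ ((Matrix.det_fin_two _).symm.trans M.2)
    rw [map_sub, map_mul, map_mul, map_one] at h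
    have hx : (x : k) * ((x⁻¹ : kˣ) : k) = 1 := x.mul_inv
    linear_combination h - τ ((M : Matrix (Fin 2) (Fin 2) k) 0 1) * τ ((M : Matrix (Fin 2) (Fin 2) k) 1 0) * hx⟩

omit [Finite k] in
theorem twistFun_coe (x : kˣ) (τ : k ≃+* k) (M : SL(2, k)) :
    (twistFun x τ M : Matrix (Fin 2) (Fin 2) k) =
      !![τ ((M : Matrix (Fin 2) (Fin 2) k) 0 0), (x : k) * τ ((M : Matrix (Fin 2) (Fin 2) k) 0 1);
        ((x⁻¹ : kˣ) : k) * τ ((M : Matrix (Fin 2) (Fin 2) k) 1 0), τ ((M : Matrix (Fin 2) (Fin 2) k) 1 1)] := rfl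

omit [Finite k] in
theorem twistFun_mul (x : kˣ) (τ : k ≃+* k) (M N : SL(2, k)) :
    twistFun x τ (M * N) = twistFun x τ M * twistFun x τ N := by
  refine Subtype.ext ?_
  have hx : (x : k) * ((x⁻¹ : kˣ) : k) = 1 := x.mul_inv
  rw [Matrix.SpecialLinearGroup.coe_mul, twistFun_coe, twistFun_coe, twistFun_coe, Matrix.SpecialLinearGroup.coe_mul]
  ext i j
  fin_cases i <;> fin_cases j <;>
    simp only [Matrix.mul_apply, Fin.sum_univ_two, map_add, map_mul, Matrix.of_apply, Matrix.cons_val',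
      Matrix.cons_val_zero, Matrix.cons_val_one, Matrix.empty_val', Matrix.cons_val_fin_one,
      Fin.zero_eta, Fin.mk_one, Fin.isValue]
  · linear_combination -(τ ((M : Matrix (Fin 2) (Fin 2) k) 0 1) * τ ((N : Matrix (Fin 2) (Fin 2) k) 1 0)) * hx
  · ring
  · ring
  · linear_combination -(τ ((M : Matrix (Fin 2) (Fin 2) k) 1 0) * τ ((N : Matrix (Fin 2) (Fin 2) k) 0 1)) * hx

omit [Finite k] in
theorem twistFun_injective (x : kˣ) (τ : k ≃+* k) : Function.Injective (twistFun x τ) := fun M N e => by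
  refine Subtype.ext ?_
  have h := congrArg (fun P : SL(2, k) => (P : Matrix (Fin 2) (Fin 2) k)) e
  rw [twistFun_coe, twistFun_coe] at h
  ext i j
  have h' := congrFun (congrFun h i) j
  fin_cases i <;> fin_cases j <;> simp at h' <;> simpa using h'

/-- Scale the off-diagonal entries by `x`, `x⁻¹` and apply `τ` to every entry. -/
noncomputable def twist (x : kˣ) (τ : k ≃+* k) : MulAut SL(2, k) :=
  MulEquiv.ofBijective (MonoidHom.mk' (twistFun x τ) (twistFun_mul x τ))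
    (Finite.injective_iff_bijective.1 (twistFun_injective x τ))

theorem twist_coe (x : kˣ) (τ : k ≃+* k) (M : SL(2, k)) :
    (twist x τ M : Matrix (Fin 2) (Fin 2) k) =
      !![τ ((M : Matrix (Fin 2) (Fin 2) k) 0 0), (x : k) * τ ((M : Matrix (Fin 2) (Fin 2) k) 0 1);
        ((x⁻¹ : kˣ) : k) * τ ((M : Matrix (Fin 2) (Fin 2) k) 1 0), τ ((M : Matrix (Fin 2) (Fin 2) k) 1 1)] := rfl

theorem twist_tor (x y : kˣ) (τ : k ≃+* k) : twist x τ (tor y) = tor (Units.map τ.toMonoidHom y) := by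
  refine Subtype.ext ?_
  rw [twist_coe, tor_coe, tor_coe]
  ext i j
  fin_cases i <;> fin_cases j <;> simp

theorem twist_wel (x : kˣ) (τ : k ≃+* k) : twist x τ wel = tor x * wel := by
  refine Subtype.ext ?_
  rw [twist_coe, Matrix.SpecialLinearGroup.coe_mul, tor_coe, wel_coe]
  ext i j
  fin_cases i <;> fin_cases j <;> simp [Matrix.mul_apply, Fin.sum_univ_two]

theorem conj_tor (y : kˣ) (M : SL(2, k)) : tor y * M * (tor y)⁻¹ = twist (y * y) (RingEquiv.refl k) M := by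
  rw [← map_inv]
  refine Subtype.ext ?_
  rw [twist_coe, Matrix.SpecialLinearGroup.coe_mul, Matrix.SpecialLinearGroup.coe_mul, tor_coe, tor_coe]
  ext i j
  fin_cases i <;> fin_cases j <;> simp [Matrix.mul_apply, Fin.sum_univ_two, Matrix.vecMul, dotProduct] <;> field_simp

theorem twist_twist (x y : kˣ) (τ τ' : k ≃+* k) (M : SL(2, k)) :
    twist x τ (twist y τ' M) = twist (x * Units.map τ.toMonoidHom y) (τ'.trans τ) M := by
  refine Subtype.ext ?_
  rw [twist_coe, twist_coe, twist_coe]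
  ext i j
  fin_cases i <;> fin_cases j <;> simp <;> ring

theorem twist_one (M : SL(2, k)) : twist 1 (RingEquiv.refl k) M = M := by
  refine Subtype.ext ?_
  rw [twist_coe]
  ext i j
  fin_cases i <;> fin_cases j <;> simp

/-- An antidiagonal element of order four is conjugate to a diagonal one. -/
theorem exists_conj_wel (h2 : (2 : k) ≠ 0) {x : kˣ} (hx : (x : k) * x = -1) : ∃ t : SL(2, k), t * wel * t⁻¹ = tor x := by
  obtain ⟨l, hl'⟩ : ∃ l : k, 2 * (x : k) * l = 1 := ⟨_, mul_inv_cancel₀ (mul_ne_zero h2 x.ne_zero)⟩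
  obtain ⟨t, ht⟩ : ∃ t : SL(2, k), (t : Matrix (Fin 2) (Fin 2) k) = !![1, -(x : k); l, l * x] :=
    ⟨⟨!![1, -(x : k); l, l * x], by rw [Matrix.det_fin_two_of]; linear_combination hl'⟩, rfl⟩
  refine ⟨t, ?_⟩
  rw [mul_inv_eq_iff_eq_mul]
  refine Subtype.ext ?_
  rw [Matrix.SpecialLinearGroup.coe_mul, Matrix.SpecialLinearGroup.coe_mul, tor_coe, wel_coe, ht]
  have hxi : (x : k)⁻¹ = -(x : k) := inv_eq_of_mul_eq_one_right (by rw [mul_neg, hx, neg_neg])
  ext i j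
  fin_cases i <;> fin_cases j <;> simp [Matrix.mul_apply, Fin.sum_univ_two, hxi] <;>
    first
    | ring1
    | linear_combination hx
    | linear_combination -hx
    | linear_combination l * hx
    | linear_combination -l * hx

end SL

/-- The model. -/
theorem exists_model (n N r i : ℕ) (u μ : ℤ) (hN : 2 ≤ N) (hn : n ≤ N) (hNn : N ≤ n + 1)
    (hi : (2 : ℤ) ^ N ∣ 5 ^ i - u) (hμ : (2 : ℤ) ^ n ∣ (u - 1) * μ) (hσ : (2 : ℤ) ^ N ∣ 2 * μ - geo u (2 ^ r)) :
    ∃ (X : Type) (_ : Group X) (_ : Finite X) (A B C t : X),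
      A ^ (2 ^ r) = C ^ μ ∧ B * B = C ^ ((2 : ℤ) ^ (N - 1)) ∧ C ^ ((2 : ℤ) ^ n) = 1 ∧ A * C * A⁻¹ = C ^ u ∧
      B * C * B⁻¹ = C⁻¹ ∧ A * B * A⁻¹ = C * B ∧
      (∀ (j f : ℕ) (l : ℤ), A ^ j * B ^ f * C ^ l = 1 → 2 ^ r ∣ j) ∧
      (∀ (f : ℕ) (l : ℤ), f ≤ 1 → B ^ f * C ^ l = 1 → f = 0 ∧ (2 : ℤ) ^ n ∣ l) ∧
      t * B * t⁻¹ = C ^ ((2 : ℤ) ^ (N - 2)) ∧ ∃ m : ℕ, Odd m ∧ Nat.card X = 2 ^ (r + n + 1) * m := by
  classical
  obtain ⟨N0, rfl⟩ : ∃ N0, N = N0 + 2 := ⟨N - 2, by omega⟩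
  simp only [Nat.add_sub_cancel, show N0 + 2 - 1 = N0 + 1 by omega]
  haveI : Fact (Nat.Prime 5) := ⟨by norm_num⟩
  set k := GaloisField 5 (2 ^ N0) with hk
  letI : Fintype k := Fintype.ofFinite _
  have hcard : Fintype.card k = 5 ^ (2 ^ N0) := by
    rw [← Nat.card_eq_fintype_card, GaloisField.card _ _ (by positivity)]
  obtain ⟨m0, hm0, hq⟩ := MetacyclicRealization.five_two_part N0
  have h5 : (5 : k) = 0 := by exact_mod_cast CharP.cast_eq_zero k 5
  have h2 : (2 : k) ≠ 0 := fun h => one_ne_zero (α := k) (by linear_combination h5 - 2 * h)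
  -- a root of unity of order `2 ^ N`
  obtain ⟨ζ, hζ⟩ : ∃ ζ : kˣ, orderOf ζ = 2 ^ (N0 + 2) := by
    obtain ⟨g, hg⟩ := IsCyclic.exists_generator (α := kˣ)
    have hg' : orderOf g = 2 ^ (N0 + 2) * m0 := by
      rw [orderOf_eq_card_of_forall_mem_zpowers hg, Nat.card_units, Nat.card_eq_fintype_card, hcard, hq,
        Nat.add_sub_cancel]
    refine ⟨g ^ m0, ?_⟩
    rw [orderOf_pow, hg', Nat.gcd_eq_right (dvd_mul_left _ _), Nat.mul_div_cancel _ hm0.pos]
  have hζn : ∀ a b : ℤ, ζ ^ a = ζ ^ b ↔ (2 : ℤ) ^ (N0 + 2) ∣ a - b := fun a b => by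
    rw [← mul_inv_eq_one, ← zpow_neg, ← zpow_add, ← orderOf_dvd_iff_zpow_eq_one, hζ, sub_eq_add_neg]
    norm_cast
  have hneg1 : ζ ^ ((2 : ℤ) ^ (N0 + 1)) = -1 := by
    have hne : ζ ^ ((2 : ℤ) ^ (N0 + 1)) ≠ 1 := by
      rw [← zpow_zero ζ]
      intro e
      have h := (hζn _ _).1 e
      rw [sub_zero] at h
      have h' := Int.le_of_dvd (by positivity) h
      rw [pow_succ (2 : ℤ) (N0 + 1)] at h'
      have : (0 : ℤ) < 2 ^ (N0 + 1) := by positivity
      omega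
    have hsq : ζ ^ ((2 : ℤ) ^ (N0 + 1)) * ζ ^ ((2 : ℤ) ^ (N0 + 1)) = 1 := by
      rw [← zpow_add, ← zpow_zero ζ]
      exact (hζn _ _).2 ⟨1, by ring⟩
    refine Units.ext ?_
    rcases mul_self_eq_one_iff.1 (show ((ζ ^ ((2 : ℤ) ^ (N0 + 1)) : kˣ) : k) * (ζ ^ ((2 : ℤ) ^ (N0 + 1)) : kˣ) = 1 by
      rw [← Units.val_mul, hsq, Units.val_one]) with h | h
    · exact absurd (Units.ext h) hne
    · simpa using h
  -- the field automorphism
  let τ : k ≃+* k := RingEquiv.ofBijective (iterateFrobenius k 5 i)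
    (Finite.injective_iff_bijective.1 (RingHom.injective _))
  have hτ : ∀ x : k, τ x = x ^ (5 ^ i) := fun x => iterateFrobenius_def 5 i x
  have hτζ : ∀ z : ℤ, Units.map τ.toMonoidHom (ζ ^ z) = ζ ^ (u * z) := by
    intro z
    have h1 : Units.map τ.toMonoidHom ζ = ζ ^ u := by
      have : Units.map τ.toMonoidHom ζ = ζ ^ (5 ^ i) := Units.ext (by rw [Units.val_pow_eq_pow_val]; exact hτ _)
      rw [this, ← zpow_natCast, hζn]
      exact_mod_cast hi
    rw [map_zpow, h1, ← zpow_mul]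
  -- the central subgroup and the quotient
  set z0 : SL(2, k) := tor (ζ ^ ((2 : ℤ) ^ n)) with hz0
  have hz0c : ∀ g : SL(2, k), g * z0 = z0 * g := by
    intro g
    have hv : ζ ^ ((2 : ℤ) ^ n) = 1 ∨ ζ ^ ((2 : ℤ) ^ n) = -1 := by
      rcases (show n = N0 + 1 ∨ n = N0 + 2 by omega) with rfl | rfl
      · exact Or.inr hneg1
      · left; rw [← zpow_zero ζ, hζn, sub_zero]
    refine Subtype.ext ?_
    rw [Matrix.SpecialLinearGroup.coe_mul, Matrix.SpecialLinearGroup.coe_mul, hz0, tor_coe]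
    ext a b
    rcases hv with hv | hv <;> rw [hv] <;> fin_cases a <;> fin_cases b <;>
      simp [Matrix.mul_apply, Fin.sum_univ_two]
  set Z : Subgroup SL(2, k) := Subgroup.zpowers z0 with hZ
  haveI : Z.Normal := ⟨fun x hx g => by
    obtain ⟨l, rfl⟩ := Subgroup.mem_zpowers_iff.1 hx
    rw [((show Commute g z0 from hz0c g).zpow_right l).eq, mul_inv_cancel_right]
    exact zpow_mem (Subgroup.mem_zpowers z0) l⟩
  have hmemZ : ∀ l : ℤ, tor (ζ ^ l) ∈ Z ↔ (2 : ℤ) ^ n ∣ l := by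
    intro l
    constructor
    · intro hl
      obtain ⟨s, hs⟩ := Subgroup.mem_zpowers_iff.1 hl
      rw [hz0, ← map_zpow, ← zpow_mul] at hs
      have h := (hζn _ _).1 (tor_injective hs)
      have h' := (pow_dvd_pow (2 : ℤ) (show n ≤ N0 + 2 from hn)).trans h
      exact (dvd_sub_right (dvd_mul_right _ _)).1 h'
    · rintro ⟨s, rfl⟩
      rw [zpow_mul, map_zpow]
      exact zpow_mem (Subgroup.mem_zpowers z0) s
  set π := QuotientGroup.mk' Z with hπ
  set Φ0 := twist ζ τ with hΦ0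
  have hΦZ : Z.map Φ0.toMonoidHom = Z := by
    rw [hZ, MonoidHom.map_zpowers]
    congr 1
    show twist ζ τ z0 = z0
    rw [hz0, twist_tor, hτζ]
    congr 1
    rw [hζn]
    have hu2 : (2 : ℤ) ∣ u - 1 := by
      have h1 : (2 : ℤ) ∣ 5 ^ i - 1 := by
        simpa using (show (2 : ℤ) ∣ 5 - 1 by norm_num).trans (sub_dvd_pow_sub_pow (5 : ℤ) 1 i)
      have h3 : (2 : ℤ) ∣ 5 ^ i - u := (dvd_pow_self 2 (by omega)).trans hi
      have := h1.sub h3
      rwa [show (5 : ℤ) ^ i - 1 - (5 ^ i - u) = u - 1 by ring] at this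
    obtain ⟨s, hs⟩ := hu2
    rw [show u * 2 ^ n - 2 ^ n = 2 ^ (n + 1) * s by rw [pow_succ]; linear_combination (2 : ℤ) ^ n * hs]
    exact Dvd.dvd.mul_right (pow_dvd_pow 2 (by omega)) s
  let α : MulAut (SL(2, k) ⧸ Z) := QuotientGroup.congr Z Z Φ0 hΦZ
  have hαπ : ∀ M, α (π M) = π (Φ0 M) := fun M => rfl
  -- iterates
  have hiter : ∀ e : ℕ, ∀ M, (α ^ e) (π M) = π ((Φ0 ^ e) M) := by
    intro e
    induction e with
    | zero => exact fun M => rfl
    | succ e ih => intro M; rw [pow_succ', pow_succ', MulAut.mul_apply, MulAut.mul_apply, ih, hαπ]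
  have hΦe : ∀ e : ℕ, ∃ τe : k ≃+* k, (∀ x, τe x = x ^ (5 ^ (i * e))) ∧
      ∀ M, (Φ0 ^ e) M = twist (ζ ^ geo u e) τe M := by
    intro e
    induction e with
    | zero => exact ⟨RingEquiv.refl k, fun x => by simp, fun M => by rw [geo, zpow_zero, twist_one]; rfl⟩
    | succ e ih =>
      obtain ⟨τe, hτe, he⟩ := ih
      refine ⟨τe.trans τ, fun x => ?_, fun M => ?_⟩
      · show τ (τe x) = _
        rw [hτe, hτ, ← pow_mul, ← pow_add]
        congr 2
      · rw [pow_succ', MulAut.mul_apply, he, hΦ0, twist_twist, hτζ]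
        congr 2
        rw [geo, add_comm, zpow_add, zpow_one]
  have hur : (2 : ℤ) ^ (N0 + 2) ∣ u ^ (2 ^ r) - 1 := by
    obtain ⟨s, hs⟩ := hμ
    have e : u ^ (2 ^ r) - 1 = 2 ^ (n + 1) * s - (u - 1) * (2 * μ - geo u (2 ^ r)) := by
      rw [← geo_mul, pow_succ]; linear_combination 2 * hs
    rw [e]
    exact dvd_sub (Dvd.dvd.mul_right (pow_dvd_pow 2 hNn) s) (hσ.mul_left _)
  have hdiv : 2 ^ N0 ∣ i * 2 ^ r := by
    rw [← orderOf_five N0]
    refine orderOf_dvd_of_pow_eq_one ?_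
    have h1 : (((5 : ℤ) ^ i : ℤ) : ZMod (2 ^ (N0 + 2))) = (u : ZMod (2 ^ (N0 + 2))) := by
      rw [← sub_eq_zero, ← Int.cast_sub, ZMod.intCast_zmod_eq_zero_iff_dvd]; exact_mod_cast hi
    push_cast at h1
    rw [pow_mul, h1, ← sub_eq_zero, ← Int.cast_pow, ← Int.cast_one, ← Int.cast_sub, ZMod.intCast_zmod_eq_zero_iff_dvd]
    exact_mod_cast hur
  have hfix : ∀ e, 2 ^ N0 ∣ e → ∀ x : k, x ^ (5 ^ e) = x := by
    rintro e ⟨s, rfl⟩ x
    rw [pow_mul, ← hcard]
    exact FiniteField.pow_card_pow s x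
  set cb : SL(2, k) ⧸ Z := π (tor ζ) with hcb
  set bb : SL(2, k) ⧸ Z := π wel with hbb
  have hcpow : ∀ l : ℤ, cb ^ l = π (tor (ζ ^ l)) := fun l => by rw [hcb, map_zpow tor, map_zpow π]
  have hαr : ∀ x, (α ^ (2 ^ r)) x = cb ^ μ * x * (cb ^ μ)⁻¹ := by
    intro x
    obtain ⟨M, rfl⟩ := QuotientGroup.mk'_surjective Z x
    obtain ⟨τe, hτe, he⟩ := hΦe (2 ^ r)
    have hτ1 : τe = RingEquiv.refl k := RingEquiv.ext fun x => by rw [hτe]; exact hfix _ hdiv x
    rw [hiter, he, hτ1, hcpow, ← map_inv, ← map_mul, ← map_mul, conj_tor, ← zpow_add,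
      show ζ ^ geo u (2 ^ r) = ζ ^ (μ + μ) from ((hζn _ _).2 (by rw [← two_mul]; exact hσ)).symm]
  have hαc : ∀ l : ℤ, α (cb ^ l) = cb ^ (u * l) := fun l => by
    rw [hcpow, hαπ, hΦ0, twist_tor, hτζ, ← hcpow]
  have hcn : cb ^ ((2 : ℤ) ^ n) = 1 := by
    rw [hcpow]; exact (QuotientGroup.eq_one_iff _).2 ((hmemZ _).2 dvd_rfl)
  have hαμ : α (cb ^ μ) = cb ^ μ := by
    rw [hαc, ← mul_inv_eq_one, ← zpow_neg, ← zpow_add]
    obtain ⟨s, hs⟩ := hμ
    rw [show u * μ + -μ = 2 ^ n * s by linear_combination hs, zpow_mul, hcn, one_zpow]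
  -- the cyclic extension
  have hμn : (cb ^ μ) ^ (2 ^ n) = 1 := by
    rw [← zpow_natCast, ← zpow_mul, mul_comm, zpow_mul, Nat.cast_pow, Nat.cast_ofNat, hcn, one_zpow]
  obtain ⟨X, _, _, ι, A, hιi, hAd, hAc, hAj, hXc⟩ :=
    exists_glue α (cb ^ μ) (2 ^ r) (2 ^ n) (by positivity) (by positivity) hαr hαμ hμn
  obtain ⟨t, ht⟩ : ∃ t : SL(2, k), t * wel * t⁻¹ = tor (ζ ^ ((2 : ℤ) ^ N0)) := by
    refine exists_conj_wel h2 ?_
    rw [← Units.val_mul, ← zpow_add, ← two_mul, ← pow_succ', hneg1, Units.val_neg, Units.val_one]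
  refine ⟨X, inferInstance, inferInstance, A, ι bb, ι cb, ι (π t), by rw [hAd, map_zpow], ?_, ?_, ?_, ?_, ?_,
    fun j f l hjfl => ?_, fun f l hf hfl => ?_, ?_, ?_⟩
  · rw [← map_mul, ← map_zpow ι, hcpow, hbb, ← map_mul π, wel_sq, hneg1]
  · rw [← map_zpow ι, hcn, map_one]
  · rw [hAc, ← map_zpow ι, ← zpow_one cb, hαc, mul_one, zpow_one]
  · rw [← map_inv ι, ← map_inv ι, ← map_mul, ← map_mul, hbb, hcb, ← map_inv π, ← map_inv π, ← map_mul, ← map_mul,
      wel_conj_tor, map_inv tor]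
  · rw [hAc, ← map_mul, hbb, hcb, hαπ, hΦ0, twist_wel, map_mul π]
  · refine hAj j (bb ^ f * cb ^ l) ?_
    rw [map_mul, map_pow, map_zpow, ← mul_assoc]
    exact hjfl
  · rw [← map_pow, ← map_zpow, ← map_mul] at hfl
    have h1 : bb ^ f * cb ^ l = 1 := hιi (hfl.trans (map_one ι).symm)
    rw [hcpow, hbb, ← map_pow, ← map_mul] at h1
    have h2 := (QuotientGroup.eq_one_iff _).1 h1
    interval_cases f
    · rw [pow_zero, one_mul] at h2
      exact ⟨rfl, (hmemZ l).1 h2⟩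
    · exfalso
      obtain ⟨s, hs⟩ := Subgroup.mem_zpowers_iff.1 h2
      rw [hz0, ← map_zpow, pow_one] at hs
      generalize (ζ ^ ((2 : ℤ) ^ n)) ^ s = w at hs
      generalize ζ ^ l = w' at hs
      have h4 := congrArg (fun P : SL(2, k) => (P : Matrix (Fin 2) (Fin 2) k) 0 0) hs
      simp [tor_coe, wel_coe, Matrix.SpecialLinearGroup.coe_mul, Matrix.mul_apply, Fin.sum_univ_two] at h4
  · rw [← map_inv ι, ← map_mul, ← map_mul, ← map_zpow ι, hcpow, hbb, ← map_inv π, ← map_mul π, ← map_mul π, ht]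
  · have hZc : Nat.card Z = 2 ^ (N0 + 2 - n) := by
      rw [hZ, Nat.card_zpowers, hz0, orderOf_injective tor tor_injective,
        show ((2 : ℤ) ^ n) = ((2 ^ n : ℕ) : ℤ) by push_cast; rfl, zpow_natCast, orderOf_pow, hζ,
        Nat.gcd_eq_right (pow_dvd_pow 2 hn), Nat.pow_div hn (by norm_num)]
    have h2 := Subgroup.card_eq_card_quotient_mul_card_subgroup Z
    rw [card_sl2', hcard, hq, Nat.add_sub_cancel, hZc] at h2
    refine ⟨(2 ^ (N0 + 2) * m0 + 1) * (m0 * (2 ^ (N0 + 1) * m0 + 1)), ?_, ?_⟩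
    · exact Odd.mul ⟨2 ^ (N0 + 1) * m0, by ring⟩ (hm0.mul ⟨2 ^ N0 * m0, by ring⟩)
    · apply Nat.eq_of_mul_eq_mul_right (show 0 < 2 ^ (N0 + 2 - n) by positivity)
      have e : 2 ^ (r + n + 1) * 2 ^ (N0 + 2 - n) = 2 ^ r * (2 * 2 ^ (N0 + 2)) := by
        rw [← pow_succ', ← pow_add, ← pow_add]; congr 1; omega
      rw [hXc, mul_right_comm, ← h2, mul_right_comm (2 ^ (r + n + 1)), e]
      ring

end CfsgLib.Fsys.Bicyclic
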