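import Cfsg.Agent.Lib.FusionSystem.Bicyclic.Basic
import Cfsg.Agent.Lib.FusionSystem.Bicyclic.Model

/-!
Bicyclic non-metacyclic `2`-groups with cyclic commutator subgroup embed as Sylow subgroups in the model groups,
with more fusion.
-/

set_option autoImplicit false
set_option linter.style.haveILetI false
set_option linter.unusedSectionVars false

open scoped commutatorElement IsMulCommutative Pointwise

namespace CfsgLib.Fsys.Bicyclic

/-- Elements of `⟨x⟩ N` for `x` normalising `N`. -/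
theorem exists_of_mem_sup_zpowers {Γ : Type*} [Group Γ] {x : Γ} {N : Subgroup Γ}
    (hx : x ∈ Subgroup.normalizer (N : Set Γ)) {g : Γ} (hg : g ∈ Subgroup.zpowers x ⊔ N) :
    ∃ i : ℤ, ∃ w ∈ N, g = x ^ i * w := by
  have key : ((Subgroup.zpowers x ⊔ N : Subgroup Γ) : Set Γ) = (Subgroup.zpowers x : Set Γ) * (N : Set Γ) :=
    Subgroup.coe_mul_of_left_le_normalizer_right _ _ (Subgroup.zpowers_le.2 hx)
  have : g ∈ (Subgroup.zpowers x : Set Γ) * (N : Set Γ) := key ▸ hg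
  obtain ⟨y, hy, w, hw, rfl⟩ := this
  obtain ⟨i, rfl⟩ := Subgroup.mem_zpowers_iff.1 hy
  exact ⟨i, w, hw, rfl⟩

/-- Powers of five reach every residue congruent to one modulo four. -/
theorem exists_five_pow {u : ℤ} (hu : (4 : ℤ) ∣ u - 1) : ∀ N : ℕ, ∃ i : ℕ, (2 : ℤ) ^ (N + 2) ∣ 5 ^ i - u
  | 0 => ⟨0, by rw [pow_zero]; simpa using (dvd_neg.2 hu)⟩
  | N + 1 => by
    obtain ⟨i, t, ht⟩ := exists_five_pow hu N
    rcases Int.even_or_odd t with ⟨t', rfl⟩ | ⟨t', rfl⟩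
    · exact ⟨i, t', by rw [ht, pow_succ (2 : ℤ) (N + 2)]; ring⟩
    · obtain ⟨m, hm, hm5⟩ := MetacyclicRealization.five_two_part N
      obtain ⟨m', rfl⟩ := hm
      have h5 : (5 : ℤ) ^ (2 ^ N) = 2 ^ (N + 2) * (2 * (m' : ℤ) + 1) + 1 := by exact_mod_cast hm5
      obtain ⟨s, hs⟩ : Odd ((5 : ℤ) ^ i * (2 * (m' : ℤ) + 1)) :=
        (Odd.pow (by decide)).mul ⟨m', rfl⟩
      refine ⟨i + 2 ^ N, t' + s + 1, ?_⟩
      rw [pow_add, h5, show N + 1 + 2 = N + 2 + 1 by ring, pow_succ (2 : ℤ) (N + 2)]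
      linear_combination ht + (2 : ℤ) ^ (N + 2) * hs

variable {G : Type*} [Group G] [Finite G] [IsMulCommutative ↥(commutator G)]

/-- Generation modulo the commutator subgroup is generation. -/
theorem gen_of_frattini' (hG : IsPGroup 2 G) {L : Subgroup G} (h : L ⊔ commutator G = ⊤) : L = ⊤ := by
  haveI : Fact (Nat.Prime 2) := ⟨Nat.prime_two⟩
  refine frattini_nongenerating (top_le_iff.1 (h.ge.trans (sup_le_sup_left ?_ _)))
  rw [commutator_def, Subgroup.commutator_le]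
  exact fun v _ w _ => CfsgLib.PGroup.Frattini.commutatorElement_mem_frattini hG v w

/-- The commutator subgroup is cyclic, generated by `c`. -/
structure Cyc (h : Pre G) where
  n : ℕ
  u : ℤ
  μ : ℤ
  one_le : 1 ≤ n
  gen : ∀ x : DP G, ∃ k : ℤ, x = k • h.c
  ord : ∀ k : ℤ, k • h.c = 0 ↔ (2 : ℤ) ^ n ∣ k
  hA : ∀ x : DP G, h.A x = u • x
  hB : ∀ x : DP G, h.B x = -x
  hm : h.m = μ • h.c
  hu : Odd u
  hμ : Even μ
  two_q : (2 : ℤ) • h.q = 0
  card : Nat.card (DP G) = 2 ^ n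

namespace Pre

variable (h : Pre G)

theorem cyc (hcyc : IsCyclic ↥(commutator G)) : Nonempty (Cyc h) := by
  haveI := hcyc
  obtain ⟨g0, hg0⟩ := IsCyclic.exists_generator (α := ↥(commutator G))
  set e0 : DP G := Additive.ofMul g0
  have hall : ∀ x : DP G, ∃ k : ℤ, x = k • e0 := fun x => by
    obtain ⟨k, hk⟩ := Subgroup.mem_zpowers_iff.1 (hg0 (Additive.toMul x))
    exact ⟨k, Additive.toMul.injective (by rw [toMul_zsmul]; exact hk.symm)⟩
  have hscal : ∀ f : AddMonoid.End (DP G), ∃ k : ℤ, ∀ x, f x = k • x := fun f => by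
    obtain ⟨k, hk⟩ := hall (f e0)
    refine ⟨k, fun x => ?_⟩
    obtain ⟨l, rfl⟩ := hall x
    rw [map_zsmul, hk, smul_comm]
  obtain ⟨u, hA⟩ := hscal h.A
  obtain ⟨β, hB⟩ := hscal h.B
  have hX : ∀ x, h.X x = (u - 1) • x := fun x => by rw [h.X_apply, hA, sub_smul, one_smul]
  have hgen : ∀ x : DP G, ∃ k : ℤ, x = k • h.c := by
    have hT := h.top_of_step (AddSubgroup.zmultiples h.c) (fun x hx => by
      rw [hX]; exact AddSubgroup.zsmul_mem _ hx _) (fun x => ?_)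
    · intro x
      obtain ⟨k, hk⟩ := AddSubgroup.mem_zmultiples_iff.1 (hT x)
      exact ⟨k, hk.symm⟩
    · obtain ⟨k, hk⟩ := h.decomp x
      obtain ⟨y, z, hyz⟩ := h.mem_deep.1 hk
      exact ⟨k • h.c, AddSubgroup.zsmul_mem _ (AddSubgroup.mem_zmultiples _) _, y, z, by rw [← hyz]; abel⟩
  obtain ⟨N, -, hN, -⟩ := h.exists_pow_kill
  have hdvd : addOrderOf h.c ∣ 2 ^ N := addOrderOf_dvd_iff_nsmul_eq_zero.2 (by
    rw [← natCast_zsmul, Nat.cast_pow, Nat.cast_ofNat]; exact hN _)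
  obtain ⟨n, -, hn⟩ := (Nat.dvd_prime_pow Nat.prime_two).1 hdvd
  have hord : ∀ k : ℤ, k • h.c = 0 ↔ (2 : ℤ) ^ n ∣ k := fun k => by
    rw [← addOrderOf_dvd_iff_zsmul_eq_zero, hn]; norm_cast
  have hcard : Nat.card (DP G) = 2 ^ n := by
    have htop : (AddSubgroup.zmultiples h.c) = ⊤ := eq_top_iff.2 fun x _ => by
      obtain ⟨k, rfl⟩ := hgen x
      exact AddSubgroup.zsmul_mem _ (AddSubgroup.mem_zmultiples _) k
    rw [← hn, ← Nat.card_zmultiples, htop]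
    exact (Nat.card_congr AddSubgroup.topEquiv.toEquiv).symm
  have hn1 : 1 ≤ n := by
    by_contra hn0
    refine h.notMeta (metacyclic_of_comm_le h.gen fun g hg => ?_)
    obtain ⟨x, rfl⟩ := exists_ι hg
    obtain ⟨k, rfl⟩ := hgen x
    rw [(hord k).2 (by rw [show n = 0 by omega, pow_zero]; exact one_dvd k), ι_zero]
    exact one_mem _
  have hu : Odd u := by
    rw [← Int.not_even_iff_odd]
    rintro ⟨u', hu'⟩
    have hz : ((2 : ℤ) ^ (n - 1)) • h.c ≠ 0 := fun e => by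
      have h1 := Int.le_of_dvd (by positivity) ((hord _).1 e)
      have h2 : (2 : ℤ) ^ n = 2 * 2 ^ (n - 1) := by rw [← pow_succ', Nat.sub_add_cancel hn1]
      have : (0 : ℤ) < 2 ^ (n - 1) := by positivity
      omega
    apply hz
    have h0 : h.A (((2 : ℤ) ^ (n - 1)) • h.c) = 0 := by
      rw [hA, smul_smul, hord, hu']
      exact ⟨u', by rw [show (u' + u') * 2 ^ (n - 1) = 2 * 2 ^ (n - 1) * u' by ring, ← pow_succ', Nat.sub_add_cancel hn1]⟩
    have h1 := congrArg (act h.a⁻¹) h0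
    rw [map_zero, Pre.A] at h1
    have h2 : act h.a⁻¹ (act h.a (((2 : ℤ) ^ (n - 1)) • h.c)) = ((2 : ℤ) ^ (n - 1)) • h.c := by
      show (act h.a⁻¹ * act h.a) _ = _
      rw [← map_mul, inv_mul_cancel, map_one]; rfl
    rwa [h2] at h1
  obtain ⟨u', hu'⟩ := hu
  obtain ⟨μ, hm⟩ := hgen h.m
  have hμ : Even μ := by
    rw [← Int.not_odd_iff_even]
    rintro ⟨μ', hμ'⟩
    refine h.notMeta (metacyclic_of_comm_le h.gen fun g hg => ?_)
    obtain ⟨x, rfl⟩ := exists_ι hg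
    obtain ⟨k, rfl⟩ := hgen x
    have hcop : IsCoprime μ ((2 : ℤ) ^ n) := by
      refine IsCoprime.pow_right ?_
      exact ⟨1, -μ', by rw [hμ']; ring⟩
    obtain ⟨s, t, hst⟩ := hcop
    have hc : k • h.c = (k * s) • h.m := by
      rw [hm, smul_smul, ← sub_eq_zero, ← sub_smul, hord]
      exact ⟨k * t, by linear_combination -k * hst⟩
    rw [hc, ι_zsmul, h.ι_m, ← zpow_mul]
    exact zpow_mem (Subgroup.mem_zpowers _) _
  obtain ⟨p', hp'⟩ : ∃ p' : ℤ, h.q = (2 * p') • h.c := by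
    obtain ⟨y, z, hyz⟩ := h.mem_deep.1 h.q_deep
    obtain ⟨k, rfl⟩ := hgen y
    obtain ⟨l, rfl⟩ := hgen z
    refine ⟨k + u' * l, ?_⟩
    rw [hyz, hX, hu']; module
  have h4 : ((4 : ℤ) * p') • h.c = 0 := by
    have hBq := h.B_q
    rw [hp', map_zsmul, h.B_c, hp', map_zsmul, hX, hu'] at hBq
    have e : (4 * p' * (1 - 2 * p' * u')) • h.c = 0 := by
      linear_combination (norm := module) (-1 : ℤ) • hBq
    have hcop : IsCoprime (1 - 2 * p' * u') ((2 : ℤ) ^ n) := by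
      refine IsCoprime.pow_right ?_
      exact ⟨1, p' * u', by ring⟩
    exact (hord _).2 (hcop.symm.dvd_of_dvd_mul_right ((hord _).1 e))
  refine ⟨⟨n, u, μ, hn1, hgen, hord, hA, fun x => ?_, hm, ⟨u', hu'⟩, hμ, ?_, hcard⟩⟩
  · obtain ⟨k, rfl⟩ := hgen x
    rw [map_zsmul, h.B_c, hp', map_zsmul, hX, hu']
    linear_combination (norm := module) (k * u') • h4
  · rw [hp', smul_smul, ← mul_assoc]; exact h4

end Pre

namespace Cyc

variable {h : Pre G} (d : Cyc h)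
include d

theorem S_geo (k : ℕ) : h.S k = geo d.u k • h.c := by
  induction k with
  | zero => simp [Pre.S, geo]
  | succ k ih => rw [Pre.S, ih, d.hA, geo, smul_smul, add_smul, one_smul]

theorem two_m : (2 : ℤ) ^ d.n ∣ 2 * d.μ - geo d.u (2 ^ h.r) := by
  rw [← d.ord, sub_smul, ← d.S_geo, ← h.m_sub_B_m, d.hB, sub_neg_eq_add, mul_smul, ← d.hm, two_zsmul, sub_self]

theorem μ_fixed : (2 : ℤ) ^ d.n ∣ (d.u - 1) * d.μ := by
  rw [← d.ord, sub_mul, sub_smul, mul_smul, one_mul, ← d.hm, ← d.hA, h.A_m, sub_self]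

theorem conj_a (x : DP G) : h.a * ι x * h.a⁻¹ = ι (d.u • x) := by rw [conj_ι, ← d.hA]; rfl

theorem conj_b (x : DP G) : h.b * ι x * h.b⁻¹ = (ι x)⁻¹ := by rw [conj_ι, ← ι_neg, ← d.hB]; rfl

/-- The homomorphism given by images of the generators satisfying the relations. -/
theorem exists_hom {X : Type} [Group X] [Finite X] (A B C : X) (p : ℤ) (hq : h.q = p • h.c)
    (h1 : A ^ (2 ^ h.r) = C ^ d.μ) (h2 : B * B = C ^ p) (h3 : C ^ ((2 : ℤ) ^ d.n) = 1) (h4 : A * C * A⁻¹ = C ^ d.u)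
    (h5 : B * C * B⁻¹ = C⁻¹) (h6 : A * B * A⁻¹ = C * B) :
    ∃ j : G →* X, j h.a = A ∧ j h.b = B ∧ j (ι h.c) = C := by
  set α : G × X := (h.a, A) with hα
  set β : G × X := (h.b, B) with hβ
  set γ : G × X := (ι h.c, C) with hγ
  have r1 : α ^ (2 ^ h.r) = γ ^ d.μ := Prod.ext (by
    show h.a ^ (2 ^ h.r) = ι h.c ^ d.μ
    rw [← ι_zsmul, ← d.hm, h.ι_m, ← zpow_natCast]; norm_cast) h1
  have r2 : β * β = γ ^ p := Prod.ext (by show h.b * h.b = ι h.c ^ p; rw [← ι_zsmul, ← hq, h.ι_q]) h2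
  have r4 : α * γ * α⁻¹ = γ ^ d.u := Prod.ext (by
    show h.a * ι h.c * h.a⁻¹ = ι h.c ^ d.u; rw [d.conj_a, ι_zsmul]) h4
  have r5 : β * γ * β⁻¹ = γ⁻¹ := Prod.ext (d.conj_b h.c) h5
  have r6 : α * β * α⁻¹ = γ * β := Prod.ext (by
    show h.a * h.b * h.a⁻¹ = ι h.c * h.b; rw [h.ι_c, commutatorElement_def]; group) h6
  set N1 := Subgroup.zpowers γ with hN1
  set N2 := Subgroup.zpowers β ⊔ N1 with hN2
  set T := Subgroup.zpowers α ⊔ N2 with hT
  have hn1 : β ∈ Subgroup.normalizer (N1 : Set (G × X)) := by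
    refine Subgroup.mem_normalizer_fintype fun z hz => ?_
    obtain ⟨k, rfl⟩ := Subgroup.mem_zpowers_iff.1 hz
    rw [← conj_zpow, r5]
    exact zpow_mem (inv_mem (Subgroup.mem_zpowers γ)) k
  have hγ2 : γ ∈ N2 := Subgroup.mem_sup_right (Subgroup.mem_zpowers γ)
  have hβ2 : β ∈ N2 := Subgroup.mem_sup_left (Subgroup.mem_zpowers β)
  have hn2 : α ∈ Subgroup.normalizer (N2 : Set (G × X)) := by
    refine Subgroup.mem_normalizer_fintype fun z hz => ?_
    obtain ⟨e, w, hw, rfl⟩ := exists_of_mem_sup_zpowers hn1 hz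
    obtain ⟨k, rfl⟩ := Subgroup.mem_zpowers_iff.1 hw
    rw [← MulAut.conj_apply, map_mul, map_zpow, map_zpow, MulAut.conj_apply, MulAut.conj_apply, r4, r6]
    exact mul_mem (zpow_mem (mul_mem hγ2 hβ2) e) (zpow_mem (zpow_mem hγ2 _) k)
  have hker : ∀ v ∈ T, v.1 = 1 → v.2 = 1 := by
    intro v hv hv1
    obtain ⟨i, w, hw, rfl⟩ := exists_of_mem_sup_zpowers hn2 hv
    obtain ⟨e, w', hw', rfl⟩ := exists_of_mem_sup_zpowers hn1 hw
    obtain ⟨k, rfl⟩ := Subgroup.mem_zpowers_iff.1 hw'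
    simp only [hα, hβ, hγ, Prod.fst_mul, Prod.pow_fst] at hv1
    have hm : h.a ^ i * h.b ^ e ∈ commutator G := by
      rw [eq_inv_of_mul_eq_one_left (show h.a ^ i * h.b ^ e * ι h.c ^ k = 1 by rw [mul_assoc]; exact hv1)]
      exact inv_mem (zpow_mem (ι_mem h.c) k)
    obtain ⟨⟨t, rfl⟩, s, rfl⟩ := h.sep.1 hm
    have e1 : α ^ ((2 : ℤ) ^ h.r * t) * (β ^ (s + s) * γ ^ k) = γ ^ (d.μ * t + (p * s + k)) := by
      rw [zpow_mul, show ((2 : ℤ) ^ h.r) = ((2 ^ h.r : ℕ) : ℤ) by push_cast; rfl, zpow_natCast, r1, ← two_mul,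
        zpow_mul β, zpow_two, r2, ← zpow_mul, ← zpow_mul, ← zpow_add, ← zpow_add]
    have hv' : (γ ^ (d.μ * t + (p * s + k))).1 = 1 := by
      rw [← e1]; simpa [hα, hβ, hγ] using hv1
    rw [e1]
    have hL : (d.μ * t + (p * s + k)) • h.c = 0 := ι_eq_one (by rw [ι_zsmul]; exact hv')
    obtain ⟨l, hl⟩ := (d.ord _).1 hL
    show C ^ (d.μ * t + (p * s + k)) = 1
    rw [hl, zpow_mul, h3, one_zpow]
  let π : T →* G := (MonoidHom.fst G X).comp T.subtype
  have hinj : Function.Injective π := by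
    rw [injective_iff_map_eq_one]
    exact fun v hv => Subtype.ext (Prod.ext hv (hker v v.2 hv))
  have hαT : α ∈ T := Subgroup.mem_sup_left (Subgroup.mem_zpowers α)
  have hsurj : Function.Surjective π := by
    intro g
    have hle : Subgroup.closure {h.a, h.b} ≤ π.range := by
      rw [Subgroup.closure_le]
      rintro x (rfl | rfl)
      · exact ⟨⟨α, hαT⟩, rfl⟩
      · exact ⟨⟨β, Subgroup.mem_sup_right hβ2⟩, rfl⟩
    exact hle (h.gen ▸ Subgroup.mem_top g)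
  let e := MulEquiv.ofBijective π ⟨hinj, hsurj⟩
  have hj : ∀ v : T, (e.symm (π v) : G × X) = v := fun v => by
    rw [show π v = e v from rfl, e.symm_apply_apply]
  refine ⟨((MonoidHom.snd G X).comp T.subtype).comp e.symm.toMonoidHom, ?_, ?_, ?_⟩
  · exact congrArg Prod.snd (hj ⟨α, hαT⟩)
  · exact congrArg Prod.snd (hj ⟨β, Subgroup.mem_sup_right hβ2⟩)
  · exact congrArg Prod.snd (hj ⟨γ, Subgroup.mem_sup_right hγ2⟩)

/-- An embedding as a Sylow subgroup with an element of the commutator subgroup fused to one outside. -/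
theorem exists_embedding_of (N i : ℕ) (hN : 2 ≤ N) (hn : d.n ≤ N) (hNn : N ≤ d.n + 1)
    (hi : (2 : ℤ) ^ N ∣ 5 ^ i - d.u) (hσ : (2 : ℤ) ^ N ∣ 2 * d.μ - geo d.u (2 ^ h.r))
    (hq : h.q = ((2 : ℤ) ^ (N - 1)) • h.c) :
    ∃ (X : Type) (_ : Group X) (_ : Finite X) (j : G →* X), Function.Injective j ∧
      (∃ T : Sylow 2 X, (T : Subgroup X) = j.range) ∧
      ∃ x y : G, x ∈ commutator G ∧ y ∉ commutator G ∧ ∃ t : X, t * j y * t⁻¹ = j x := by
  haveI : Fact (Nat.Prime 2) := ⟨Nat.prime_two⟩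
  obtain ⟨X, _, _, A, B, C, t, h1, h2, h3, h4, h5, h6, hA, hBC, ht, m, hm, hcard⟩ :=
    exists_model d.n N h.r i d.u d.μ hN hn hNn hi d.μ_fixed hσ
  obtain ⟨j, ja, jb, jc⟩ := d.exists_hom A B C _ hq h1 h2 h3 h4 h5 h6
  have hbP : h.b ∉ commutator G := fun hb => by
    have : h.a ^ (0 : ℤ) * h.b ^ (1 : ℤ) ∈ commutator G := by simpa using hb
    exact absurd (h.sep.1 this).2 (by decide)
  have hjι : ∀ k : ℤ, j (ι (k • h.c)) = C ^ k := fun k => by rw [ι_zsmul, map_zpow, jc]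
  have hnat : ∀ g : G, ∃ (i : ℕ) (f : ℕ) (k : ℤ), f ≤ 1 ∧ g = h.a ^ i * h.b ^ f * ι (k • h.c) := by
    intro g
    obtain ⟨i, e, x, rfl⟩ := h.nf g
    obtain ⟨N', -, -, hN'⟩ := h.exists_pow_kill
    have hi' : ∃ i' : ℕ, h.a ^ i = h.a ^ i' := by
      refine ⟨(i % (2 ^ N' : ℤ)).toNat, ?_⟩
      rw [← zpow_natCast, Int.toNat_of_nonneg (Int.emod_nonneg _ (by positivity)), Int.emod_def, sub_eq_add_neg,
        zpow_add, ← mul_neg, zpow_mul, show h.a ^ (2 ^ N' : ℤ) = 1 by exact_mod_cast hN' h.a, one_zpow, mul_one]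
    obtain ⟨i', hi'⟩ := hi'
    obtain ⟨k, rfl⟩ := d.gen x
    rcases Int.even_or_odd' e with ⟨s, rfl | rfl⟩
    · refine ⟨i', 0, (s * 2 ^ (N - 1) + k), by omega, ?_⟩
      rw [hi', zpow_mul, zpow_two, ← h.ι_q, hq, ← ι_zsmul, smul_smul, mul_assoc, ← ι_add, ← add_smul, pow_zero,
        mul_one]
    · refine ⟨i', 1, (s * 2 ^ (N - 1) + k), le_rfl, ?_⟩
      rw [hi', add_comm (2 * s), zpow_one_add, zpow_mul, zpow_two, ← h.ι_q, hq, ← ι_zsmul, smul_smul, pow_one,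
        add_smul, ι_add]
      simp only [mul_assoc]
  have hinj : Function.Injective j := by
    rw [injective_iff_map_eq_one]
    intro g hg
    obtain ⟨i, f, k, hf, rfl⟩ := hnat g
    rw [map_mul, map_mul, map_pow, map_pow, ja, jb, hjι] at hg
    obtain ⟨s, rfl⟩ := hA i f k hg
    have e1 : h.a ^ (2 ^ h.r * s) * h.b ^ f = h.b ^ f * ι (((if f = 0 then 1 else -1) * (d.μ * s)) • h.c) := by
      have e0 : h.a ^ (2 ^ h.r * s) = ι ((d.μ * s) • h.c) := by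
        rw [mul_comm d.μ, mul_smul, ← d.hm, ι_zsmul, h.ι_m, ← zpow_natCast, ← zpow_mul]; norm_cast
      rw [e0]
      interval_cases f
      · simp
      · rw [if_neg one_ne_zero, pow_one, neg_one_mul, neg_smul]
        calc ι ((d.μ * s) • h.c) * h.b = (ι (-((d.μ * s) • h.c)))⁻¹ * h.b := by rw [ι_neg, inv_inv]
          _ = h.b * ι (-((d.μ * s) • h.c)) * h.b⁻¹ * h.b := by rw [d.conj_b]
          _ = _ := by rw [inv_mul_cancel_right]
    rw [← ja, ← jb, ← hjι, ← map_pow, ← map_pow, ← map_mul, ← map_mul, e1, mul_assoc, ← ι_add, ← add_smul,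
      map_mul, map_pow, hjι, jb] at hg
    obtain ⟨rfl, hk⟩ := hBC f _ hf hg
    rw [e1, pow_zero, one_mul, ← ι_add, ← add_smul, (d.ord _).2 hk, ι_zero]
  refine ⟨X, inferInstance, inferInstance, j, hinj, ?_, ι (((2 : ℤ) ^ (N - 2)) • h.c), h.b, ι_mem _, hbP, t, ?_⟩
  swap
  · rw [jb, hjι]; exact ht
  -- the image is a Sylow subgroup
  let F : Fin (2 ^ h.r) × Fin 2 × DP G → G := fun v => h.a ^ (v.1 : ℕ) * h.b ^ (v.2.1 : ℕ) * ι v.2.2
  have hF : Function.Injective F := by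
    rintro ⟨i1, f1, x1⟩ ⟨i2, f2, x2⟩ he
    simp only [F] at he
    have hm1 : h.a ^ ((i1 : ℕ) : ℤ) * h.b ^ (((f1 : ℕ) : ℤ) - (f2 : ℕ)) * (h.a ^ ((i2 : ℕ) : ℤ))⁻¹ ∈ commutator G := by
      rw [zpow_sub, zpow_natCast, zpow_natCast, zpow_natCast, zpow_natCast,
        show h.a ^ (i1 : ℕ) * (h.b ^ (f1 : ℕ) * (h.b ^ (f2 : ℕ))⁻¹) * (h.a ^ (i2 : ℕ))⁻¹ =
          (h.a ^ (i1 : ℕ) * h.b ^ (f1 : ℕ) * ι x1) * (ι x1)⁻¹ * (h.b ^ (f2 : ℕ))⁻¹ * (h.a ^ (i2 : ℕ))⁻¹ by group,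
        he, show h.a ^ (i2 : ℕ) * h.b ^ (f2 : ℕ) * ι x2 * (ι x1)⁻¹ * (h.b ^ (f2 : ℕ))⁻¹ * (h.a ^ (i2 : ℕ))⁻¹ =
          h.a ^ (i2 : ℕ) * h.b ^ (f2 : ℕ) * (ι x2 * (ι x1)⁻¹) * (h.a ^ (i2 : ℕ) * h.b ^ (f2 : ℕ))⁻¹ by group]
      exact (inferInstance : (commutator G).Normal).conj_mem _ (mul_mem (ι_mem _) (inv_mem (ι_mem _))) _
    have hm2 : h.a ^ (((i1 : ℕ) : ℤ) - (i2 : ℕ)) * h.b ^ (((f1 : ℕ) : ℤ) - (f2 : ℕ)) ∈ commutator G := by
      have := (inferInstance : (commutator G).Normal).conj_mem _ hm1 (h.a ^ ((i2 : ℕ) : ℤ))⁻¹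
      rw [inv_inv] at this
      convert this using 1
      rw [zpow_sub, (Commute.zpow_zpow_self h.a _ _).inv_right.eq]
      group
    obtain ⟨hi1, hf1⟩ := h.sep.1 hm2
    have ei : i1 = i2 := by
      apply Fin.ext
      have h1 := i1.2
      have h2 := i2.2
      have h3 : (((i1 : ℕ) : ℤ) - (i2 : ℕ)) = 0 := Int.eq_zero_of_abs_lt_dvd hi1 (by
        rw [show (2 : ℤ) ^ h.r = ((2 ^ h.r : ℕ) : ℤ) by push_cast; rfl, abs_lt]
        constructor <;> omega)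
      omega
    have ef : f1 = f2 := by
      apply Fin.ext
      obtain ⟨s, hs⟩ := hf1
      omega
    subst ei ef
    rw [mul_right_inj] at he
    rw [ι_inj he]
  have hGcard : 2 ^ (h.r + d.n + 1) ≤ Nat.card G := by
    have := Nat.card_le_card_of_injective F hF
    rw [Nat.card_prod, Nat.card_prod, Nat.card_fin, Nat.card_fin, d.card] at this
    rw [pow_add, pow_add, pow_one]
    linarith
  have hp : IsPGroup 2 j.range := h.isP.of_surjective j.rangeRestrict j.rangeRestrict_surjective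
  refine ⟨hp.toSylow ?_, rfl⟩
  intro hdvd
  obtain ⟨s, hs⟩ := IsPGroup.iff_card.1 hp
  have hG : Nat.card G = 2 ^ s := by rw [← hs]; exact Nat.card_congr (MonoidHom.ofInjective hinj).toEquiv
  have h7 := j.range.card_mul_index
  rw [hs, hcard] at h7
  have h8 : h.r + d.n + 1 ≤ s := (Nat.pow_le_pow_iff_right (by norm_num : 1 < 2)).1 (hG ▸ hGcard)
  obtain ⟨k, rfl⟩ : ∃ k, s = h.r + d.n + 1 + k := ⟨s - (h.r + d.n + 1), by omega⟩
  rw [pow_add, mul_assoc] at h7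
  have h9 := Nat.eq_of_mul_eq_mul_left (by positivity) h7
  exact (Nat.not_even_iff_odd.2 hm) (by
    rw [← h9, even_iff_two_dvd]; exact Dvd.dvd.mul_left hdvd _)

/-- The case of a square of `b` different from one. -/
theorem exists_embedding_q (hn2 : 2 ≤ d.n) (hu4 : (4 : ℤ) ∣ d.u - 1) (hq : h.q ≠ 0) :
    ∃ (X : Type) (_ : Group X) (_ : Finite X) (j : G →* X), Function.Injective j ∧
      (∃ T : Sylow 2 X, (T : Subgroup X) = j.range) ∧
      ∃ x y : G, x ∈ commutator G ∧ y ∉ commutator G ∧ ∃ t : X, t * j y * t⁻¹ = j x := by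
  obtain ⟨k, hk⟩ := d.gen h.q
  have h2 := d.two_q
  rw [hk, smul_smul, d.ord] at h2
  obtain ⟨s, hs⟩ := h2
  have hp : (2 : ℤ) ^ d.n = 2 * 2 ^ (d.n - 1) := by rw [← pow_succ', Nat.sub_add_cancel d.one_le]
  have hk' : k = 2 ^ (d.n - 1) * s := by
    rw [hp] at hs; linarith
  have hodd : Odd s := by
    rw [← Int.not_even_iff_odd]
    rintro ⟨s', rfl⟩
    exact hq (hk.trans ((d.ord k).2 ⟨s', by rw [hk', hp]; ring⟩))
  have hq' : h.q = ((2 : ℤ) ^ (d.n - 1)) • h.c := by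
    rw [hk, ← sub_eq_zero, ← sub_smul, d.ord]
    obtain ⟨s', rfl⟩ := hodd
    exact ⟨s', by rw [hk', hp]; ring⟩
  obtain ⟨i, hi⟩ := exists_five_pow hu4 (d.n - 2)
  rw [Nat.sub_add_cancel hn2] at hi
  exact d.exists_embedding_of d.n i hn2 le_rfl (by omega) hi d.two_m hq'

end Cyc

/-- Every bicyclic non-metacyclic `2`-group with cyclic commutator subgroup has such an embedding. -/
theorem exists_embedding (h : Pre G) (hcyc : IsCyclic ↥(commutator G)) :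
    ∃ (X : Type) (_ : Group X) (_ : Finite X) (j : G →* X), Function.Injective j ∧
      (∃ T : Sylow 2 X, (T : Subgroup X) = j.range) ∧
      ∃ x y : G, x ∈ commutator G ∧ y ∉ commutator G ∧ ∃ t : X, t * j y * t⁻¹ = j x := by
  obtain ⟨d⟩ := h.cyc hcyc
  have hr := h.two_le_r
  rcases eq_or_lt_of_le d.one_le with hn1 | hn2
  · -- the commutator subgroup has order two
    have h2c : ∀ k : ℤ, Even k → k • h.c = 0 := fun k hk => (d.ord k).2 (by
      rw [← hn1, pow_one]; exact even_iff_two_dvd.1 hk)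
    have hA1 : ∀ x, h.A x = (1 : ℤ) • x := fun x => by
      obtain ⟨k, rfl⟩ := d.gen x
      rw [d.hA, one_smul, smul_smul, ← sub_eq_zero, ← sub_smul]
      exact h2c _ (by rw [show d.u * k - k = (d.u - 1) * k by ring]; exact (d.hu.sub_odd odd_one).mul_right k)
    let d' : Cyc h := { d with u := 1, hA := hA1, hu := odd_one }
    have hgeo : ∀ k : ℕ, geo 1 k = k := fun k => by
      induction k with
      | zero => rfl
      | succ k ih => rw [geo, ih]; push_cast; ring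
    refine d'.exists_embedding_of 2 0 le_rfl (by show d.n ≤ 2; omega) (by show 2 ≤ d.n + 1; omega) ?_ ?_ ?_
    · show (2 : ℤ) ^ 2 ∣ 5 ^ 0 - 1
      norm_num
    · show (2 : ℤ) ^ 2 ∣ 2 * d.μ - geo 1 (2 ^ h.r)
      obtain ⟨μ', hμ'⟩ := d.hμ
      rw [hgeo, Nat.cast_pow, Nat.cast_ofNat, show (2 : ℤ) ^ h.r = 2 ^ 2 * 2 ^ (h.r - 2) by
        rw [← pow_add]; congr 1; omega, hμ']
      exact ⟨μ' - 2 ^ (h.r - 2), by ring⟩
    · obtain ⟨y, z, hyz⟩ := h.mem_deep.1 h.q_deep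
      obtain ⟨k, rfl⟩ := d.gen y
      obtain ⟨l, rfl⟩ := d.gen z
      rw [hyz, h.X_apply, d.hA, smul_smul, smul_smul, ← sub_smul, ← add_smul, h2c _ ((even_two_mul k).add (by
        rw [show d.u * l - l = (d.u - 1) * l by ring]; exact (d.hu.sub_odd odd_one).mul_right l)),
        h2c _ (by decide : Even ((2 : ℤ) ^ (2 - 1)))]
  -- make `u` congruent to one modulo four
  obtain ⟨h0, d0, hn0, hu0⟩ : ∃ (h0 : Pre G) (d0 : Cyc h0), 2 ≤ d0.n ∧ (4 : ℤ) ∣ d0.u - 1 := by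
    by_cases hu : (4 : ℤ) ∣ d.u - 1
    · exact ⟨h, d, hn2, hu⟩
    have hgen : Subgroup.closure {h.a * h.b, h.b} = (⊤ : Subgroup G) := by
      rw [eq_top_iff, ← h.gen, Subgroup.closure_le]
      rintro g (rfl | rfl)
      · rw [SetLike.mem_coe, show h.a = h.a * h.b * h.b⁻¹ by group]
        exact mul_mem (Subgroup.subset_closure (by simp)) (inv_mem (Subgroup.subset_closure (by simp)))
      · exact Subgroup.subset_closure (by simp)
    let h' : Pre G := { a := h.a * h.b, b := h.b, isP := h.isP, gen := hgen, bb := h.bb, notMeta := h.notMeta }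
    obtain ⟨d'⟩ := h'.cyc hcyc
    have hn : d'.n = d.n := Nat.pow_right_injective (le_refl 2) (d'.card.symm.trans d.card)
    have hu' : (2 : ℤ) ^ d.n ∣ d'.u + d.u := by
      rw [← d.ord, add_smul, ← d'.hA]
      show act (h.a * h.b) h.c + d.u • h.c = 0
      rw [map_mul]
      show h.A (h.B h.c) + d.u • h.c = 0
      rw [d.hB, map_neg, d.hA, neg_add_cancel]
    refine ⟨h', d', hn ▸ hn2, ?_⟩
    have h4 : (4 : ℤ) ∣ d'.u + d.u := (show (4 : ℤ) ∣ 2 ^ d.n from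
      ⟨2 ^ (d.n - 2), by rw [show (4 : ℤ) = 2 ^ 2 by norm_num, ← pow_add]; congr 1; omega⟩).trans hu'
    obtain ⟨w, hw⟩ := d.hu
    omega
  by_cases hq : h0.q = 0
  swap
  · exact d0.exists_embedding_q hn0 hu0 hq
  by_cases hmatch : (2 : ℤ) ^ (d0.n + 1) ∣ 2 * d0.μ - geo d0.u (2 ^ h0.r)
  · obtain ⟨i, hi⟩ := exists_five_pow hu0 (d0.n - 1)
    rw [show d0.n - 1 + 2 = d0.n + 1 by omega] at hi
    refine d0.exists_embedding_of (d0.n + 1) i (by omega) (by omega) le_rfl hi hmatch ?_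
    rw [hq, Nat.add_sub_cancel, (d0.ord _).2 dvd_rfl]
  -- otherwise change `b`
  set K := 2 ^ (h0.r - 1) with hK
  have hr0 := h0.two_le_r
  have hKeven : Even K := (Nat.even_pow).2 ⟨even_two, by omega⟩
  have hKK : K + K = 2 ^ h0.r := by rw [hK, ← two_mul, ← pow_succ', Nat.sub_add_cancel (by omega)]
  obtain ⟨k, hk⟩ := geo_even d0.hu hKeven
  set V := d0.μ - geo d0.u K - (d0.u ^ K - 1) * k with hV
  have hVnz : ¬ (2 : ℤ) ^ d0.n ∣ V := by
    rintro ⟨s, hs⟩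
    apply hmatch
    refine ⟨s, ?_⟩
    rw [← hKK, geo_add, pow_succ (2 : ℤ) d0.n]
    linear_combination 2 * hs + (1 - d0.u ^ K) * hk
  have hAK : ∀ e : ℕ, ∀ x, (h0.A ^ e) x = d0.u ^ e • x := fun e => by
    induction e with
    | zero => intro x; simp
    | succ e ih =>
      intro x
      rw [pow_succ']
      show h0.A ((h0.A ^ e) x) = _
      rw [ih, d0.hA, smul_smul, pow_succ']
  set b' := h0.b * h0.a ^ K * ι (k • h0.c) with hb'
  have hsq : b' * b' = ι (V • h0.c) := by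
    have e1 : b' * b' = ι (-h0.S K + (h0.A ^ K) (h0.B (k • h0.c) + h0.q) + h0.m + k • h0.c) := by
      rw [ι_add, ι_add, ι_add, ι_neg, h0.ι_S, show h0.A ^ K = act (h0.a ^ K) from (map_pow _ _ _).symm, ι_act,
        ι_add, h0.ι_q, Pre.B, ι_act, h0.ι_m, show ((2 : ℤ) ^ h0.r) = (K : ℤ) + (K : ℤ) by exact_mod_cast hKK.symm,
        zpow_add, zpow_natCast, hb', commutatorElement_def]
      group
    rw [e1, d0.S_geo, d0.hB, hq, add_zero, hAK, d0.hm]
    congr 1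
    rw [hV]; module
  have hgen : Subgroup.closure {h0.a, b'} = (⊤ : Subgroup G) := by
    refine gen_of_frattini' h0.isP (top_le_iff.1 (h0.gen.ge.trans ((Subgroup.closure_le _).2 ?_)))
    rintro g (rfl | rfl)
    · exact Subgroup.mem_sup_left (Subgroup.subset_closure (by simp))
    · rw [SetLike.mem_coe, show h0.b = b' * (ι (k • h0.c))⁻¹ * (h0.a ^ K)⁻¹ by rw [hb']; group]
      exact mul_mem (mul_mem (Subgroup.mem_sup_left (Subgroup.subset_closure (by simp)))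
        (Subgroup.mem_sup_right (inv_mem (ι_mem _))))
        (inv_mem (pow_mem (Subgroup.mem_sup_left (Subgroup.subset_closure (by simp))) K))
  have hbb : b' * b' ∈ deepComm G := by
    have hVe : Even V := by
      rw [hV]
      exact (d0.hμ.sub ⟨k, hk⟩).sub ((d0.hu.pow.sub_odd odd_one).mul_right k)
    obtain ⟨V', hV'⟩ := hVe
    rw [hsq, hV', add_smul, ι_add]
    exact sq_mem_deepComm (ι_mem _)
  let h' : Pre G := { a := h0.a, b := b', isP := h0.isP, gen := hgen, bb := hbb, notMeta := h0.notMeta }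
  obtain ⟨d'⟩ := h'.cyc hcyc
  have hn : d'.n = d0.n := Nat.pow_right_injective (le_refl 2) (d'.card.symm.trans d0.card)
  have hu' : (2 : ℤ) ^ d0.n ∣ d'.u - d0.u := by
    rw [← d0.ord, sub_smul, ← d'.hA, ← d0.hA]
    exact sub_self _
  refine d'.exists_embedding_q (hn ▸ hn0) ?_ ?_
  · have h4 : (4 : ℤ) ∣ d'.u - d0.u := (show (4 : ℤ) ∣ 2 ^ d0.n from
      ⟨2 ^ (d0.n - 2), by rw [show (4 : ℤ) = 2 ^ 2 by norm_num, ← pow_add]; congr 1; omega⟩).trans hu'
    omega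
  · intro e
    apply hVnz
    rw [← d0.ord]
    refine ι_eq_one ?_
    rw [← hsq]
    exact h'.ι_q.symm.trans (by rw [e, ι_zero])

end CfsgLib.Fsys.Bicyclic
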