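import Cfsg.Agent.Lib.FusionSystem.Bicyclic.Ops

/-!
Non-cyclic commutator subgroup: candidates for essential subgroups without an element of `b G'`.
-/

set_option autoImplicit false
set_option linter.style.haveILetI false
set_option linter.unusedSectionVars false

open scoped commutatorElement IsMulCommutative

namespace CfsgLib.Fsys.Bicyclic

variable {G : Type*} [Group G] [Finite G] [IsMulCommutative ↥(commutator G)]

theorem commutator_le_frattini (hG : IsPGroup 2 G) : commutator G ≤ frattini G := by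
  haveI : Fact (Nat.Prime 2) := ⟨Nat.prime_two⟩
  rw [commutator_def, Subgroup.commutator_le]
  exact fun v _ w _ => CfsgLib.PGroup.Frattini.commutatorElement_mem_frattini hG v w

namespace Coord

variable {h : Pre G} (K : Coord h) {H : Subgroup G}
include K

theorem two_mem_Phi {z : DP G} (hz : ι z ∈ H) : ι ((2 : ℤ) • z) ∈ Phi H := by
  rw [two_zsmul, ι_add]; exact sq_mem_Phi h.isP hz

omit K in
theorem zsmul_mem_Phi {z : DP G} (hz : ι z ∈ Phi H) (k : ℤ) : ι (k • z) ∈ Phi H := ι_zsmul_mem hz k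

theorem comm_b_pow (l : ℕ) : ⁅h.b, h.a ^ l⁆ = ι (-h.S l) := by
  rw [← commutatorElement_inv, h.comm_a_pow_b, ι_neg]

/-- Involutions of the commutator subgroup lie in `H`. -/
theorem torsion_mem (hs : Stab H) {x : DP G} (hx : (2 : ℤ) • x = 0) : ι x ∈ H := by
  set z := h.X x with hz
  have hz2 : (2 : ℤ) • z = 0 := by rw [hz, ← map_zsmul, hx, map_zero]
  have hXz : h.X z = 0 := by
    rw [hz, K.XX, mul_comm, mul_smul, ← map_zsmul h.X, hx, map_zero, smul_zero]
  have hcomm : ∀ g : G, ∃ i : ℕ, ∀ y : DP G, (2 : ℤ) • y = 0 → ⁅ι y, g⁆ = ι (ee K.j i • h.X y) ∧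
      ∀ e : ℕ, ∀ u, g = h.a ^ i * h.b ^ e * ι u → True := by
    intro g
    obtain ⟨i, e, u, he, rfl⟩ := h.nf_nat g
    refine ⟨i, fun y hy => ⟨?_, fun _ _ _ => trivial⟩⟩
    have hB : h.B y = y := by
      have hy' : -y = y := by rw [two_zsmul] at hy; rw [neg_eq_iff_add_eq_zero]; exact hy
      rw [K.B_eq, hy', mul_comm, mul_smul, ← map_zsmul, hy, map_zero, smul_zero, add_zero]
    have hneg : ∀ k : ℤ, -(k • h.X y) = k • h.X y := fun k => by
      have h2 : (2 : ℤ) • h.X y = 0 := by rw [← map_zsmul, hy, map_zero]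
      rw [neg_eq_iff_add_eq_zero, ← smul_add, ← two_zsmul, h2, smul_zero]
    interval_cases e
    · rw [pow_zero, mul_one, h.comm_ι_g0, ← neg_sub, K.A_pow_sub, hneg]
    · rw [pow_one, h.comm_ι_g1, hB, ← neg_sub, K.A_pow_sub, hneg]
  have hzc : ι z ∈ H := hs.cent (Subgroup.mem_centralizer_iff.2 fun g _ => by
    obtain ⟨i, hi⟩ := hcomm g
    have h1 := (hi z hz2).1
    rw [hXz, smul_zero, ι_zero, commutatorElement_eq_one_iff_mul_comm] at h1
    exact h1.symm)
  by_contra hxH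
  set Z : Set G := {v | v ∈ H ∧ v * v = 1 ∧ ∀ w ∈ H, v * w = w * v} with hZ
  have hZH : Z ⊆ H := fun v hv => hv.1
  apply hxH
  refine hs.mem' h.isP (n := ι x) (Phi H ⊔ Subgroup.closure Z) le_sup_left
    (sup_le Phi_le ((Subgroup.closure_le _).2 hZH)) (autInv_sup_closure hZH ?_) (Z := Z) ?_ hZH ?_
    (Y := (H : Set G)) Subgroup.subset_closure subset_rfl ?_
  · rintro α v ⟨-, hv2, hvc⟩
    refine ⟨(α v).2, ?_, fun w hw => ?_⟩
    · have h2 : v * v = 1 := Subtype.ext hv2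
      exact congrArg Subtype.val (show α v * α v = 1 by rw [← map_mul, h2, map_one])
    · obtain ⟨u, hu⟩ := α.surjective ⟨w, hw⟩
      have h2 : v * u = u * v := Subtype.ext (hvc _ u.2)
      have h3 := congrArg α h2
      rw [map_mul, map_mul, hu] at h3
      exact congrArg Subtype.val h3
  · rw [sup_le_iff]
    exact ⟨fun v hv => Subgroup.subset_closure (Or.inr hv), Subgroup.closure_mono Set.subset_union_left⟩
  · rintro v ⟨hvH, hv2, -⟩
    obtain ⟨i, e, u, he, rfl⟩ := h.nf_nat v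
    obtain ⟨i', hi⟩ := h.even_of_sq_mem (g := h.a ^ i * h.b ^ e * ι u) rfl (hv2 ▸ one_mem _)
    have hr := h.two_le_r
    obtain ⟨t, ht⟩ := ee_even K.j (2 ^ (h.r - 2) * i')
    have hev : ee K.j i = 2 * (1 + K.j) * t := by
      rw [← ht, hi, ← mul_assoc, ← pow_succ', show h.r - 2 + 1 = h.r - 1 by omega]
    have h1 : ⁅ι x, h.a ^ i * h.b ^ e * ι u⁆ = 1 := by
      have hB : h.B x = x := by
        have hy' : -x = x := by rw [two_zsmul] at hx; rw [neg_eq_iff_add_eq_zero]; exact hx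
        rw [K.B_eq, hy', mul_comm, mul_smul, ← hz, hz2, smul_zero, add_zero]
      have h0 : x - (h.A ^ i) x = 0 := by
        rw [← neg_sub, K.A_pow_sub, hev, ← hz, show 2 * (1 + K.j) * t = (1 + K.j) * t * 2 by ring, mul_smul, hz2,
          smul_zero, neg_zero]
      interval_cases e
      · rw [pow_zero, mul_one, h.comm_ι_g0, h0, ι_zero]
      · rw [pow_one, h.comm_ι_g1, hB, h0, ι_zero]
    rw [h1]; exact one_mem _
  · intro g hg
    obtain ⟨i, hi⟩ := hcomm g
    rw [(hi x hx).1]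
    refine Subgroup.mem_sup_right (ι_zsmul_mem (x := z) (Subgroup.subset_closure (show ι z ∈ Z from ⟨hzc, ?_, fun w _ => ?_⟩)) _)
    · rw [← ι_add, ← two_zsmul, hz2, ι_zero]
    · obtain ⟨i, hi⟩ := hcomm w
      have h1 := (hi z hz2).1
      rwa [hXz, smul_zero, ι_zero, commutatorElement_eq_one_iff_mul_comm] at h1

/-- `H` is not inside the commutator subgroup. -/
theorem not_le_commutator (hs : Stab H) : ¬ H ≤ commutator G := by
  intro hle
  have hM : ∀ y : DP G, ι y ∈ H := fun y => hs.cent (Subgroup.mem_centralizer_iff.2 fun g hg => by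
    obtain ⟨u, rfl⟩ := exists_ι (hle hg)
    exact ι_comm u y)
  have hb : h.b ∈ H := by
    refine hs.mem_of_central' h.isP (Y := (H : Set G)) Subgroup.subset_closure subset_rfl fun g hg => ?_
    obtain ⟨u, rfl⟩ := exists_ι (hle hg)
    rw [comm_ι_right, show act h.b = h.B from rfl, K.B_sub, ι_neg]
    exact inv_mem (K.two_mem_Phi (hM _))
  have := hle hb
  rw [show h.b = h.a ^ 0 * h.b ^ 1 by simp] at this
  exact absurd (h.sep_nat.1 this).2 (by decide)

theorem X_d_mem_Phi (hd : ι h.d ∈ Phi H) (y : DP G) : ι (h.X y) ∈ Phi H := by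
  obtain ⟨k, hk⟩ := K.X_mem_d y
  rw [hk]; exact zsmul_mem_Phi hd k

/-- `a` is not in `H`. -/
theorem a_notMem (hs : Stab H) : h.a ∉ H := by
  intro ha
  have hr := h.two_le_r
  have hm : ι h.m ∈ H := by rw [h.ι_m]; exact zpow_mem ha _
  have hnob : ∀ (i e : ℕ) (u : DP G), e ≤ 1 → h.a ^ i * h.b ^ e * ι u ∈ H → e = 0 ∧ ι u ∈ H := by
    intro i e u he hmem
    interval_cases e
    · refine ⟨rfl, ?_⟩
      have := mul_mem (inv_mem (pow_mem ha i)) hmem
      rwa [pow_zero, mul_one, inv_mul_cancel_left] at this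
    · exfalso
      apply hs.lt
      refine gen_of_frattini (top_le_iff.1 (h.gen.ge.trans ((Subgroup.closure_le _).2 ?_)))
      rintro g (rfl | rfl)
      · exact Subgroup.mem_sup_left ha
      · have := mul_mem (inv_mem (pow_mem ha i)) hmem
        rw [pow_one, ← mul_assoc, inv_mul_cancel_left] at this
        rw [show h.b = (h.b * ι u) * (ι u)⁻¹ by group]
        exact mul_mem (Subgroup.mem_sup_left this)
          (Subgroup.mem_sup_right (inv_mem (commutator_le_frattini h.isP (ι_mem u))))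
  set Y : Set G := {h.a} ∪ ι '' {y | ι y ∈ H} with hYdef
  have hY : H ≤ Subgroup.closure Y := by
    intro g hg
    obtain ⟨i, e, u, he, rfl⟩ := h.nf_nat g
    obtain ⟨rfl, hu⟩ := hnob i e u he hg
    rw [pow_zero, mul_one]
    exact mul_mem (pow_mem (Subgroup.subset_closure (show h.a ∈ Y from Or.inl rfl)) i)
      (Subgroup.subset_closure (show ι u ∈ Y from Or.inr ⟨u, hu, rfl⟩))
  have hYH : Y ⊆ H := by rintro g (rfl | ⟨y, hy, rfl⟩) <;> assumption
  obtain ⟨N, hN1, hN, -⟩ := h.exists_pow_kill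
  let T : AddSubgroup ℤ := (Jof H).comap (zmultiplesHom (DP G) h.c)
  have hTmem : ∀ k : ℤ, k ∈ T ↔ ι (k • h.c) ∈ H := fun k => Iff.rfl
  obtain ⟨i, hi⟩ := exists_two_pow T ((hTmem _).2 (by rw [hN, ι_zero]; exact one_mem H))
  have hJ : ∀ k : ℤ, ι (k • h.c) ∈ H ↔ (2 : ℤ) ^ i ∣ k := fun k => (hTmem k).symm.trans (hi k)
  rcases Nat.eq_zero_or_pos i with rfl | hipos
  · -- the whole commutator subgroup lies in `H`
    have hall : ∀ y : DP G, ι y ∈ H := fun y => by
      obtain ⟨k, l, rfl⟩ := K.gen y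
      rw [ι_add]
      exact mul_mem ((hJ k).2 (by simp)) (ι_zsmul_mem hm l)
    have hbH : h.b ∉ H := fun hb => absurd (hnob 0 1 0 le_rfl (by simpa using hb)).1 (by decide)
    have hdH : ι h.d ∈ ⁅H, H⁆ := by
      have h1 := Subgroup.commutator_mem_commutator ha (hall h.c)
      rw [comm_ι_right] at h1
      exact h1
    have hdPhi : ι h.d ∈ Phi H := by
      have h1 : ⁅h.a, ι h.c⁆ ∈ Phi H := comm_mem_Phi h.isP ha (hall h.c)
      rw [comm_ι_right] at h1
      exact h1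
    have hsq : ∀ v ∈ sqComm H, ∃ y : DP G, v = ι ((2 : ℤ) • y) := by
      intro v hv
      induction hv using Subgroup.closure_induction with
      | mem v hv =>
        obtain ⟨u, hu, rfl⟩ := hv
        obtain ⟨y, rfl⟩ := exists_ι (Subgroup.commutator_mono le_top le_top hu : u ∈ ⁅(⊤ : Subgroup G), ⊤⁆)
        exact ⟨y, by rw [two_zsmul, ι_add]⟩
      | one => exact ⟨0, by rw [smul_zero, ι_zero]⟩
      | mul x y _ _ hx hy =>
        obtain ⟨u, rfl⟩ := hx
        obtain ⟨w, rfl⟩ := hy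
        exact ⟨u + w, by rw [smul_add, ι_add ((2 : ℤ) • u)]⟩
      | inv x _ hx =>
        obtain ⟨u, rfl⟩ := hx
        exact ⟨-u, by rw [smul_neg, ι_neg]⟩
    set Z : Set G := {v | v ∈ H ∧ v ^ (2 ^ h.r) ∈ sqComm H} with hZ
    have hZH : Z ⊆ H := fun v hv => hv.1
    -- an element of `Z` congruent to `c` modulo squares
    have hwit : ∃ k : ℕ, Even k ∧ ι h.c * h.a ^ k ∈ Z := by
      obtain ⟨η, hη⟩ : ∃ η α : ℤ, K.ε * η = 1 + 2 ^ N * α := by
        have hcop : IsCoprime K.ε ((2 : ℤ) ^ N) := by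
          refine IsCoprime.pow_right ?_
          obtain ⟨w, hw⟩ := K.odd
          exact ⟨1, -w, by rw [hw]; ring⟩
        obtain ⟨a', b', hab⟩ := hcop
        exact ⟨a', -b', by linear_combination hab⟩
      obtain ⟨α, hα⟩ := hη
      have hNz : ∀ (z : ℤ) (y : DP G), (2 ^ N * z) • y = 0 := fun z y => by rw [mul_smul, hN]
      have hmd : h.m = η • h.d - (2 * K.j * η) • h.c := by
        rw [K.hd, smul_add, smul_smul, smul_smul, mul_comm η K.ε, hα, add_smul, one_smul, hNz, add_zero,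
          mul_comm η]
        abel
      by_cases hv : (2 : ℤ) ^ (h.r - 1) ∣ K.j
      · -- then `2 ^ r c` is an even multiple of `d`
        obtain ⟨j2, hj2⟩ := hv
        have h2m := K.two_m
        rw [K.S_eq, Nat.cast_pow, Nat.cast_ofNat] at h2m
        set κ := kap K.j (2 ^ h.r)
        have hpow : (2 : ℤ) ^ h.r = 2 * 2 ^ (h.r - 1) := by rw [← pow_succ', Nat.sub_add_cancel (by omega)]
        have key : ((2 : ℤ) ^ h.r * (K.ε + 2 * j2)) • h.c = (2 - K.ε * κ) • h.d := by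
          have h3 := congrArg (fun z => K.ε • z) h2m
          simp only [smul_add, smul_smul] at h3
          have h4 : (K.ε * 2) • h.m = (2 : ℤ) • h.d - (4 * K.j) • h.c := by
            rw [K.hd, smul_add, smul_smul, smul_smul, mul_comm K.ε]; ring_nf; abel
          rw [h4] at h3
          rw [mul_add, add_smul, sub_smul, show 2 ^ h.r * (2 * j2) = 4 * K.j by rw [hj2, hpow]; ring,
            mul_comm (2 ^ h.r : ℤ) K.ε]
          linear_combination (norm := module) (-1 : ℤ) • h3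
        obtain ⟨ω, β, hω⟩ : ∃ ω β : ℤ, (K.ε + 2 * j2) * ω = 1 + 2 ^ N * β := by
          have hcop : IsCoprime (K.ε + 2 * j2) ((2 : ℤ) ^ N) := by
            refine IsCoprime.pow_right ?_
            obtain ⟨w, hw⟩ := K.odd
            exact ⟨1, -(w + j2), by rw [hw]; ring⟩
          obtain ⟨a', b', hab⟩ := hcop
          exact ⟨a', -b', by linear_combination hab⟩
        have hT : ((2 : ℤ) ^ h.r) • h.c = (ω * (2 - K.ε * κ)) • h.d := by
          rw [mul_smul ω, ← key, smul_smul, show ω * (2 ^ h.r * (K.ε + 2 * j2)) = 2 ^ h.r * ((K.ε + 2 * j2) * ω) by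
            ring, hω, mul_add, mul_one, add_smul, show 2 ^ h.r * (2 ^ N * β) = 2 ^ N * (2 ^ h.r * β) by ring, hNz,
            add_zero]
        set T0 := ω * (2 - K.ε * κ)
        have hTe : Even T0 := by
          have h5 := (K.ind (2 * K.j * T0) (T0 * K.ε) ⟨(2 : ℤ) ^ (h.r - 1) • h.c, ?_⟩).2
          · rcases Int.even_mul.1 h5 with h6 | h6
            · exact h6
            · exact absurd h6 (Int.not_even_iff_odd.2 K.odd)
          · rw [smul_smul, ← hpow, hT, K.hd, smul_add, smul_smul, smul_smul, mul_comm (2 * K.j)]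
        obtain ⟨T1, hT1⟩ := hTe
        refine ⟨0, ⟨0, rfl⟩, by rw [pow_zero, mul_one]; exact hall _, ?_⟩
        rw [pow_zero, mul_one, ← zpow_natCast, ← ι_zsmul, Nat.cast_pow, Nat.cast_ofNat, hT, hT1, add_smul, ι_add]
        exact Subgroup.subset_closure ⟨_, ι_zsmul_mem hdH T1, rfl⟩
      · obtain ⟨v, j', hj', hvr, hjv⟩ : ∃ v : ℕ, ∃ j' : ℤ, Odd j' ∧ v + 2 ≤ h.r ∧ K.j = 2 ^ v * j' := by
          by_contra hno
          apply hv
          have hall' : ∀ v : ℕ, v + 1 ≤ h.r → (2 : ℤ) ^ v ∣ K.j := by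
            intro v
            induction v with
            | zero => simp
            | succ v ih =>
              intro hv'
              obtain ⟨w, hw⟩ := ih (by omega)
              rcases Int.even_or_odd w with ⟨u, rfl⟩ | hodd
              · exact ⟨u, by rw [hw]; ring⟩
              · exact absurd ⟨v, w, hodd, by omega, hw⟩ hno
          exact hall' (h.r - 1) (by omega)
        obtain ⟨w, β, hw⟩ : ∃ w β : ℤ, (j' * η) * w = 1 + 2 ^ N * β := by
          have hηodd : Odd η := by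
            by_contra hne
            obtain ⟨u, rfl⟩ := Int.not_odd_iff_even.1 hne
            obtain ⟨N', rfl⟩ : ∃ N', N = N' + 1 := ⟨N - 1, by omega⟩
            have : (2 : ℤ) * (K.ε * u - 2 ^ N' * α) = 1 := by rw [pow_succ] at hα; linear_combination hα
            omega
          have hcop : IsCoprime (j' * η) ((2 : ℤ) ^ N) := by
            refine IsCoprime.pow_right ?_
            obtain ⟨u, hu⟩ := hj'.mul hηodd
            exact ⟨1, -u, by rw [hu]; ring⟩
          obtain ⟨a', b', hab⟩ := hcop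
          exact ⟨a', -b', by linear_combination hab⟩
        obtain ⟨ev, hev⟩ : ∃ ev, h.r - 1 - v = ev + 1 := ⟨h.r - 2 - v, by omega⟩
        set k0 : ℤ := 2 ^ (h.r - 1 - v) * w with hk0
        obtain ⟨kk, γ, hkk⟩ : ∃ kk : ℕ, ∃ γ : ℤ, (kk : ℤ) = k0 + 2 ^ N * γ := by
          refine ⟨(k0 % 2 ^ N).toNat, -(k0 / 2 ^ N), ?_⟩
          rw [Int.toNat_of_nonneg (Int.emod_nonneg _ (by positivity)), Int.emod_def]; ring
        have hkev : Even kk := by
          have : Even (kk : ℤ) := by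
            rw [hkk, hk0, hev]
            obtain ⟨N', rfl⟩ : ∃ N', N = N' + 1 := ⟨N - 1, by omega⟩
            exact ⟨2 ^ ev * w + 2 ^ N' * γ, by rw [pow_succ, pow_succ]; ring⟩
          exact_mod_cast this
        refine ⟨kk, hkev, mul_mem (hall _) (pow_mem ha kk), ?_⟩
        obtain ⟨t, ht⟩ := K.pow_c kk hkev h.r
        have hexp : h.a ^ (kk * 2 ^ h.r) = ι ((kk : ℤ) • h.m) := by
          rw [ι_zsmul, h.ι_m, ← zpow_mul, ← zpow_natCast, Nat.cast_mul, Nat.cast_pow, Nat.cast_ofNat, mul_comm]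
        rw [ht, hexp, ← ι_add]
        have e1 : (2 : ℤ) ^ h.r • h.c + (2 * t) • h.d + (kk : ℤ) • h.m =
            (t + 2 ^ ev * w * η) • h.d + (t + 2 ^ ev * w * η) • h.d := by
          rw [hkk, add_smul, hNz, add_zero, hmd, smul_sub, smul_smul, smul_smul,
            show k0 * (2 * K.j * η) = 2 ^ h.r + 2 ^ N * (2 ^ h.r * β) by
              rw [hk0, hjv]
              have hp : (2 : ℤ) ^ h.r = 2 * 2 ^ (h.r - 1 - v) * 2 ^ v := by
                rw [← pow_succ', ← pow_add]; congr 1; omega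
              linear_combination (2 * 2 ^ (h.r - 1 - v) * 2 ^ v : ℤ) * hw - (1 + 2 ^ N * β) * hp,
            add_smul, hNz, add_zero, show k0 * η = 2 * (2 ^ ev * w * η) by rw [hk0, hev, pow_succ]; ring]
          module
        rw [e1, ι_add]
        exact Subgroup.subset_closure ⟨_, ι_zsmul_mem hdH _, rfl⟩
    obtain ⟨k, hk, hkZ⟩ := hwit
    apply hbH
    refine hs.mem' h.isP (n := h.b) (Phi H ⊔ Subgroup.closure Z) le_sup_left
      (sup_le Phi_le ((Subgroup.closure_le _).2 hZH)) (autInv_sup_closure hZH ?_) (Z := Z) ?_ hZH ?_ hY hYH ?_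
    · rintro α v ⟨-, hv⟩
      refine ⟨(α v).2, ?_⟩
      have h1 := sqComm_autInv α (v ^ (2 ^ h.r)) (by simpa using hv)
      simpa using h1
    · rw [sup_le_iff]
      exact ⟨fun v hv => Subgroup.subset_closure (Or.inr hv), Subgroup.closure_mono Set.subset_union_left⟩
    · rintro v ⟨hvH, hv⟩
      obtain ⟨l, e, u, he, rfl⟩ := h.nf_nat v
      obtain ⟨rfl, hu⟩ := hnob l e u he hvH
      rw [pow_zero, mul_one] at hv ⊢
      have hl : Even l := by
        have heq : h.a ^ l * ι u = ι ((h.A ^ l) u) * h.a ^ l := by rw [← h.act_a_pow, ← mul_ι]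
        obtain ⟨s, hs'⟩ : ∃ s, h.r = s + 1 := ⟨h.r - 1, by omega⟩
        obtain ⟨z, hz⟩ := K.pow_two_pow ((h.A ^ l) u) l s (Nat.even_mul.2 (Or.inr ((Nat.even_pow).2 ⟨even_two, by omega⟩)))
        rw [← hs'] at hz
        have hexp : h.a ^ (l * 2 ^ h.r) = ι ((l : ℤ) • h.m) := by
          rw [ι_zsmul, h.ι_m, ← zpow_mul, ← zpow_natCast, Nat.cast_mul, Nat.cast_pow, Nat.cast_ofNat, mul_comm]
        rw [heq, hz, hexp, ← ι_add] at hv
        obtain ⟨y, hy⟩ := hsq _ hv
        have h1 := (K.ind 0 (l : ℤ) ⟨y - z, by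
          rw [zero_smul, zero_add, smul_sub, ← ι_inj hy]; abel⟩).2
        exact_mod_cast h1
      obtain ⟨l', rfl⟩ := hl
      rw [show ⁅h.b, h.a ^ (l' + l') * ι u⁆ =
        ⁅h.b, h.a ^ (l' + l')⁆ * (h.a ^ (l' + l') * ⁅h.b, ι u⁆ * (h.a ^ (l' + l'))⁻¹) by
          simp only [commutatorElement_def]; group]
      refine mul_mem ?_ (autInv_conj Phi_autInv (pow_mem ha _) ?_ ?_)
      · rw [K.comm_b_pow, K.S_eq, ι_neg, ι_add, Nat.cast_add, add_smul, ← two_zsmul]
        exact inv_mem (mul_mem (K.two_mem_Phi (hall _)) (zsmul_mem_Phi hdPhi _))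
      · rw [comm_ι_right, show act h.b = h.B from rfl, K.B_sub, ι_neg]
        exact inv_mem (K.two_mem_Phi (hall _))
      · rw [comm_ι_right]; exact hall _
    · have hcL : ι h.c ∈ Phi H ⊔ Subgroup.closure Z := by
        obtain ⟨k', rfl⟩ := hk
        rw [show ι h.c = (ι h.c * h.a ^ (k' + k')) * (h.a ^ k' * h.a ^ k')⁻¹ by rw [← pow_add]; group]
        exact mul_mem (Subgroup.mem_sup_right (Subgroup.subset_closure hkZ))
          (inv_mem (Subgroup.mem_sup_left (sq_mem_Phi h.isP (pow_mem ha _))))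
      rintro g (rfl | ⟨y, -, rfl⟩)
      · rw [← commutatorElement_inv, ← h.ι_c]; exact inv_mem hcL
      · rw [comm_ι_right, show act h.b = h.B from rfl, K.B_sub, ι_neg]
        exact inv_mem (Subgroup.mem_sup_left (K.two_mem_Phi (hall _)))
  · -- an element of the commutator subgroup outside `H`
    obtain ⟨i, rfl⟩ : ∃ i', i = i' + 1 := ⟨i - 1, by omega⟩
    have hwH : ι ((2 : ℤ) ^ i • h.c) ∉ H := fun hm' => by
      have := (hJ _).1 hm'
      rw [pow_succ] at this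
      have h2 := Int.le_of_dvd (by positivity) this
      have : (0 : ℤ) < 2 ^ i := by positivity
      omega
    set y : DP G := (2 : ℤ) ^ i • h.d with hy
    have hyH : ι y ∈ H := by
      rw [hy, K.hd, smul_add, smul_smul, smul_smul, ι_add]
      exact mul_mem ((hJ _).2 ⟨K.j, by rw [pow_succ]; ring⟩) (ι_zsmul_mem hm _)
    set Z : Set G := {v | v ∈ H ∧ v * v ∈ ⁅H, H⁆} with hZ
    have hZH : Z ⊆ H := fun v hv => hv.1
    apply hwH
    refine hs.mem' h.isP (Phi H ⊔ Subgroup.closure Z) le_sup_left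
      (sup_le Phi_le ((Subgroup.closure_le _).2 hZH)) (autInv_sup_closure hZH ?_) (Z := Z) ?_ hZH ?_ hY hYH ?_
    · rintro α v ⟨-, hv⟩
      exact ⟨(α v).2, by simpa using comm_autInv α (v * v) (by simpa using hv)⟩
    · rw [sup_le_iff]
      exact ⟨fun v hv => Subgroup.subset_closure (Or.inr hv), Subgroup.closure_mono Set.subset_union_left⟩
    · rintro v ⟨hvH, hv⟩
      obtain ⟨l, e, u, he, rfl⟩ := h.nf_nat v
      obtain ⟨rfl, hu⟩ := hnob l e u he hvH
      obtain ⟨l', hl'⟩ := h.even_of_sq_mem (g := h.a ^ l * h.b ^ 0 * ι u) rfl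
        (Subgroup.commutator_mono le_top le_top hv : _ ∈ ⁅(⊤ : Subgroup G), ⊤⁆)
      obtain ⟨t, ht⟩ := ee_even K.j (2 ^ (h.r - 2) * l')
      have hev : ee K.j l = 2 * (1 + K.j) * t := by
        rw [← ht, hl', ← mul_assoc, ← pow_succ', show h.r - 2 + 1 = h.r - 1 by omega]
      rw [pow_zero, mul_one, h.comm_ι_g0, ← neg_sub, K.A_pow_sub, map_zsmul, ι_neg, hev,
        show 2 * (1 + K.j) * t = (1 + K.j) * t * 2 by ring, mul_smul, ← show y = (2 : ℤ) ^ i • h.X h.c from rfl]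
      exact inv_mem (zsmul_mem_Phi (K.two_mem_Phi hyH) _)
    · rintro g (rfl | ⟨u, -, rfl⟩)
      · rw [comm_ι_left, show act h.a = h.A from rfl, ← neg_sub, ← h.X_apply, map_zsmul, ι_neg]
        refine inv_mem (Subgroup.mem_sup_right (Subgroup.subset_closure ⟨hyH, ?_⟩))
        have h1 := Subgroup.commutator_mem_commutator ha ((hJ (2 ^ (i + 1))).2 dvd_rfl)
        rw [comm_ι_right, show act h.a = h.A from rfl, ← h.X_apply, map_zsmul] at h1
        show ι y * ι y ∈ _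
        rw [← ι_add, ← two_zsmul, hy, smul_smul, ← pow_succ']
        exact h1
      · rw [comm_ι_left, act_ι]
        simp

/-- Data common to the cases with generator `a ^ (2 ^ e) b ^ ε`: then `H` contains no element of `b G'`. -/
theorem no_b_zero (hs : Stab H) {e : ℕ} (he : 1 ≤ e) (her : e < h.r) (u0 : DP G)
    (hg : h.a ^ 2 ^ e * ι u0 ∈ H)
    (hexp : ∀ (i f : ℕ) (x : DP G), h.a ^ i * h.b ^ f * ι x ∈ H → 2 ^ e ∣ i)
    (hgen : ∀ v ∈ H, ∃ l : ℕ, ∃ y : DP G, ι y ∈ H ∧ v = (h.a ^ 2 ^ e * ι u0) ^ l * ι y) : False := by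
  set g := h.a ^ 2 ^ e * ι u0 with hgdef
  set Y : Set G := {g} ∪ ι '' {y | ι y ∈ H} with hYdef
  have hY : H ≤ Subgroup.closure Y := fun v hv => by
    obtain ⟨l, y, hy, rfl⟩ := hgen v hv
    exact mul_mem (pow_mem (Subgroup.subset_closure (show g ∈ Y from Or.inl rfl)) l)
      (Subgroup.subset_closure (show ι y ∈ Y from Or.inr ⟨y, hy, rfl⟩))
  have hYH : Y ⊆ H := by rintro v (rfl | ⟨y, hy, rfl⟩) <;> assumption
  -- a square congruent to `m`
  obtain ⟨k, hk⟩ : ∃ k, h.r = e + (k + 1) := ⟨h.r - e - 1, by omega⟩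
  have heq : g = ι ((h.A ^ 2 ^ e) u0) * h.a ^ 2 ^ e := by rw [hgdef, ← h.act_a_pow, ← mul_ι]
  obtain ⟨z, hz⟩ := K.pow_two_pow ((h.A ^ 2 ^ e) u0) (2 ^ e) k
    (Nat.even_mul.2 (Or.inl ((Nat.even_pow).2 ⟨even_two, by omega⟩)))
  rw [← heq, ← pow_add, ← hk, ← zpow_natCast h.a, Nat.cast_pow, Nat.cast_ofNat, ← h.ι_m, ← ι_add] at hz
  set x0 := (2 : ℤ) • z + h.m with hx0
  have hx0Phi : ι x0 ∈ Phi H := by
    rw [← hz, pow_succ, pow_mul, pow_two]
    exact sq_mem_Phi h.isP (pow_mem hg _)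
  have hx0H : ι x0 ∈ H := Phi_le hx0Phi
  obtain ⟨N, hN1, hN, -⟩ := h.exists_pow_kill
  have hdecomp : ∀ x : DP G, ∃ k : ℤ, ∃ w, ι w ∈ H ∧ x = k • h.c + w := by
    let T : AddSubgroup (DP G) := AddSubgroup.zmultiples h.c ⊔ Jof H
    have hT : ∀ x, x ∈ T := h.mem_of_two T fun x => by
      obtain ⟨k, l, rfl⟩ := K.gen x
      exact ⟨k • h.c + l • x0, AddSubgroup.mem_sup.2 ⟨_, AddSubgroup.mem_zmultiples_iff.2 ⟨k, rfl⟩, _,
        ι_zsmul_mem hx0H l, rfl⟩, -(l • z), by rw [hx0, smul_add, smul_neg, smul_comm (2 : ℤ) l]; abel⟩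
    intro x
    obtain ⟨u, hu, w, hw, rfl⟩ := AddSubgroup.mem_sup.1 (hT x)
    obtain ⟨k, rfl⟩ := AddSubgroup.mem_zmultiples_iff.1 hu
    exact ⟨k, w, hw, rfl⟩
  obtain ⟨i, hi⟩ := exists_two_pow ((Jof H).comap (zmultiplesHom (DP G) h.c))
    (show ι (((2 : ℤ) ^ N) • h.c) ∈ H by rw [hN, ι_zero]; exact one_mem H)
  have hJ : ∀ k : ℤ, ι (k • h.c) ∈ H ↔ (2 : ℤ) ^ i ∣ k := hi
  have hd : h.d = (2 * K.j) • h.c + K.ε • x0 - (2 * K.ε) • z := by
    rw [hx0, K.hd, smul_add, smul_smul, mul_comm K.ε]; abel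
  rcases Nat.eq_zero_or_pos i with rfl | hipos
  · have hall : ∀ y : DP G, ι y ∈ H := fun y => by
      obtain ⟨k, w, hw, rfl⟩ := hdecomp y
      rw [ι_add]; exact mul_mem ((hJ k).2 (by simp)) hw
    have hdPhi : ι h.d ∈ Phi H := by
      rw [hd, ι_sub, ι_add, mul_smul, mul_smul]
      exact mul_mem (mul_mem (K.two_mem_Phi (hall _)) (zsmul_mem_Phi hx0Phi _)) (inv_mem (K.two_mem_Phi (hall _)))
    obtain ⟨e', rfl⟩ : ∃ e', e = e' + 1 := ⟨e - 1, by omega⟩
    have hn : h.a ^ 2 ^ e' ∈ H := by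
      refine hs.mem_of_central' h.isP hY hYH ?_
      rintro v (rfl | ⟨y, -, rfl⟩)
      · rw [hgdef, h.comm_pow_g0, K.A_pow_sub, map_zsmul, K.A_pow (2 ^ (e' + 1)) (h.X u0), ← map_zsmul h.X,
          ← map_add h.X]
        exact zsmul_mem_Phi (K.X_d_mem_Phi hdPhi _) _
      · rw [h.comm_pow_ι, K.A_pow_sub]
        exact zsmul_mem_Phi (K.X_d_mem_Phi hdPhi _) _
    have := hexp (2 ^ e') 0 0 (by simpa using hn)
    have h2 := Nat.le_of_dvd (by positivity) this
    rw [pow_succ] at h2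
    have : 0 < 2 ^ e' := by positivity
    omega
  · obtain ⟨i, rfl⟩ : ∃ i', i = i' + 1 := ⟨i - 1, by omega⟩
    have h2id : ι ((2 : ℤ) ^ (i + 1) • h.d) ∈ Phi H := by
      obtain ⟨μ, w, hw, hzw⟩ := hdecomp z
      have e1 : (2 : ℤ) ^ (i + 1) • h.d = (2 : ℤ) • (((K.j - K.ε * μ) * 2 ^ (i + 1)) • h.c) +
          (2 : ℤ) • (((2 : ℤ) ^ i) • (K.ε • x0 - (2 * K.ε) • w)) := by
        rw [hd, hzw]; module
      rw [e1, ι_add]
      refine mul_mem (K.two_mem_Phi ((hJ _).2 (dvd_mul_left _ _))) (K.two_mem_Phi (ι_zsmul_mem ?_ _))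
      rw [ι_sub]
      exact mul_mem (ι_zsmul_mem hx0H _) (inv_mem (ι_zsmul_mem hw _))
    have hn : ι ((2 : ℤ) ^ i • h.c) ∈ H := by
      refine hs.mem_of_central' h.isP hY hYH ?_
      rintro v (rfl | ⟨y, -, rfl⟩)
      · obtain ⟨t, ht⟩ := ee_even K.j (2 ^ (e - 1))
        rw [hgdef, h.comm_ι_g0, ← neg_sub, K.A_pow_sub, map_zsmul, show h.X h.c = h.d from rfl, ι_neg,
          show 2 ^ e = 2 * 2 ^ (e - 1) by rw [← pow_succ']; congr 1; omega, ht,
          show (2 * (1 + K.j) * t) = ((1 + K.j) * t) * 2 by ring, mul_smul, smul_smul (2 : ℤ), ← pow_succ']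
        exact inv_mem (zsmul_mem_Phi h2id _)
      · rw [comm_ι_left, act_ι]
        simp
    have h2 := Int.le_of_dvd (by positivity) ((hJ _).1 hn)
    rw [pow_succ] at h2
    have : (0 : ℤ) < 2 ^ i := by positivity
    omega

/-- The twisted case `a ^ (2 ^ e) b`, `e + 2 ≤ r`. -/
theorem no_b_one (hs : Stab H) {e : ℕ} (he : 1 ≤ e) (her : e + 2 ≤ h.r) (u0 : DP G)
    (hg : h.a ^ 2 ^ e * h.b * ι u0 ∈ H)
    (hexp : ∀ (i f : ℕ) (x : DP G), h.a ^ i * h.b ^ f * ι x ∈ H → 2 ^ e ∣ i)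
    (hgen : ∀ v ∈ H, ∃ l : ℕ, ∃ y : DP G, ι y ∈ H ∧ v = (h.a ^ 2 ^ e * h.b * ι u0) ^ l * ι y) : False := by
  set g := h.a ^ 2 ^ e * h.b * ι u0 with hgdef
  set Y : Set G := {g} ∪ ι '' {y | ι y ∈ H} with hYdef
  have hY : H ≤ Subgroup.closure Y := fun v hv => by
    obtain ⟨l, y, hy, rfl⟩ := hgen v hv
    exact mul_mem (pow_mem (Subgroup.subset_closure (show g ∈ Y from Or.inl rfl)) l)
      (Subgroup.subset_closure (show ι y ∈ Y from Or.inr ⟨y, hy, rfl⟩))
  have hYH : Y ⊆ H := by rintro v (rfl | ⟨y, hy, rfl⟩) <;> assumption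
  obtain ⟨t, ht⟩ := ee_even K.j (2 ^ (e - 1))
  rw [← pow_succ', Nat.sub_add_cancel he] at ht
  set τ := K.p - (1 + K.j) * t + 4 * K.p * K.j * (1 + K.j) * t with hτ
  let W : DP G → DP G := fun y => y - τ • h.X y
  have hWg : ∀ w : DP G, ⁅ι w, g⁆ = ι ((2 : ℤ) • W w) := by
    intro w
    rw [hgdef, h.comm_ι_g1, K.A_pow, ht, K.B_eq, map_add, map_neg, map_zsmul, K.XX]
    congr 1
    show _ = (2 : ℤ) • (w - τ • h.X w)
    rw [hτ]
    module
  -- elements squaring into `⁅H, H⁆` lie over `g²`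
  set Z : Set G := {v | v ∈ H ∧ v * v ∈ ⁅H, H⁆} with hZdef
  have hZH : Z ⊆ H := fun v hv => hv.1
  set Z' : Set G := ι '' {y | ι y ∈ H} with hZ'def
  have hZle : Phi H ⊔ Subgroup.closure Z ≤ Subgroup.closure (Z' ∪ Phi H) := by
    refine sup_le (fun v hv => Subgroup.subset_closure (Or.inr hv)) ((Subgroup.closure_le _).2 ?_)
    rintro v ⟨hvH, hv⟩
    obtain ⟨l, y, hy, rfl⟩ := hgen v hvH
    refine mul_mem ?_ (Subgroup.subset_closure (Or.inl ⟨y, hy, rfl⟩))
    have hl : Even l := by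
      by_contra hodd
      have hv' : (g ^ l * ι y) * (g ^ l * ι y) ∈ commutator G :=
        (Subgroup.commutator_mono le_top le_top hv : _ ∈ ⁅(⊤ : Subgroup G), ⊤⁆)
      have hcm : ∀ s t : G ⧸ commutator G, Commute s t := fun s t => by
        obtain ⟨s, rfl⟩ := QuotientGroup.mk_surjective s
        obtain ⟨t, rfl⟩ := QuotientGroup.mk_surjective t
        rw [← commutatorElement_eq_one_iff_commute]
        exact (QuotientGroup.eq_one_iff _).2
          (Subgroup.commutator_mem_commutator (Subgroup.mem_top s) (Subgroup.mem_top t))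
      rw [Pre.mem_commutator_iff] at hv'
      simp only [hgdef, QuotientGroup.mk_mul, QuotientGroup.mk_pow, (QuotientGroup.eq_one_iff (ι _)).2 (ι_mem _),
        mul_one] at hv'
      rw [← pow_add, ← two_mul, (hcm _ _).mul_pow, ← pow_mul, pow_mul _ 2 l, pow_two (h.b : G ⧸ commutator G),
        ← QuotientGroup.mk_mul, (QuotientGroup.eq_one_iff _).2 h.b_sq_mem, one_pow, mul_one] at hv'
      have hdvd := orderOf_dvd_iff_pow_eq_one.2 hv'
      rw [h.orderOf_a, show h.r = e + 1 + (h.r - e - 1) by omega, pow_add, show 2 ^ e * (2 * l) = 2 ^ (e + 1) * l by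
        rw [pow_succ]; ring] at hdvd
      have h3 := Nat.dvd_of_mul_dvd_mul_left (by positivity) hdvd
      exact hodd ((even_iff_two_dvd).2 ((dvd_pow_self 2 (by omega)).trans h3))
    obtain ⟨l', rfl⟩ := hl
    rw [pow_add]
    exact Subgroup.subset_closure (Or.inr (sq_mem_Phi h.isP (pow_mem hg _)))
  have hinv : AutInv H (Phi H ⊔ Subgroup.closure Z) := by
    refine autInv_sup_closure hZH ?_
    rintro α v ⟨-, hv⟩
    exact ⟨(α v).2, by simpa using comm_autInv α (v * v) (by simpa using hv)⟩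
  have hLH : Phi H ⊔ Subgroup.closure Z ≤ H := sup_le Phi_le ((Subgroup.closure_le _).2 hZH)
  have hZ'H : Z' ⊆ H := by rintro _ ⟨y, hy, rfl⟩; exact hy
  have hWZ : ∀ w, ι w ∈ H → ι (W w) ∈ H → ι (W w) ∈ Z := fun w hw hWw => by
    refine ⟨hWw, ?_⟩
    rw [← ι_add, ← two_zsmul, ← hWg]
    exact Subgroup.commutator_mem_commutator hw hg
  obtain ⟨N, hN1, hN, -⟩ := h.exists_pow_kill
  -- a square congruent to `m`
  obtain ⟨k, hk⟩ : ∃ k, h.r = e + 1 + (k + 1) := ⟨h.r - e - 2, by omega⟩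
  obtain ⟨u1, hu1⟩ : ∃ u1 : DP G, g * g = h.a ^ 2 ^ (e + 1) * ι u1 := by
    have hsq : (h.a ^ 2 ^ (e + 1))⁻¹ * (g * g) ∈ commutator G := by
      have hcm : ∀ s t : G ⧸ commutator G, Commute s t := fun s t => by
        obtain ⟨s, rfl⟩ := QuotientGroup.mk_surjective s
        obtain ⟨t, rfl⟩ := QuotientGroup.mk_surjective t
        rw [← commutatorElement_eq_one_iff_commute]
        exact (QuotientGroup.eq_one_iff _).2
          (Subgroup.commutator_mem_commutator (Subgroup.mem_top s) (Subgroup.mem_top t))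
      rw [Pre.mem_commutator_iff]
      simp only [hgdef, QuotientGroup.mk_mul, QuotientGroup.mk_inv, QuotientGroup.mk_pow,
        (QuotientGroup.eq_one_iff (ι _)).2 (ι_mem _), mul_one]
      rw [(hcm _ _).mul_mul_mul_comm, ← QuotientGroup.mk_mul, (QuotientGroup.eq_one_iff _).2 h.b_sq_mem, mul_one,
        ← pow_add, ← two_mul, ← pow_succ', inv_mul_cancel]
    obtain ⟨u1, hu1⟩ := exists_ι hsq
    exact ⟨u1, by rw [hu1]; group⟩
  have heq : g * g = ι ((h.A ^ 2 ^ (e + 1)) u1) * h.a ^ 2 ^ (e + 1) := by rw [hu1, ← h.act_a_pow, ← mul_ι]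
  obtain ⟨z, hz⟩ := K.pow_two_pow ((h.A ^ 2 ^ (e + 1)) u1) (2 ^ (e + 1)) k
    (Nat.even_mul.2 (Or.inl ((Nat.even_pow).2 ⟨even_two, by omega⟩)))
  rw [← heq, ← pow_add, ← hk, ← zpow_natCast h.a, Nat.cast_pow, Nat.cast_ofNat, ← h.ι_m, ← ι_add] at hz
  set x0 := (2 : ℤ) • z + h.m with hx0
  have hx0Phi : ι x0 ∈ Phi H := by
    rw [← hz, pow_succ, pow_mul, pow_two]
    exact sq_mem_Phi h.isP (pow_mem (mul_mem hg hg) _)
  have hx0H : ι x0 ∈ H := Phi_le hx0Phi
  have hdecomp : ∀ x : DP G, ∃ k : ℤ, ∃ w, ι w ∈ H ∧ x = k • h.c + w := by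
    let T : AddSubgroup (DP G) := AddSubgroup.zmultiples h.c ⊔ Jof H
    have hT : ∀ x, x ∈ T := h.mem_of_two T fun x => by
      obtain ⟨k, l, rfl⟩ := K.gen x
      exact ⟨k • h.c + l • x0, AddSubgroup.mem_sup.2 ⟨_, AddSubgroup.mem_zmultiples_iff.2 ⟨k, rfl⟩, _,
        ι_zsmul_mem hx0H l, rfl⟩, -(l • z), by rw [hx0, smul_add, smul_neg, smul_comm (2 : ℤ) l]; abel⟩
    intro x
    obtain ⟨u, hu, w, hw, rfl⟩ := AddSubgroup.mem_sup.1 (hT x)
    obtain ⟨k, rfl⟩ := AddSubgroup.mem_zmultiples_iff.1 hu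
    exact ⟨k, w, hw, rfl⟩
  obtain ⟨i, hi⟩ := exists_two_pow ((Jof H).comap (zmultiplesHom (DP G) h.c))
    (show ι (((2 : ℤ) ^ N) • h.c) ∈ H by rw [hN, ι_zero]; exact one_mem H)
  have hJ : ∀ k : ℤ, ι (k • h.c) ∈ H ↔ (2 : ℤ) ^ i ∣ k := hi
  have hd : h.d = (2 * K.j) • h.c + K.ε • x0 - (2 * K.ε) • z := by
    rw [hx0, K.hd, smul_add, smul_smul, mul_comm K.ε]; abel
  rcases Nat.eq_zero_or_pos i with rfl | hipos
  · have hall : ∀ y : DP G, ι y ∈ H := fun y => by
      obtain ⟨k, w, hw, rfl⟩ := hdecomp y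
      rw [ι_add]; exact mul_mem ((hJ k).2 (by simp)) hw
    have hdPhi : ι h.d ∈ Phi H := by
      rw [hd, ι_sub, ι_add, mul_smul, mul_smul]
      exact mul_mem (mul_mem (K.two_mem_Phi (hall _)) (zsmul_mem_Phi hx0Phi _)) (inv_mem (K.two_mem_Phi (hall _)))
    have hWinj : Function.Injective W := by
      intro x y hxy
      rw [← sub_eq_zero]
      refine K.eq_zero_of_fix (k := τ) ?_
      simp only [W] at hxy
      rw [map_sub, smul_sub]
      calc x - y = (x - τ • h.X x) - y + τ • h.X x := by abel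
        _ = _ := by rw [hxy]; abel
    have hML : ∀ y : DP G, ι y ∈ Phi H ⊔ Subgroup.closure Z := fun y => by
      obtain ⟨w, rfl⟩ := Finite.injective_iff_surjective.1 hWinj y
      exact Subgroup.mem_sup_right (Subgroup.subset_closure (hWZ w (hall w) (hall _)))
    obtain ⟨e', rfl⟩ : ∃ e', e = e' + 1 := ⟨e - 1, by omega⟩
    have hn : h.a ^ 2 ^ e' ∈ H := by
      refine hs.mem' h.isP _ le_sup_left hLH hinv hZle hZ'H ?_ hY hYH ?_
      · rintro _ ⟨y, -, rfl⟩
        rw [h.comm_pow_ι, K.A_pow_sub]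
        exact zsmul_mem_Phi (K.X_d_mem_Phi hdPhi _) _
      · rintro v (rfl | ⟨y, -, rfl⟩)
        · rw [hgdef, h.comm_pow_g1]; exact hML _
        · rw [h.comm_pow_ι]; exact hML _
    have := hexp (2 ^ e') 0 0 (by simpa using hn)
    have h2 := Nat.le_of_dvd (by positivity) this
    rw [pow_succ] at h2
    have : 0 < 2 ^ e' := by positivity
    omega
  · obtain ⟨i, rfl⟩ : ∃ i', i = i' + 1 := ⟨i - 1, by omega⟩
    have h2id : ι ((2 : ℤ) ^ (i + 1) • h.d) ∈ H := by
      obtain ⟨μ, w, hw, hzw⟩ := hdecomp z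
      have e1 : (2 : ℤ) ^ (i + 1) • h.d = (2 * (K.j - K.ε * μ) * 2 ^ (i + 1)) • h.c +
          (2 : ℤ) ^ (i + 1) • (K.ε • x0 - (2 * K.ε) • w) := by
        rw [hd, hzw]; module
      rw [e1, ι_add]
      refine mul_mem ((hJ _).2 (dvd_mul_left _ _)) (ι_zsmul_mem ?_ _)
      rw [ι_sub]
      exact mul_mem (ι_zsmul_mem hx0H _) (inv_mem (ι_zsmul_mem hw _))
    have hn : ι ((2 : ℤ) ^ i • h.c) ∈ H := by
      refine hs.mem' h.isP _ le_sup_left hLH hinv hZle hZ'H ?_ hY hYH ?_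
      · rintro _ ⟨y, -, rfl⟩
        rw [comm_ι_left, act_ι]
        simp
      · rintro v (rfl | ⟨y, -, rfl⟩)
        · rw [hWg]
          have e2 : (2 : ℤ) • W ((2 : ℤ) ^ i • h.c) = W ((2 : ℤ) ^ (i + 1) • h.c) := by
            simp only [W, map_zsmul, pow_succ]
            module
          rw [e2]
          refine Subgroup.mem_sup_right (Subgroup.subset_closure (hWZ _ ((hJ _).2 dvd_rfl) ?_))
          simp only [W, map_zsmul]
          rw [ι_sub]
          exact mul_mem ((hJ _).2 dvd_rfl) (inv_mem (ι_zsmul_mem h2id τ))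
        · rw [comm_ι_left, act_ι]
          simp
    have h2 := Int.le_of_dvd (by positivity) ((hJ _).1 hn)
    rw [pow_succ] at h2
    have : (0 : ℤ) < 2 ^ i := by positivity
    omega

end Coord

end CfsgLib.Fsys.Bicyclic
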