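import Cfsg.Agent.Lib.FusionSystem.Bicyclic.EssA

/-!
Non-cyclic commutator subgroup: candidates containing `b` and `a² ι u`.
-/

set_option autoImplicit false
set_option linter.style.haveILetI false
set_option linter.unusedSectionVars false

open scoped commutatorElement IsMulCommutative

namespace CfsgLib.Fsys.Bicyclic

variable {G : Type*} [Group G] [Finite G] [IsMulCommutative ↥(commutator G)]

/-- The commutator of two elements, as an element of `P`. -/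
def cm (x v : G) : DP G := toDP (g := ⁅x, v⁆)
  (Subgroup.commutator_mem_commutator (Subgroup.mem_top x) (Subgroup.mem_top v))

theorem ι_cm (x v : G) : ι (cm x v) = ⁅x, v⁆ := rfl

theorem cm_mul (x v v' : G) : cm x (v * v') = cm x v + act v (cm x v') := by
  refine ι_inj ?_
  rw [ι_add, ι_act, ι_cm, ι_cm, ι_cm, commutatorElement_def, commutatorElement_def, commutatorElement_def]
  group

theorem cm_symm (x v : G) : cm v x = -cm x v := ι_inj (by rw [ι_neg, ι_cm, ι_cm, commutatorElement_inv])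

theorem cm_one (x : G) : cm x 1 = 0 := ι_inj (by rw [ι_cm, ι_zero, commutatorElement_one_right])

namespace Coord

variable {h : Pre G} (K : Coord h) {H : Subgroup G}
include K

/-- The case of an element over `a²` and `b ∈ H`. -/
theorem b_exp_one (hs : Stab H) (hb : h.b ∈ H) (u0 : DP G) (hg : h.a ^ 2 * ι u0 ∈ H)
    (hexp : ∀ (i f : ℕ) (x : DP G), h.a ^ i * h.b ^ f * ι x ∈ H → 2 ∣ i)
    (hgen : ∀ v ∈ H, ∃ l f : ℕ, ∃ y : DP G, f ≤ 1 ∧ ι y ∈ H ∧ v = (h.a ^ 2 * ι u0) ^ l * h.b ^ f * ι y) :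
    False := by
  set g := h.a ^ 2 * ι u0 with hgdef
  have hr := h.two_le_r
  have hactg : act g = h.A ^ 2 := by rw [hgdef, map_mul, act_ι, mul_one, h.act_a_pow]
  -- a square congruent to `m`
  obtain ⟨k, hk⟩ : ∃ k, h.r = 1 + (k + 1) := ⟨h.r - 2, by omega⟩
  have heq : g = ι ((h.A ^ 2) u0) * h.a ^ 2 := by rw [hgdef, ← h.act_a_pow, ← mul_ι]
  obtain ⟨z, hz⟩ := K.pow_two_pow ((h.A ^ 2) u0) 2 k (Nat.even_mul.2 (Or.inl even_two))
  rw [← heq, show 2 * 2 ^ (k + 1) = 2 ^ h.r by rw [hk, pow_add 2 1, pow_one], ← zpow_natCast h.a, Nat.cast_pow,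
    Nat.cast_ofNat, ← h.ι_m, ← ι_add] at hz
  set x0 := (2 : ℤ) • z + h.m with hx0
  have hx0Phi : ι x0 ∈ Phi H := by
    rw [← hz, pow_succ, pow_mul, pow_two]
    exact sq_mem_Phi h.isP (pow_mem hg _)
  have hx0H : ι x0 ∈ H := Phi_le hx0Phi
  have hgx0 : (h.A ^ 2) x0 = x0 := by
    refine ι_inj ?_
    rw [← hactg, ι_act, ← hz]
    group
  obtain ⟨N, hN1, hN, -⟩ := h.exists_pow_kill
  have hdecomp : ∀ x : DP G, ∃ k : ℤ, ∃ w, ι w ∈ H ∧ x = k • h.c + w := by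
    let T : AddSubgroup (DP G) := AddSubgroup.zmultiples h.c ⊔ Jof H
    have hT : ∀ x, x ∈ T := h.mem_of_two T fun x => by
      obtain ⟨k, l, rfl⟩ := K.gen x
      exact ⟨k • h.c + l • x0, AddSubgroup.mem_sup.2 ⟨_, AddSubgroup.mem_zmultiples_iff.2 ⟨k, rfl⟩, _,
        ι_zsmul_mem hx0H l, rfl⟩, -(l • z), by rw [hx0, smul_add, smul_neg, smul_comm (2 : ℤ) l]; abel⟩
    intro x
    obtain ⟨u, hu, w, hw, rfl⟩ := AddSubgroup.mem_sup.1 (hT x)
    obtain ⟨k, rfl⟩ := AddSubgroup.mem_zmultiples_iff.1 hu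
    exact ⟨k, w, hw, rfl⟩
  obtain ⟨i, hi⟩ := exists_two_pow ((Jof H).comap (zmultiplesHom (DP G) h.c))
    (show ι (((2 : ℤ) ^ N) • h.c) ∈ H by rw [hN, ι_zero]; exact one_mem H)
  have hJ : ∀ k : ℤ, ι (k • h.c) ∈ H ↔ (2 : ℤ) ^ i ∣ k := hi
  have hd : h.d = (2 * K.j) • h.c + K.ε • x0 - (2 * K.ε) • z := by
    rw [hx0, K.hd, smul_add, smul_smul, mul_comm K.ε]; abel
  obtain ⟨μ, w1, hw1, hzw⟩ := hdecomp z
  -- elements of `H` in the commutator subgroup
  set w := (2 : ℤ) ^ i • h.c with hw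
  have hwH : ι w ∈ H := (hJ _).2 dvd_rfl
  have hJgen : ∀ y, ι y ∈ H → ∃ k l : ℤ, y = k • w + (l • x0 + (2 : ℤ) • ((-l) • w1)) := by
    intro y hy
    obtain ⟨k, l, rfl⟩ := K.gen y
    have e1 : k • h.c + l • h.m = (k - 2 * l * μ) • h.c + (l • x0 + (2 : ℤ) • ((-l) • w1)) := by
      rw [hx0, hzw]; module
    obtain ⟨t, ht⟩ := (hJ (k - 2 * l * μ)).1 (by
      rw [show (k - 2 * l * μ) • h.c = (k • h.c + l • h.m) - (l • x0 + (2 : ℤ) • ((-l) • w1)) by rw [e1]; abel,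
        ι_sub, ι_add (l • x0)]
      exact mul_mem hy (inv_mem (mul_mem (ι_zsmul_mem hx0H l) (ι_zsmul_mem (ι_zsmul_mem hw1 _) _))))
    exact ⟨t, l, by rw [e1, hw, ht, mul_comm ((2 : ℤ) ^ i) t, mul_smul]⟩
  have h2id : ι ((2 : ℤ) ^ i • h.d) ∈ Phi H := by
    have e1 : (2 : ℤ) ^ i • h.d = (2 : ℤ) • ((K.j - K.ε * μ) • w) +
        ((2 : ℤ) ^ i * K.ε) • x0 + (2 : ℤ) • ((-(2 ^ i * K.ε)) • w1) := by
      rw [hd, hzw, hw]; module
    rw [e1, ι_add, ι_add]
    exact mul_mem (mul_mem (K.two_mem_Phi (ι_zsmul_mem hwH _)) (zsmul_mem_Phi hx0Phi _))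
      (K.two_mem_Phi (ι_zsmul_mem hw1 _))
  -- the mover
  obtain ⟨n, hnH, hng, hnb, hnw⟩ : ∃ n : G, n ∉ H ∧ ⁅n, g⁆ ∈ Phi H ∧
      (∃ v, v ∈ Phi H ∧ ⁅n, h.b⁆ = ι w * v) ∧ ∀ y : DP G, ι y ∈ H → ⁅n, ι y⁆ ∈ Phi H := by
    rcases Nat.eq_zero_or_pos i with hi0 | hipos
    · have hdPhi : ι h.d ∈ Phi H := by simpa [hi0] using h2id
      refine ⟨h.a, fun ha => ?_, ?_, ⟨1, one_mem _, ?_⟩, fun y _ => ?_⟩
      · have := hexp 1 0 0 (by simpa using ha)
        omega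
      · rw [hgdef, show h.a = h.a ^ 1 by rw [pow_one], ← pow_mul, h.comm_pow_g0, K.A_pow_sub, map_zsmul,
          K.A_pow (1 * 2) (h.X u0), ← map_zsmul h.X, ← map_add h.X]
        exact zsmul_mem_Phi (K.X_d_mem_Phi hdPhi _) _
      · rw [mul_one, hw, hi0, pow_zero, one_smul, h.ι_c]
      · rw [comm_ι_right, show act h.a = h.A from rfl, ← h.X_apply]
        exact K.X_d_mem_Phi hdPhi _
    · obtain ⟨i', rfl⟩ : ∃ i', i = i' + 1 := ⟨i - 1, by omega⟩
      refine ⟨ι ((2 : ℤ) ^ i' • h.c), fun hn => ?_, ?_, ⟨ι ((-K.p) • ((2 : ℤ) ^ (i' + 1) • h.d)), ?_, ?_⟩,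
        fun y _ => ?_⟩
      · have h2 := Int.le_of_dvd (by positivity) ((hJ _).1 hn)
        rw [pow_succ] at h2
        have : (0 : ℤ) < 2 ^ i' := by positivity
        omega
      · rw [hgdef, h.comm_ι_g0, ← neg_sub, K.A_pow_sub, map_zsmul, show h.X h.c = h.d from rfl, ι_neg,
          show ee K.j 2 = (1 + K.j) * 2 by simp [ee]; ring, mul_smul, smul_smul (2 : ℤ), ← pow_succ']
        exact inv_mem (zsmul_mem_Phi h2id _)
      · exact zsmul_mem_Phi h2id _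
      · rw [comm_ι_left, show act h.b = h.B from rfl, ← neg_sub, K.B_sub, neg_neg, U, map_zsmul,
          show h.X h.c = h.d from rfl, ← ι_add, hw]
        congr 1
        rw [pow_succ]; module
      · rw [comm_ι_left, act_ι]
        simp
  have hwPhi : ι w ∉ Phi H := by
    intro hwP
    obtain ⟨v, hv, hvb⟩ := hnb
    refine hnH (hs.mem_of_central' h.isP (Y := (H : Set G)) Subgroup.subset_closure subset_rfl fun x hx => ?_)
    -- the elements with commutator in the Frattini subgroup form a subgroup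
    have key : ∀ a' b' : G, a' ∈ H → ⁅n, a'⁆ ∈ Phi H → ⁅n, b'⁆ ∈ Phi H → ⁅n, a' * b'⁆ ∈ Phi H := by
      intro a' b' ha' h1 h2
      rw [show ⁅n, a' * b'⁆ = ⁅n, a'⁆ * (a' * ⁅n, b'⁆ * a'⁻¹) by simp only [commutatorElement_def]; group]
      exact mul_mem h1 (autInv_conj Phi_autInv ha' h2 (Phi_le h2))
    obtain ⟨l, f, y, hf, hy, rfl⟩ := hgen x hx
    have hpow : ∀ l : ℕ, ⁅n, g ^ l⁆ ∈ Phi H := fun l => by
      induction l with
      | zero => simp
      | succ l ih => rw [pow_succ]; exact key _ _ (pow_mem hg l) ih hng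
    refine key _ _ (mul_mem (pow_mem hg l) (pow_mem hb f)) (key _ _ (pow_mem hg l) (hpow l) ?_) (hnw y hy)
    interval_cases f
    · simp
    · rw [pow_one, hvb]; exact mul_mem hwP hv
  -- commutators modulo `[[H, H], H] [H, H]²`
  set ZK : Set G := {v | ∃ u ∈ ⁅H, H⁆, ∃ v' ∈ H, v = ⁅u, v'⁆} ∪ {v | ∃ u ∈ ⁅H, H⁆, v = u * u} with hZK
  set KK := Subgroup.closure ZK with hKKdef
  have hHH : ⁅H, H⁆ ≤ H := Subgroup.commutator_le.2 fun x hx y hy => by
    rw [commutatorElement_def]; exact mul_mem (mul_mem (mul_mem hx hy) (inv_mem hx)) (inv_mem hy)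
  have hZKH : ZK ⊆ H := by
    rintro v (⟨u, hu, v', hv', rfl⟩ | ⟨u, hu, rfl⟩)
    · exact hHH (Subgroup.commutator_mem_commutator (hHH hu) hv')
    · exact mul_mem (hHH hu) (hHH hu)
  have hKKH : KK ≤ H := (Subgroup.closure_le _).2 hZKH
  have hKKinv : AutInv H KK := by
    refine autInv_closure hZKH ?_
    rintro α ⟨v, hvH⟩ (⟨u, hu, v', hv', rfl⟩ | ⟨u, hu, rfl⟩)
    · refine Or.inl ⟨_, comm_autInv α ⟨u, hHH hu⟩ hu, _, (α ⟨v', hv'⟩).2, ?_⟩
      rw [show (⟨⁅u, v'⁆, hvH⟩ : H) = ⁅(⟨u, hHH hu⟩ : H), ⟨v', hv'⟩⁆ from rfl, map_commutatorElement]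
      rfl
    · refine Or.inr ⟨_, comm_autInv α ⟨u, hHH hu⟩ hu, ?_⟩
      rw [show (⟨u * u, hvH⟩ : H) = ⟨u, hHH hu⟩ * ⟨u, hHH hu⟩ from rfl, map_mul]
      rfl
  set K' : AddSubgroup (DP G) := Jof KK with hK'
  have hact : ∀ v ∈ H, ∀ y : DP G, ∃ t : DP G, act v y - y = (2 : ℤ) • t := by
    intro v hv
    obtain ⟨l, f, y', hf, -, rfl⟩ := hgen v hv
    have hmul : ∀ a' b' : G, (∀ y : DP G, ∃ t : DP G, act a' y - y = (2 : ℤ) • t) →
        (∀ y : DP G, ∃ t : DP G, act b' y - y = (2 : ℤ) • t) →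
        ∀ y : DP G, ∃ t : DP G, act (a' * b') y - y = (2 : ℤ) • t := by
      intro a' b' h1 h2 y
      obtain ⟨t1, ht1⟩ := h1 (act b' y)
      obtain ⟨t2, ht2⟩ := h2 y
      exact ⟨t1 + t2, by rw [smul_add, ← ht1, ← ht2, map_mul]; simp⟩
    have h1 : ∀ y : DP G, ∃ t : DP G, act g y - y = (2 : ℤ) • t := fun y =>
      ⟨(1 + K.j) • h.X y, by rw [hactg, K.A_pow_sub, smul_smul]; congr 1; simp [ee]; ring⟩
    have hl : ∀ l : ℕ, ∀ y : DP G, ∃ t : DP G, act (g ^ l) y - y = (2 : ℤ) • t := fun l => by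
      induction l with
      | zero => exact fun y => ⟨0, by simp⟩
      | succ l ih => rw [pow_succ]; exact hmul _ _ ih h1
    refine hmul _ _ (hmul _ _ (hl l) ?_) fun y => ⟨0, by simp [act_ι]⟩
    interval_cases f
    · exact fun y => ⟨0, by simp⟩
    · exact fun y => ⟨-K.U y, by rw [pow_one, show act h.b = h.B from rfl, K.B_sub, smul_neg]⟩
  have hK2 : ∀ y ∈ K', ∃ t : DP G, y = (2 : ℤ) • t := by
    intro y hy
    have hsub : ∀ v ∈ KK, ∃ t : DP G, v = ι ((2 : ℤ) • t) := by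
      intro v hv
      induction hv using Subgroup.closure_induction with
      | mem v hv =>
        rcases hv with ⟨u, hu, v', hv', rfl⟩ | ⟨u, hu, rfl⟩
        · obtain ⟨y, rfl⟩ := exists_ι (Subgroup.commutator_mono le_top le_top hu : u ∈ ⁅(⊤ : Subgroup G), ⊤⁆)
          obtain ⟨t, ht⟩ := hact v' hv' y
          exact ⟨-t, by rw [comm_ι_left, ← neg_sub, ht, smul_neg]⟩
        · obtain ⟨y, rfl⟩ := exists_ι (Subgroup.commutator_mono le_top le_top hu : u ∈ ⁅(⊤ : Subgroup G), ⊤⁆)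
          exact ⟨y, by rw [two_zsmul, ι_add]⟩
      | one => exact ⟨0, by rw [smul_zero, ι_zero]⟩
      | mul x y _ _ hx hy =>
        obtain ⟨u, rfl⟩ := hx
        obtain ⟨u', rfl⟩ := hy
        exact ⟨u + u', by rw [smul_add, ι_add ((2 : ℤ) • u)]⟩
      | inv x _ hx =>
        obtain ⟨u, rfl⟩ := hx
        exact ⟨-u, by rw [smul_neg, ι_neg]⟩
    obtain ⟨t, ht⟩ := hsub _ hy
    exact ⟨t, ι_inj ht⟩
  have hgen2 : ∀ u : DP G, ι u ∈ ⁅H, H⁆ → (2 : ℤ) • u ∈ K' := fun u hu => by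
    show ι ((2 : ℤ) • u) ∈ KK
    rw [two_zsmul, ι_add]
    exact Subgroup.subset_closure (Or.inr ⟨_, hu, rfl⟩)
  have hgenc : ∀ u : DP G, ι u ∈ ⁅H, H⁆ → ∀ v ∈ H, act v u - u ∈ K' := fun u hu v hv => by
    rw [← neg_sub]
    refine K'.neg_mem ?_
    show ι (u - act v u) ∈ KK
    rw [← comm_ι_left]
    exact Subgroup.subset_closure (Or.inl ⟨_, hu, v, hv, rfl⟩)
  have hcmH : ∀ x ∈ H, ∀ v ∈ H, ι (cm x v) ∈ ⁅H, H⁆ := fun x hx v hv => by
    rw [ι_cm]; exact Subgroup.commutator_mem_commutator hx hv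
  have hcls : ∀ x ∈ H, ∀ (l f : ℕ) (y : DP G), ι y ∈ H → f ≤ 1 →
      cm x (g ^ l * h.b ^ f * ι y) - ((l : ℤ) • cm x g + (f : ℤ) • cm x h.b + cm x (ι y)) ∈ K' := by
    intro x hx l f y hy hf
    have step : ∀ v ∈ H, ∀ v' ∈ H, cm x (v * v') - (cm x v + cm x v') ∈ K' := fun v hv v' hv' => by
      rw [cm_mul, show cm x v + act v (cm x v') - (cm x v + cm x v') = act v (cm x v') - cm x v' by abel]
      exact hgenc _ (hcmH x hx v' hv') v hv
    have hl : ∀ l : ℕ, cm x (g ^ l) - (l : ℤ) • cm x g ∈ K' := fun l => by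
      induction l with
      | zero => simp [cm_one, K'.zero_mem]
      | succ l ih =>
        have := K'.add_mem (step _ (pow_mem hg l) _ hg) ih
        rw [pow_succ, Nat.cast_succ, add_smul, one_smul]
        convert this using 1; abel
    have hf' : cm x (h.b ^ f) - (f : ℤ) • cm x h.b ∈ K' := by
      interval_cases f <;> simp [cm_one, K'.zero_mem]
    have h3 := K'.add_mem (K'.add_mem (step _ (mul_mem (pow_mem hg l) (pow_mem hb f)) _ hy)
      (step _ (pow_mem hg l) _ (pow_mem hb f))) (K'.add_mem (hl l) hf')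
    convert h3 using 1; abel
  -- the commutator of `g` and `b`
  set u := cm g h.b with hu
  obtain ⟨k', l', hy1⟩ := K.gen ((h.A ^ 2) (K.U u0) + h.c)
  obtain ⟨η, α, hη⟩ : ∃ η α : ℤ, K.ε * η = 1 + 2 ^ N * α := by
    have hcop : IsCoprime K.ε ((2 : ℤ) ^ N) := by
      refine IsCoprime.pow_right ?_
      obtain ⟨w', hw'⟩ := K.odd
      exact ⟨1, -w', by rw [hw']; ring⟩
    obtain ⟨a', b', hab⟩ := hcop
    exact ⟨a', -b', by linear_combination hab⟩
  have hNz : ∀ (z : ℤ) (y : DP G), (2 ^ N * z) • y = 0 := fun z y => by rw [mul_smul, hN]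
  have hmd : h.m = η • h.d - (2 * K.j * η) • h.c := by
    rw [K.hd, smul_add, smul_smul, smul_smul, mul_comm η K.ε, hη, add_smul, one_smul, hNz, add_zero, mul_comm η]
    abel
  set τ := 1 + 2 * l' * η with hτ
  set β := k' - 2 * K.j * η * l' with hβ
  have hueq : u = τ • h.d + (2 * β) • h.c := by
    have e0 : u = (2 : ℤ) • ((h.A ^ 2) (K.U u0) + h.c) + h.d := by
      refine ι_inj ?_
      rw [ι_cm, hgdef, show ⁅h.a ^ 2 * ι u0, h.b⁆ = h.a ^ 2 * ⁅ι u0, h.b⁆ * (h.a ^ 2)⁻¹ * ⁅h.a ^ 2, h.b⁆ by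
        simp only [commutatorElement_def]; group, comm_ι_left, ← ι_act, h.act_a_pow, h.comm_a_pow_b, ← ι_add,
        K.S_eq, Coord.kap_two, show act h.b = h.B from rfl, ← neg_sub, K.B_sub, neg_neg, map_zsmul]
      congr 1
      push_cast
      module
    rw [e0, hy1, hmd, hτ, hβ]
    module
  have hu2 : ∀ t : DP G, u ≠ (2 : ℤ) • t := by
    intro t ht
    have := (K.ind (2 * K.j * τ + 2 * β) (τ * K.ε) ⟨t, by
      rw [← ht, hueq, K.hd]; module⟩).2
    rcases Int.even_mul.1 this with h1 | h1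
    · rw [hτ] at h1; obtain ⟨t', ht'⟩ := h1
      rw [show 2 * l' * η = 2 * (l' * η) by ring] at ht'
      omega
    · exact Int.not_even_iff_odd.2 K.odd h1
  -- `2 ^ (i+1) d` lies in `K'`
  have hwb : cm (ι w) h.b = (2 : ℤ) • K.U w := by
    refine ι_inj ?_
    rw [ι_cm, comm_ι_left, show act h.b = h.B from rfl, ← neg_sub, K.B_sub, neg_neg]
  have h4d : (2 : ℤ) ^ (i + 1) • h.d ∈ K' := by
    have hq1 : (2 : ℤ) • K.U ((2 : ℤ) • K.U w) ∈ K' := by
      have h1 := hgenc _ (hwb ▸ hcmH (ι w) hwH h.b hb) h.b hb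
      rw [show act h.b = h.B from rfl, K.B_sub] at h1
      simpa using K'.neg_mem h1
    have hq2 : (2 : ℤ) • u ∈ K' := hgen2 u (hcmH g hg h.b hb)
    set ξ := -K.p + K.p * K.p * K.j with hξ
    have e4 : (2 : ℤ) • K.U ((2 : ℤ) • K.U w) = (4 : ℤ) • w + (ξ * 2 ^ (i + 3)) • h.d := by
      rw [hw, U, U]
      simp only [map_zsmul, map_sub, K.XX]
      rw [show h.X h.c = h.d from rfl, hξ, pow_add]
      module
    have h4w : (τ - 4 * ξ * β) • ((4 : ℤ) • w) ∈ K' := by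
      have h1 := K'.sub_mem (K'.zsmul_mem hq1 τ) (K'.zsmul_mem hq2 (ξ * 2 ^ (i + 2)))
      convert h1 using 1
      rw [e4, hueq, hw, pow_add, pow_add]
      module
    obtain ⟨ω, β', hω⟩ : ∃ ω β' : ℤ, (τ - 4 * ξ * β) * ω = 1 + 2 ^ N * β' := by
      have hcop : IsCoprime (τ - 4 * ξ * β) ((2 : ℤ) ^ N) := by
        refine IsCoprime.pow_right ?_
        exact ⟨1, -(l' * η - 2 * ξ * β), by rw [hτ]; ring⟩
      obtain ⟨a', b', hab⟩ := hcop
      exact ⟨a', -b', by linear_combination hab⟩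
    have h4w' : (4 : ℤ) • w ∈ K' := by
      have := K'.zsmul_mem h4w ω
      rwa [smul_smul, mul_comm ω, hω, add_smul, one_smul, hNz, add_zero] at this
    obtain ⟨ωt, βt, hωt⟩ : ∃ ω β' : ℤ, τ * ω = 1 + 2 ^ N * β' := by
      have hcop : IsCoprime τ ((2 : ℤ) ^ N) := by
        refine IsCoprime.pow_right ?_
        exact ⟨1, -(l' * η), by rw [hτ]; ring⟩
      obtain ⟨a', b', hab⟩ := hcop
      exact ⟨a', -b', by linear_combination hab⟩
    have h1 : (τ * 2 ^ (i + 1)) • h.d ∈ K' := by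
      have h1 := K'.sub_mem (K'.zsmul_mem hq2 ((2 : ℤ) ^ i)) (K'.zsmul_mem h4w' β)
      convert h1 using 1
      rw [hueq, hw, pow_succ]
      module
    have := K'.zsmul_mem h1 ωt
    rwa [smul_smul, ← mul_assoc, mul_comm ωt, hωt, add_mul, one_mul, add_smul, mul_assoc, hNz, add_zero] at this
  have hgJ : ∀ y, ι y ∈ H → cm g (ι y) ∈ K' := by
    intro y hy
    have hcm : ∀ y, cm g (ι y) = (h.A ^ 2) y - y := fun y => ι_inj (by rw [ι_cm, comm_ι_right, hactg])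
    obtain ⟨k, l, rfl⟩ := hJgen y hy
    rw [hcm, show (h.A ^ 2) (k • w + (l • x0 + (2 : ℤ) • ((-l) • w1))) - (k • w + (l • x0 + (2 : ℤ) • ((-l) • w1))) =
      k • ((h.A ^ 2) w - w) + (l • ((h.A ^ 2) x0 - x0) + (2 : ℤ) • ((h.A ^ 2) ((-l) • w1) - (-l) • w1)) by
        simp only [map_add, map_zsmul, smul_sub]; abel, hgx0, sub_self,
      smul_zero, zero_add]
    refine K'.add_mem (K'.zsmul_mem ?_ k) ?_
    · rw [K.A_pow_sub, hw, map_zsmul, show h.X h.c = h.d from rfl, show ee K.j 2 = (1 + K.j) * 2 by simp [ee]; ring,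
        mul_smul, smul_smul (2 : ℤ), ← pow_succ']
      exact K'.zsmul_mem h4d _
    · refine hgen2 _ ?_
      rw [← hcm]
      exact hcmH g hg _ (ι_zsmul_mem hw1 _)
  -- the characteristic subgroup
  have hfinish : ∀ Z : Set G, Z ⊆ H → (∀ (α : MulAut ↥H) (v : ↥H), (v : G) ∈ Z → (α v : G) ∈ Z) →
      ι w ∈ Z → (∀ l : ℕ, ∀ y : DP G, ι y ∈ H → g ^ l * h.b * ι y ∉ Z) → False := by
    intro Z hZH hZinv hwZ hno
    set Z' : Set G := {g, ι w}
    have hZ'H : Z' ⊆ H := by rintro v (rfl | rfl) <;> assumption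
    have hZ'cl : ∀ y, ι y ∈ H → ι y ∈ Subgroup.closure (Z' ∪ Phi H) := fun y hy => by
      obtain ⟨k, l, rfl⟩ := hJgen y hy
      rw [ι_add, ι_add]
      exact mul_mem (ι_zsmul_mem (Subgroup.subset_closure (k := Z' ∪ (Phi H : Set G)) (Or.inl (Or.inr rfl))) k)
        (Subgroup.subset_closure (k := Z' ∪ (Phi H : Set G))
          (Or.inr (mul_mem (zsmul_mem_Phi hx0Phi l) (K.two_mem_Phi (ι_zsmul_mem hw1 _)))))
    refine hnH (hs.mem' h.isP (Phi H ⊔ Subgroup.closure Z) le_sup_left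
      (sup_le Phi_le ((Subgroup.closure_le _).2 hZH)) (autInv_sup_closure hZH hZinv) (Z := Z') ?_ hZ'H ?_
      (Y := (H : Set G)) Subgroup.subset_closure subset_rfl ?_)
    · refine sup_le (fun v hv => Subgroup.subset_closure (Or.inr hv)) ((Subgroup.closure_le _).2 fun v hv => ?_)
      obtain ⟨l, f, y, hf, hy, rfl⟩ := hgen v (hZH hv)
      interval_cases f
      · rw [pow_zero, mul_one]
        exact mul_mem (pow_mem (Subgroup.subset_closure (k := Z' ∪ (Phi H : Set G)) (Or.inl (Or.inl rfl))) l)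
          (hZ'cl y hy)
      · exact absurd (by rwa [pow_one] at hv) (hno l y hy)
    · rintro v (rfl | rfl)
      · exact hng
      · exact hnw _ hwH
    · intro x hx
      set L := Phi H ⊔ Subgroup.closure Z with hL
      have hLH : L ≤ H := sup_le Phi_le ((Subgroup.closure_le _).2 hZH)
      have hLinv : AutInv H L := autInv_sup_closure hZH hZinv
      have key : ∀ a' b' : G, a' ∈ H → ⁅n, a'⁆ ∈ L → ⁅n, b'⁆ ∈ L → ⁅n, a' * b'⁆ ∈ L := by
        intro a' b' ha' h1 h2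
        rw [show ⁅n, a' * b'⁆ = ⁅n, a'⁆ * (a' * ⁅n, b'⁆ * a'⁻¹) by simp only [commutatorElement_def]; group]
        exact mul_mem h1 (autInv_conj hLinv ha' h2 (hLH h2))
      have hpow : ∀ l : ℕ, ⁅n, g ^ l⁆ ∈ L := fun l => by
        induction l with
        | zero => simp
        | succ l ih => rw [pow_succ]; exact key _ _ (pow_mem hg l) ih (Subgroup.mem_sup_left hng)
      obtain ⟨l, f, y, hf, hy, rfl⟩ := hgen x hx
      refine key _ _ (mul_mem (pow_mem hg l) (pow_mem hb f)) (key _ _ (pow_mem hg l) (hpow l) ?_)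
        (Subgroup.mem_sup_left (hnw y hy))
      interval_cases f
      · simp
      · obtain ⟨v, hv, hvb⟩ := hnb
        rw [pow_one, hvb]
        exact mul_mem (Subgroup.mem_sup_right (Subgroup.subset_closure hwZ)) (Subgroup.mem_sup_left hv)
  have hwg : cm (ι w) g ∈ K' := by rw [cm_symm]; exact K'.neg_mem (hgJ w hwH)
  have hww : ∀ y, cm (ι w) (ι y) = 0 := fun y => ι_inj (by
    rw [ι_cm, ι_zero, commutatorElement_eq_one_iff_mul_comm, ι_comm])
  -- an element outside `⟨g⟩ (H ⊓ G')` does not commute with `g` modulo squares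
  have hbad : ∀ l : ℕ, ∀ y : DP G, ι y ∈ H → ∀ t : DP G, cm (g ^ l * h.b * ι y) g ≠ (2 : ℤ) • t := by
    intro l y hy t ht
    have h1 := hcls g hg l 1 y hy le_rfl
    rw [pow_one, cm_symm, ht, Nat.cast_one, one_smul] at h1
    obtain ⟨t1, ht1⟩ := hK2 _ h1
    obtain ⟨t2, ht2⟩ := hK2 _ (hgJ y hy)
    have hgg : cm g g = 0 := ι_inj (by rw [ι_cm, ι_zero, commutatorElement_self])
    rw [hgg, smul_zero, zero_add, ← hu, ht2] at ht1
    exact hu2 (-t - t2 - t1) (by rw [smul_sub, smul_sub, smul_neg, ← ht1]; abel)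
  by_cases hC : cm (ι w) h.b ∈ K'
  · refine hfinish {x | x ∈ H ∧ ∀ v ∈ H, cm x v ∈ K'} (fun x hx => hx.1) ?_ ⟨hwH, fun v hv => ?_⟩ ?_
    · rintro α x ⟨-, hx⟩
      refine ⟨(α x).2, fun v hv => ?_⟩
      obtain ⟨v0, hv0⟩ := α.surjective ⟨v, hv⟩
      have h1 := hKKinv α ⟨⁅(x : G), (v0 : G)⁆, hKKH (hx v0 v0.2)⟩ (hx v0 v0.2)
      rw [show (⟨⁅(x : G), (v0 : G)⁆, hKKH (hx v0 v0.2)⟩ : H) = ⁅x, v0⁆ from rfl, map_commutatorElement, hv0] at h1
      exact h1
    · obtain ⟨l, f, y, hf, hy, rfl⟩ := hgen v hv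
      have h1 := K'.add_mem (hcls (ι w) hwH l f y hy hf)
        (K'.add_mem (K'.add_mem (K'.zsmul_mem hwg l) (K'.zsmul_mem hC f)) ((hww y).symm ▸ K'.zero_mem))
      rwa [sub_add_cancel] at h1
    · rintro l y hy ⟨-, hx⟩
      obtain ⟨t, ht⟩ := hK2 _ (hx g hg)
      exact hbad l y hy t ht
  · refine hfinish {x | x ∈ H ∧ ∀ v ∈ H, ∀ v' ∈ H, cm x v ∉ K' → cm x v' ∉ K' → cm x v - cm x v' ∈ K'}
      (fun x hx => hx.1) ?_ ⟨hwH, ?_⟩ ?_
    · rintro α x ⟨-, hx⟩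
      refine ⟨(α x).2, fun v hv v' hv' hn1 hn2 => ?_⟩
      obtain ⟨v0, hv0⟩ := α.surjective ⟨v, hv⟩
      obtain ⟨v0', hv0'⟩ := α.surjective ⟨v', hv'⟩
      have hmap : ∀ z : H, ∀ hz : ⁅(x : G), (z : G)⁆ ∈ H, (α ⟨_, hz⟩ : G) = ι (cm (α x : G) (α z : G)) := by
        intro z hz
        rw [show (⟨⁅(x : G), (z : G)⁆, hz⟩ : H) = ⁅x, z⁆ from rfl, map_commutatorElement, ι_cm]
        rfl
      have hH1 : ∀ z : H, ⁅(x : G), (z : G)⁆ ∈ H := fun z => hHH (Subgroup.commutator_mem_commutator x.2 z.2)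
      have hpre : ∀ z : H, cm (x : G) z ∈ K' → cm (α x : G) (α z : G) ∈ K' := by
        intro z hz
        show ι (cm (α x : G) (α z : G)) ∈ KK
        rw [← hmap z (hH1 z)]
        exact hKKinv α _ hz
      have e1 : (v : G) = (α v0 : G) := by rw [hv0]
      have e2 : (v' : G) = (α v0' : G) := by rw [hv0']
      rw [e1] at hn1 ⊢
      rw [e2] at hn2 ⊢
      have h1 := hx v0 v0.2 v0' v0'.2 (fun hc => hn1 (hpre v0 hc)) (fun hc => hn2 (hpre v0' hc))
      have hd' : ι (cm (x : G) v0 - cm (x : G) v0') ∈ KK := h1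
      have h2 := hKKinv α ⟨_, hKKH hd'⟩ hd'
      show ι (cm (α x : G) (α v0 : G) - cm (α x : G) (α v0' : G)) ∈ KK
      rw [ι_sub, ← hmap v0 (hH1 v0), ← hmap v0' (hH1 v0')]
      have e3 : (⟨_, hKKH hd'⟩ : H) = ⟨_, hH1 v0⟩ * (⟨_, hH1 v0'⟩ : H)⁻¹ := Subtype.ext (by
        show ι (cm (x : G) v0 - cm (x : G) v0') = _
        rw [ι_sub]; rfl)
      rw [e3, map_mul, map_inv] at h2
      exact h2
    · intro v hv v' hv' hn1 hn2
      have hval : ∀ v ∈ H, cm (ι w) v ∉ K' → cm (ι w) v - cm (ι w) h.b ∈ K' := by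
        intro v hv hn
        obtain ⟨l, f, y, hf, hy, rfl⟩ := hgen v hv
        have h1 := hcls (ι w) hwH l f y hy hf
        rw [hww, add_zero] at h1
        interval_cases f
        · refine absurd ?_ hn
          have := K'.add_mem h1 (K'.zsmul_mem hwg l)
          simpa using this
        · have h2 := K'.add_mem h1 (K'.zsmul_mem hwg l)
          rw [Nat.cast_one, one_smul] at h2
          convert h2 using 1; abel
      have := K'.sub_mem (hval v hv hn1) (hval v' hv' hn2)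
      rwa [sub_sub_sub_cancel_right] at this
    · rintro l y hy ⟨-, hx⟩
      have hxH : g ^ l * h.b * ι y ∈ H := mul_mem (mul_mem (pow_mem hg l) hb) hy
      have h1 : cm (g ^ l * h.b * ι y) g ∉ K' := fun hm => by
        obtain ⟨t, ht⟩ := hK2 _ hm
        exact hbad l y hy t ht
      have h2 := hcls (ι w) hwH l 1 y hy le_rfl
      rw [hww, add_zero, Nat.cast_one, one_smul, pow_one] at h2
      have h3 : cm (g ^ l * h.b * ι y) (ι w) + cm (ι w) h.b ∈ K' := by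
        rw [cm_symm]
        have := K'.neg_mem (K'.add_mem h2 (K'.zsmul_mem hwg l))
        convert this using 1; abel
      have h4 : cm (g ^ l * h.b * ι y) (ι w) ∉ K' := fun hm => hC (by
        have := K'.sub_mem h3 hm
        simpa using this)
      obtain ⟨t, ht⟩ := hK2 _ (K'.add_mem (hx g hg (ι w) hwH h1 h4) h3)
      refine hbad l y hy (t - K.U w) ?_
      rw [smul_sub, ← ht, hwb]; abel

end Coord

end CfsgLib.Fsys.Bicyclic
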