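import Cfsg.Agent.Lib.FusionSystem.Bicyclic.EssA

/-!
Non-cyclic commutator subgroup: candidates over `b` alone when `a` has order four modulo the commutator subgroup.
-/

set_option autoImplicit false
set_option linter.style.haveILetI false
set_option linter.unusedSectionVars false

open scoped commutatorElement IsMulCommutative

namespace CfsgLib.Fsys.Bicyclic

variable {G : Type*} [Group G] [Finite G] [IsMulCommutative ↥(commutator G)]

namespace Coord

variable {h : Pre G} (K : Coord h) {H : Subgroup G}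
include K

theorem sq_b_ι (y : DP G) : h.b * ι y * (h.b * ι y) = ι (h.q + (2 * K.p) • h.X y) := by
  rw [show h.q + (2 * K.p) • h.X y = h.B y + h.q + y by rw [K.B_eq]; abel, ι_add, ι_add, h.ι_q, Pre.B, ι_act]
  group

theorem B_of_two {z : DP G} (hz : (2 : ℤ) • z = 0) : h.B z = z := by
  have hy : -z = z := by rw [two_zsmul] at hz; rw [neg_eq_iff_add_eq_zero]; exact hz
  rw [K.B_eq, hy, mul_comm, mul_smul, ← map_zsmul, hz, map_zero, smul_zero, add_zero]

theorem exists_two_involutions (e : DP G) : ∃ z : DP G, (2 : ℤ) • z = 0 ∧ z ≠ 0 ∧ z ≠ e := by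
  by_contra hne
  simp only [not_exists, not_and, not_not] at hne
  set f : DP G →+ DP G := zsmulAddGroupHom (2 : ℤ) with hf
  have hker : Nat.card f.ker ≤ 2 := by
    have hsub : (f.ker : Set (DP G)) ⊆ {0, e} := fun z hz => by
      by_cases h0 : z = 0
      · exact Or.inl h0
      · exact Or.inr (hne z hz h0)
    calc Nat.card f.ker = (f.ker : Set (DP G)).ncard := (Nat.card_coe_set_eq _)
      _ ≤ ({0, e} : Set (DP G)).ncard := Set.ncard_le_ncard hsub (Set.toFinite _)
      _ ≤ 2 := (Set.ncard_insert_le _ _).trans (by rw [Set.ncard_singleton])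
  have hidx : f.range.index = Nat.card f.ker := by
    have h1 := f.range.card_mul_index
    have h2 := f.ker.card_mul_index
    rw [AddSubgroup.index_ker, ← h1, mul_comm] at h2
    exact (Nat.eq_of_mul_eq_mul_left Nat.card_pos h2).symm
  have h3 : 3 ≤ f.range.index := by
    let F : Fin 3 → DP G ⧸ f.range := ![(0 : DP G), h.c, h.m]
    have hrel : ∀ k l : ℤ, k • h.c + l • h.m ∈ f.range → Even k ∧ Even l := fun k l hkl => by
      obtain ⟨w, hw⟩ := hkl
      exact K.ind k l ⟨w, hw.symm⟩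
    have n1 : ((0 : DP G) : DP G ⧸ f.range) ≠ (h.c : DP G ⧸ f.range) := fun e =>
      absurd (hrel 1 0 (by simpa using QuotientAddGroup.eq.1 e)).1 (by decide)
    have n2 : ((0 : DP G) : DP G ⧸ f.range) ≠ (h.m : DP G ⧸ f.range) := fun e =>
      absurd (hrel 0 1 (by simpa using QuotientAddGroup.eq.1 e)).2 (by decide)
    have n3 : (h.c : DP G ⧸ f.range) ≠ (h.m : DP G ⧸ f.range) := fun e =>
      absurd (hrel (-1) 1 (by simpa using QuotientAddGroup.eq.1 e)).1 (by decide)
    have hinj : Function.Injective F := by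
      intro a b hab
      fin_cases a <;> fin_cases b <;>
        first
        | rfl
        | exact absurd hab n1
        | exact absurd hab.symm n1
        | exact absurd hab n2
        | exact absurd hab.symm n2
        | exact absurd hab n3
        | exact absurd hab.symm n3
    simpa [AddSubgroup.index] using Nat.card_le_card_of_injective F hinj
  omega

/-- `b` and part of the commutator subgroup, `r = 2`: only an elementary abelian candidate remains. -/
theorem b_exp_four (hs : Stab H) (hr : h.r = 2) (hb : h.b ∈ H)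
    (hexp : ∀ (i f : ℕ) (x : DP G), h.a ^ i * h.b ^ f * ι x ∈ H → 2 ^ h.r ∣ i) :
    h.q = 0 ∧ ∀ y : DP G, ι y ∈ H → (2 : ℤ) • y = 0 := by
  -- normal form inside `H`
  have hnf : ∀ x ∈ H, ∃ y : DP G, ι y ∈ H ∧ (x = ι y ∨ x = h.b * ι y) := by
    intro x hx
    obtain ⟨i, f, y, hf, rfl⟩ := h.nf_nat x
    obtain ⟨i', rfl⟩ := hexp i f y hx
    have hpm : h.a ^ (2 ^ h.r * i') = ι ((i' : ℤ) • h.m) := by
      rw [ι_zsmul, h.ι_m, ← zpow_natCast, ← zpow_mul]; norm_cast
    rw [hpm, ι_mul, mul_assoc, ← ι_add] at hx ⊢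
    refine ⟨_, by simpa using mul_mem (inv_mem (pow_mem hb f)) hx, ?_⟩
    interval_cases f <;> simp
  set Y : Set G := {h.b} ∪ ι '' {y | ι y ∈ H} with hYdef
  have hY : H ≤ Subgroup.closure Y := fun x hx => by
    obtain ⟨y, hy, rfl | rfl⟩ := hnf x hx
    · exact Subgroup.subset_closure (show ι y ∈ Y from Or.inr ⟨y, hy, rfl⟩)
    · exact mul_mem (Subgroup.subset_closure (show h.b ∈ Y from Or.inl rfl))
        (Subgroup.subset_closure (show ι y ∈ Y from Or.inr ⟨y, hy, rfl⟩))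
  have hYH : Y ⊆ H := by rintro x (rfl | ⟨y, hy, rfl⟩) <;> assumption
  -- moves by elements of the commutator subgroup
  have hPmem : ∀ Z : Set G, Z ⊆ H → (∀ (α : MulAut ↥H) (v : ↥H), (v : G) ∈ Z → (α v : G) ∈ Z) →
      (∀ x ∈ Z, ∃ y, ι y = x) → ∀ y, ι ((2 : ℤ) • K.U y) ∈ Phi H ⊔ Subgroup.closure Z → ι y ∈ H := by
    intro Z hZH hinv hZP y hy
    refine hs.mem' h.isP _ le_sup_left (sup_le Phi_le ((Subgroup.closure_le _).2 hZH))
      (autInv_sup_closure hZH hinv) (Z := Z) ?_ hZH ?_ hY hYH ?_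
    · exact sup_le (fun v hv => Subgroup.subset_closure (Or.inr hv)) (Subgroup.closure_mono Set.subset_union_left)
    · intro x hx
      obtain ⟨z, rfl⟩ := hZP x hx
      rw [comm_ι_left, act_ι]; simp
    · rintro x (rfl | ⟨z, -, rfl⟩)
      · rw [comm_ι_left, show act h.b = h.B from rfl, ← neg_sub, K.B_sub, neg_neg]
        exact hy
      · rw [comm_ι_left, act_ι]; simp
  -- moves by elements over `a ^ 2`
  have hamem : ∀ Z : Set G, Z ⊆ H → (∀ (α : MulAut ↥H) (v : ↥H), (v : G) ∈ Z → (α v : G) ∈ Z) →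
      (∀ x ∈ Z, ∃ y, ι y = x ∧ ι ((h.A ^ 2) y - y) ∈ Phi H) →
      (∀ y, ι y ∈ H → ι ((h.A ^ 2) y - y) ∈ Phi H ⊔ Subgroup.closure Z) →
      ∀ s, ι (h.S 2 + (2 : ℤ) • K.U s) ∈ Phi H ⊔ Subgroup.closure Z → False := by
    intro Z hZH hinv hZP hyA s hsb
    have hn : ι s * h.a ^ 2 ∈ H := by
      refine hs.mem' h.isP _ le_sup_left (sup_le Phi_le ((Subgroup.closure_le _).2 hZH))
        (autInv_sup_closure hZH hinv) (Z := Z) ?_ hZH ?_ hY hYH ?_
      · exact sup_le (fun v hv => Subgroup.subset_closure (Or.inr hv)) (Subgroup.closure_mono Set.subset_union_left)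
      · intro x hx
        obtain ⟨z, rfl, hz⟩ := hZP x hx
        rw [comm_ι_right, map_mul, act_ι, one_mul, h.act_a_pow]
        exact hz
      · rintro x (rfl | ⟨z, hz, rfl⟩)
        · rw [show ⁅ι s * h.a ^ 2, h.b⁆ = ι (h.S 2 + (2 : ℤ) • K.U s) by
            rw [show h.S 2 + (2 : ℤ) • K.U s = s + h.S 2 + -h.B s by
              rw [show (2 : ℤ) • K.U s = -(h.B s - s) by rw [K.B_sub, neg_neg]]; abel]
            rw [ι_add, ι_add, ι_neg, h.ι_S, Pre.B, ι_act]
            simp only [commutatorElement_def]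
            group]
          exact hsb
        · rw [comm_ι_right, map_mul, act_ι, one_mul, h.act_a_pow]
          exact hyA z hz
    rw [ι_mul] at hn
    have := Nat.le_of_dvd (by norm_num) (hexp 2 0 _ (by rw [pow_zero, mul_one]; exact hn))
    rw [hr] at this
    omega
  have hA2 : ∀ y : DP G, (h.A ^ 2) y - y = (2 : ℤ) • ((1 + K.j) • h.X y) := fun y => by
    rw [K.A_pow_sub, smul_smul]; congr 1; simp [ee]; ring
  obtain ⟨N, hN1, hN, -⟩ := h.exists_pow_kill
  -- an invariant subgroup over `J` gives a contradiction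
  have hJcontra : ∀ Z : Set G, Z ⊆ H → (∀ (α : MulAut ↥H) (v : ↥H), (v : G) ∈ Z → (α v : G) ∈ Z) →
      (∀ x ∈ Z, ∃ y, ι y = x) → (∀ y, ι y ∈ H → ι y ∈ Phi H ⊔ Subgroup.closure Z) → False := by
    intro Z hZH hinv hZP hJL
    have hit : ∀ k : ℕ, ∀ y : DP G, ι ((2 : ℤ) ^ k • (K.U^[k]) y) ∈ H → ι y ∈ H := by
      intro k
      induction k with
      | zero => intro y hy; simpa using hy
      | succ k ih =>
        intro y hy
        refine hPmem Z hZH hinv hZP y (hJL _ (ih _ ?_))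
        have e : ∀ (k : ℕ) (z : DP G), (K.U^[k]) ((2 : ℤ) • z) = (2 : ℤ) • (K.U^[k]) z := fun k z => by
          induction k generalizing z with
          | zero => rfl
          | succ k ih => rw [Function.iterate_succ_apply, Function.iterate_succ_apply, K.U_zsmul, ih]
        rwa [e, smul_smul, ← pow_succ, ← Function.iterate_succ_apply]
    have hall : ∀ y : DP G, ι y ∈ H := fun y => hit N y (by rw [hN, ι_zero]; exact one_mem H)
    refine hamem Z hZH hinv (fun x hx => ?_) (fun y _ => hJL _ (hall _)) 0 (hJL _ (hall _))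
    obtain ⟨z, rfl⟩ := hZP x hx
    exact ⟨z, rfl, by rw [hA2]; exact K.two_mem_Phi (hall _)⟩
  -- the squares of elements outside the commutator subgroup are involutions
  have hsq4 : ∀ y : DP G, (2 : ℤ) • (h.q + (2 * K.p) • h.X y) = 0 := fun y => by
    refine K.two_of_B_fix (ι_inj ?_)
    rw [show h.B = act (h.b * ι y) by rw [map_mul, act_ι, mul_one]; rfl, ι_act, ← K.sq_b_ι]
    group
  by_cases h4 : ∃ y0 : DP G, ι y0 ∈ H ∧ (4 : ℤ) • y0 ≠ 0
  · exfalso
    obtain ⟨y0, hy0, hy04⟩ := h4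
    refine hJcontra {x | x ∈ H ∧ x ^ 4 ≠ 1} (fun x hx => hx.1) ?_ ?_ fun y hy => ?_
    · rintro α v ⟨-, hv⟩
      refine ⟨(α v).2, fun hc => hv ?_⟩
      have h1 : α (v ^ 4) = 1 := by rw [map_pow]; exact Subtype.ext (by simpa using hc)
      have h2 := congrArg Subtype.val ((MulEquiv.map_eq_one_iff α).1 h1)
      simpa using h2
    · rintro x ⟨hxH, hx⟩
      obtain ⟨y, -, rfl | rfl⟩ := hnf x hxH
      · exact ⟨y, rfl⟩
      · exfalso; apply hx
        rw [show (4 : ℕ) = 2 * 2 by rfl, pow_mul, pow_two (h.b * ι y), K.sq_b_ι, pow_two, ← ι_add, ← two_zsmul,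
          hsq4, ι_zero]
    · have hmem : ∀ z, ι z ∈ H → (4 : ℤ) • z ≠ 0 → ι z ∈ Phi H ⊔ Subgroup.closure {x | x ∈ H ∧ x ^ 4 ≠ 1} :=
        fun z hz hz4 => Subgroup.mem_sup_right (Subgroup.subset_closure ⟨hz, fun hc => hz4 (ι_eq_one (by
          rw [ι_zsmul]; exact_mod_cast hc))⟩)
      by_cases hy4 : (4 : ℤ) • y = 0
      · rw [show y = (y + y0) - y0 by abel, ι_sub]
        refine mul_mem (hmem _ (by rw [ι_add]; exact mul_mem hy hy0) ?_) (inv_mem (hmem y0 hy0 hy04))
        rwa [smul_add, hy4, zero_add]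
      · exact hmem y hy hy4
  simp only [not_exists, not_and, not_not] at h4
  by_cases h2 : ∃ y1 : DP G, ι y1 ∈ H ∧ (2 : ℤ) • y1 ≠ 0
  swap
  · simp only [not_exists, not_and, not_not] at h2
    refine ⟨?_, h2⟩
    by_contra hq
    refine hJcontra {x | x ∈ H ∧ x * x = 1} (fun x hx => hx.1) ?_ ?_ fun y hy => ?_
    · rintro α v ⟨-, hv⟩
      refine ⟨(α v).2, ?_⟩
      have h1 : v * v = 1 := Subtype.ext hv
      exact congrArg Subtype.val (show α v * α v = 1 by rw [← map_mul, h1, map_one])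
    · rintro x ⟨hxH, hx⟩
      obtain ⟨y, hy, rfl | rfl⟩ := hnf x hxH
      · exact ⟨y, rfl⟩
      · exfalso; apply hq
        rw [K.sq_b_ι, mul_comm, mul_smul, ← map_zsmul, h2 y hy, map_zero, smul_zero, add_zero] at hx
        exact ι_eq_one hx
    · exact Subgroup.mem_sup_right (Subgroup.subset_closure ⟨hy, by rw [← ι_add, ← two_zsmul, h2 y hy, ι_zero]⟩)
  exfalso
  obtain ⟨y1, hy1, hy12⟩ := h2
  set Z0 : Set G := {x | x ∈ H ∧ ∀ w ∈ H, x * w = w * x} with hZ0
  have hZ0H : Z0 ⊆ H := fun x hx => hx.1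
  have hZ0inv : ∀ (α : MulAut ↥H) (v : ↥H), (v : G) ∈ Z0 → (α v : G) ∈ Z0 := by
    rintro α v ⟨-, hv⟩
    refine ⟨(α v).2, fun w hw => ?_⟩
    obtain ⟨w0, hw0⟩ := α.surjective ⟨w, hw⟩
    have h1 : v * w0 = w0 * v := Subtype.ext (hv _ w0.2)
    have h3 := congrArg α h1
    rw [map_mul, map_mul, hw0] at h3
    exact congrArg Subtype.val h3
  have hfixb : ∀ (g : G) (u : DP G), act g = h.B → g * ι u = ι u * g → (2 : ℤ) • u = 0 := by
    intro g u hg hc
    refine K.two_of_B_fix (ι_inj ?_)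
    rw [← hg, ι_act, hc, mul_inv_cancel_right]
  have hbact : ∀ y : DP G, act (h.b * ι y) = h.B := fun y => by rw [map_mul, act_ι, mul_one]; rfl
  have hZ0tor : ∀ x ∈ Z0, ∃ z, ι z = x ∧ (2 : ℤ) • z = 0 := by
    rintro x ⟨hxH, hx⟩
    obtain ⟨y, -, rfl | rfl⟩ := hnf x hxH
    · exact ⟨y, rfl, hfixb h.b y rfl (hx h.b hb).symm⟩
    · exact absurd (hfixb _ y1 (hbact y) (hx _ hy1)) hy12
  have hV0 : ∀ z : DP G, (2 : ℤ) • z = 0 → ι z ∈ Z0 := fun z hz => by
    refine ⟨K.torsion_mem hs hz, fun w hw => ?_⟩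
    obtain ⟨y, -, rfl | rfl⟩ := hnf w hw
    · exact ι_comm _ _
    · rw [mul_ι (h.b * ι y) z, hbact, K.B_of_two hz]
  have hP4 : ∀ y : DP G, (4 : ℤ) • y = 0 → ι y ∈ H := fun y hy => by
    refine hPmem Z0 hZ0H hZ0inv (fun x hx => ?_) y (Subgroup.mem_sup_right (Subgroup.subset_closure (hV0 _ ?_)))
    · obtain ⟨z, hz, -⟩ := hZ0tor x hx; exact ⟨z, hz⟩
    · rw [smul_smul, ← K.U_zsmul, show (2 : ℤ) * 2 = 4 by norm_num, hy]
      simp [U]
  have hd4 : ∀ y' : DP G, (2 : ℤ) • h.d ≠ (4 : ℤ) • y' := by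
    intro y' hy'
    obtain ⟨s, hs'⟩ := K.U_surj (-(h.c + y'))
    refine hamem Z0 hZ0H hZ0inv (fun x hx => ?_) (fun y hy => ?_) s ?_
    · obtain ⟨z, rfl, hz⟩ := hZ0tor x hx
      refine ⟨z, rfl, ?_⟩
      rw [hA2, smul_comm, ← map_zsmul, hz, map_zero, smul_zero, ι_zero]
      exact one_mem _
    · refine Subgroup.mem_sup_right (Subgroup.subset_closure (hV0 _ ?_))
      rw [hA2, smul_smul, smul_comm, show (2 : ℤ) * 2 = 4 by norm_num, ← map_zsmul, h4 y hy, map_zero, smul_zero]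
    · refine Subgroup.mem_sup_right (Subgroup.subset_closure (hV0 _ ?_))
      rw [K.S_eq, kap_two, hs']
      linear_combination (norm := (push_cast; module)) hy'
  have hdiv : ∀ v : DP G, (2 : ℤ) • v = 0 → ∃ y, v = (2 : ℤ) • y := by
    intro v hv
    obtain ⟨k, l, rfl⟩ := K.gen v
    rcases Int.even_or_odd k with ⟨k', rfl⟩ | ⟨k', rfl⟩
    · rcases Int.even_or_odd l with ⟨l', rfl⟩ | ⟨l', rfl⟩
      · exact ⟨k' • h.c + l' • h.m, by module⟩
      · exfalso
        refine hd4 ((K.j * (2 * l' + 1) - K.ε * k') • h.c - l' • h.d) ?_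
        linear_combination (norm := skip) K.ε • hv
        rw [K.hd]; module
    · exfalso
      refine hd4 (-(k' • h.d)) ?_
      have e1 := congrArg h.X hv
      rw [map_zsmul, map_add, map_zsmul, map_zsmul, h.X_m, smul_zero, add_zero, map_zero,
        show h.X h.c = h.d from rfl] at e1
      linear_combination (norm := module) e1
  refine hJcontra {x | x ∈ H ∧ ∀ z ∈ Z0, ∃ w ∈ H, x * w = w * x ∧ w * w = z} (fun x hx => hx.1) ?_ ?_ fun y hy => ?_
  · rintro α v ⟨-, hv⟩
    refine ⟨(α v).2, fun z hz => ?_⟩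
    obtain ⟨z0, hz0⟩ := α.surjective ⟨z, hz.1⟩
    have hz0Z : (z0 : G) ∈ Z0 := by
      have h1 := hZ0inv α.symm ⟨z, hz.1⟩ hz
      rwa [← hz0, MulEquiv.symm_apply_apply] at h1
    obtain ⟨w, hw, hvw, hwz⟩ := hv _ hz0Z
    refine ⟨_, (α ⟨w, hw⟩).2, ?_, ?_⟩
    · have h1 : v * ⟨w, hw⟩ = ⟨w, hw⟩ * v := Subtype.ext hvw
      exact congrArg Subtype.val (show α v * α ⟨w, hw⟩ = α ⟨w, hw⟩ * α v by rw [← map_mul, h1, map_mul])
    · have h1 : (⟨w, hw⟩ : H) * ⟨w, hw⟩ = z0 := Subtype.ext hwz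
      exact congrArg Subtype.val (show α ⟨w, hw⟩ * α ⟨w, hw⟩ = (⟨z, hz.1⟩ : H) by rw [← map_mul, h1, hz0])
  · rintro x ⟨hxH, hx⟩
    obtain ⟨y, -, rfl | rfl⟩ := hnf x hxH
    · exact ⟨y, rfl⟩
    · exfalso
      obtain ⟨z, hz, hz0, hze⟩ := K.exists_two_involutions (h.q + (2 * K.p) • h.X y)
      obtain ⟨w, hw, hcw, hwz⟩ := hx (ι z) (hV0 z hz)
      obtain ⟨u, -, rfl | rfl⟩ := hnf w hw
      · apply hz0
        apply ι_inj
        rw [← hwz, ← ι_add, ← two_zsmul, hfixb _ u (hbact y) hcw]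
      · apply hze
        have hyu : (2 : ℤ) • (y - u) = 0 := by
          refine K.two_of_B_fix ?_
          have h1 : h.B y + h.q + u = h.B u + h.q + y := by
            apply ι_inj
            simp only [ι_add, h.ι_q, Pre.B, ι_act]
            calc h.b * ι y * h.b⁻¹ * (h.b * h.b) * ι u = h.b * ι y * (h.b * ι u) := by group
              _ = h.b * ι u * (h.b * ι y) := hcw
              _ = h.b * ι u * h.b⁻¹ * (h.b * h.b) * ι y := by group
          rw [map_sub]
          linear_combination (norm := abel) h1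
        apply ι_inj
        rw [← hwz, K.sq_b_ι]
        congr 1
        have h3 := congrArg h.X hyu
        rw [map_zsmul, map_sub, map_zero] at h3
        linear_combination (norm := module) -K.p • h3
  · refine Subgroup.mem_sup_right (Subgroup.subset_closure ⟨hy, fun z hz => ?_⟩)
    obtain ⟨z', rfl, hz'⟩ := hZ0tor z hz
    obtain ⟨t, rfl⟩ := hdiv z' hz'
    exact ⟨ι t, hP4 t (by rw [show (4 : ℤ) = 2 * 2 by norm_num, mul_smul]; exact hz'), ι_comm _ _,
      by rw [← ι_add, ← two_zsmul]⟩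

end Coord

end CfsgLib.Fsys.Bicyclic
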