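import Cfsg.Agent.Lib.FusionSystem.Bicyclic.Candidates
import Cfsg.Agent.Lib.FusionSystem.SmallEssential
import Cfsg.Agent.Lib.FusionSystem.Inner
import Cfsg.Agent.Lib.FusionSystem.Alperin
import Cfsg.Agent.Lib.FusionSystem.Normal

/-!
A bicyclic non-metacyclic `2`-group with non-cyclic commutator subgroup supports only its inner system.
-/

set_option autoImplicit false
set_option linter.style.haveILetI false
set_option linter.unusedSectionVars false

open Cfsg Cfsg.FusionSystem
open scoped commutatorElement IsMulCommutative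

namespace CfsgLib.Fsys.Bicyclic

variable {Ω : Type*} [Group Ω] {S : Subgroup Ω} [Finite S] {F : FusionSystem S} {E : Subgroup Ω}

theorem phi_subgroupOf_le {H : Subgroup ↥S} {L : Subgroup ↥S} (hΦ : Phi H ≤ L) :
    frattini ↥H ≤ L.subgroupOf H := fun v hv => hΦ ⟨v, hv, rfl⟩

theorem stab_of_essential (hS : IsPGroup 2 S) (hF : F.IsSaturated 2) (hE : F.IsEssential 2 E) :
    Stab (E.subgroupOf S) := by
  haveI : Fact (Nat.Prime 2) := ⟨Nat.prime_two⟩
  have hES : E ≤ S := hE.1.1
  haveI : Finite ↥E := finite_of_le_base hES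
  set e := Subgroup.subgroupOfEquivOfLe hES with he
  refine ⟨fun z hz => ?_, fun htop => (essential_lt hS hF hE).not_ge fun s hs =>
    (htop.ge (Subgroup.mem_top (⟨s, hs⟩ : S))), fun n hn L hΦ hLH hinv h1 h2 => ?_⟩
  · refine centralizer_le_of_centric hE.1 ⟨z.2, Subgroup.mem_centralizer_iff.2 fun x hx => ?_⟩
    exact congrArg Subtype.val (Subgroup.mem_centralizer_iff.1 hz ⟨x, hES hx⟩ hx)
  · have hnN : (n : Ω) ∈ Subgroup.normalizer (E : Set Ω) := mem_normalizer_of_map_le fun x hx =>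
      (Subgroup.mem_normalizer_iff.1 hn ⟨x, hES hx⟩).1 hx
    refine SmallEssential.mem_of_stab hS hF hE ((L.subgroupOf (E.subgroupOf S)).map e.toMonoidHom) ?_ ?_
      (n := (n : Ω)) ⟨n.2, hnN⟩ ?_ ?_
    · intro v hv
      refine ⟨e.symm v, phi_subgroupOf_le hΦ ?_, e.apply_symm_apply v⟩
      exact frattini_le_comap_frattini_of_surjective (φ := e.symm.toMonoidHom) e.symm.surjective hv
    · rintro α - _ ⟨v, hv, rfl⟩
      refine ⟨e.symm (α (e v)), ?_, e.apply_symm_apply _⟩
      exact hinv ((e.trans α).trans e.symm) v hv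
    · rintro _ ⟨v, hv, rfl⟩
      obtain ⟨w, hw, hwe⟩ := h1 (v : S) hv
      have : (e v)⁻¹ * conjAut E hnN (e v) = e w := Subtype.ext (congrArg Subtype.val hwe).symm
      rw [show conjAut E (⟨n.2, hnN⟩ : (n : Ω) ∈ normalizerIn S E).2 = conjAut E hnN from rfl]
      show (e v)⁻¹ * conjAut E hnN (e v) ∈ frattini ↥E
      rw [this]
      exact frattini_le_comap_frattini_of_surjective (φ := e.toMonoidHom) e.surjective hw
    · intro v
      have h3 := h2 ((e.symm v : E.subgroupOf S) : S) (e.symm v).2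
      exact ⟨⟨_, hLH h3⟩, h3, Subtype.ext rfl⟩

theorem autData_of_essential [IsMulCommutative ↥(commutator ↥S)] (hS : IsPGroup 2 S) (hF : F.IsSaturated 2)
    (hE : F.IsEssential 2 E) : AutData (E.subgroupOf S) := by
  haveI : Fact (Nat.Prime 2) := ⟨Nat.prime_two⟩
  have hES : E ≤ S := hE.1.1
  haveI : Finite ↥E := finite_of_le_base hES
  set e := Subgroup.subgroupOfEquivOfLe hES with he
  set κ : MulAut ↥(E.subgroupOf S) ≃* MulAut ↥E := MulAut.congr e with hκ
  have hκv : ∀ (α : MulAut ↥(E.subgroupOf S)) (x : ↥(E.subgroupOf S)), κ α (e x) = e (α x) := fun α x => by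
    show e (α (e.symm (e x))) = e (α x)
    rw [e.symm_apply_apply]
  have hind : ∀ α : MulAut ↥(E.subgroupOf S),
      (∃ n : S, ∀ x : ↥(E.subgroupOf S), (α x : S) = n * (x : S) * n⁻¹) ↔ κ α ∈ autInducedBy S E := by
    intro α
    rw [mem_autInducedBy]
    constructor
    · rintro ⟨n, hn⟩
      refine ⟨n, n.2, fun v => ?_⟩
      obtain ⟨x, rfl⟩ := e.surjective v
      rw [hκv]
      exact congrArg Subtype.val (hn x)
    · rintro ⟨g, hg, hgα⟩
      refine ⟨⟨g, hg⟩, fun x => Subtype.ext ?_⟩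
      have := hgα (e x)
      rw [hκv] at this
      exact this
  set A : Subgroup (MulAut ↥(E.subgroupOf S)) := (F.autGroup E).comap κ.toMonoidHom with hA
  set φ : ↥A →* ↥(F.autGroup E) := κ.toMonoidHom.subgroupComap (F.autGroup E) with hφ
  have hφv : ∀ a : A, (φ a : MulAut ↥E) = κ (a : MulAut ↥(E.subgroupOf S)) := fun a => rfl
  have hφi : Function.Injective φ := fun a b hab =>
    Subtype.ext (κ.injective ((hφv a).symm.trans ((congrArg Subtype.val hab).trans (hφv b))))
  have hφs : Function.Surjective φ := fun b =>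
    ⟨⟨κ.symm b, by show κ (κ.symm b) ∈ F.autGroup E; rw [κ.apply_symm_apply]; exact b.2⟩,
      Subtype.ext (κ.apply_symm_apply _)⟩
  refine ⟨A, fun α hα => autInducedBy_le_autGroup hES ((hind α).1 hα), ?_⟩
  obtain ⟨-, TE, hTE⟩ := (fullyNormalized_good hS hF hE.2.1).1
  refine ⟨TE.comapOfInjective φ hφi (fun b _ => hφs b), fun α => ?_, fun N hN hp α hα => ?_⟩
  · rw [hind]
    show φ α ∈ (TE : Subgroup (F.autGroup E)) ↔ _
    rw [hTE]
    rfl
  · have hN' : (N.map φ).Normal := hN.map φ hφs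
    have h2 := (essential_radical hS hE).2.le ⟨φ α, CfsgLib.Solvable.Cores.le_pCore (hn := hN') (hp.map φ)
      ⟨α, hα, rfl⟩, rfl⟩
    obtain ⟨g, hg⟩ := h2
    refine ⟨e.symm g, κ.injective (hg.symm.trans ?_)⟩
    refine MulEquiv.ext fun v => ?_
    obtain ⟨x, rfl⟩ := e.surjective v
    rw [hκv]
    show g * e x * g⁻¹ = e (e.symm g * x * (e.symm g)⁻¹)
    rw [map_mul, map_mul, map_inv, e.apply_symm_apply]

/-- The inner system is the only one. -/
theorem hom_eq_inner_of_noncyclic (hS : IsPGroup 2 S) {x y : ↥S} (hxy : IsProduct x y)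
    (hm : ¬ Cfsg.IsMetacyclic ↥S) (hnc : ¬ IsCyclic ↥(commutator ↥S)) (hF : F.IsSaturated 2) (P : Subgroup Ω) :
    F.Hom P = (innerFusionSystem S).Hom P := by
  haveI : Fact (Nat.Prime 2) := ⟨Nat.prime_two⟩
  haveI := hxy.comm
  obtain ⟨a, b, hgen, hbb⟩ := exists_generators hS hxy hm
  let h : Pre ↥S := { a := a, b := b, isP := hS, gen := hgen, bb := hbb, notMeta := hm }
  have hp : IsPGroup 2 ↥(F.autGroup S) := isPGroup_of_forall_coprime fun α hα => Subtype.ext
    (aut_coprime_eq_one h (by rwa [Subgroup.orderOf_coe]))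
  have htop : F.autGroup S ≤ (innerFusionSystem S).autGroup S := by
    obtain ⟨-, T, hT⟩ := fullyAutomized_top hF
    have hT' := T.3 (hp.of_equiv Subgroup.topEquiv.symm : IsPGroup 2 ↥(⊤ : Subgroup (F.autGroup S))) le_top
    intro α hα
    have h1 : (⟨α, hα⟩ : F.autGroup S) ∈ (T : Subgroup (F.autGroup S)) := hT'.le (Subgroup.mem_top _)
    rw [hT] at h1
    exact autInducedBy_le_autGroup le_rfl h1
  refine Set.Subset.antisymm ?_ (inner_subsystem le_rfl P)
  exact alperin hS hF (innerFusionSystem S) htop (fun Q _ hQ =>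
    (no_candidate h hnc hxy (stab_of_essential hS hF hQ) (autData_of_essential hS hF hQ)).elim) P

end CfsgLib.Fsys.Bicyclic
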