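import Mathlib
import Cfsg.Prelude.Def_OddOrderLocal
import Cfsg.Agent.Lib.PGroup.Frattini
import Cfsg.Agent.Lib.Solvable.FrattiniFitting

/-!
A finite `2`-group is metacyclic when its quotient by `[G', G] G'²` is; the shape of two-generated products of
two cyclic groups that are not metacyclic.
-/

set_option autoImplicit false
set_option linter.style.haveILetI false

open scoped commutatorElement

namespace CfsgLib.Fsys.Bicyclic

universe u

variable {G : Type u} [Group G]

/-- `[G', G] G'²`. -/
def deepComm (G : Type*) [Group G] : Subgroup G :=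
  ⁅commutator G, (⊤ : Subgroup G)⁆ ⊔ Subgroup.closure ((fun x => x * x) '' (commutator G : Set G))

instance deepComm_normal : (deepComm G).Normal := by
  haveI : (Subgroup.closure ((fun x : G => x * x) '' (commutator G : Set G))).Normal :=
    ⟨fun n hn g => by
      induction hn using Subgroup.closure_induction with
      | mem x hx =>
        obtain ⟨y, hy, rfl⟩ := hx
        refine Subgroup.subset_closure ⟨g * y * g⁻¹, Subgroup.Normal.conj_mem inferInstance y hy g, ?_⟩
        group
      | one => simp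
      | mul x y _ _ hx hy =>
        rw [show g * (x * y) * g⁻¹ = (g * x * g⁻¹) * (g * y * g⁻¹) by group]
        exact mul_mem hx hy
      | inv x _ hx =>
        rw [show g * x⁻¹ * g⁻¹ = (g * x * g⁻¹)⁻¹ by group]
        exact inv_mem hx⟩
  unfold deepComm
  infer_instance

theorem comm_mem_deepComm {m : G} (hm : m ∈ commutator G) (g : G) : ⁅m, g⁆ ∈ deepComm G :=
  Subgroup.mem_sup_left (Subgroup.commutator_mem_commutator hm (Subgroup.mem_top g))

theorem sq_mem_deepComm {m : G} (hm : m ∈ commutator G) : m * m ∈ deepComm G :=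
  Subgroup.mem_sup_right (Subgroup.subset_closure ⟨m, hm, rfl⟩)

theorem deepComm_le_commutator : deepComm G ≤ commutator G :=
  sup_le (Subgroup.commutator_mono le_top le_rfl)
    ((Subgroup.closure_le _).2 (by rintro _ ⟨y, hy, rfl⟩; exact mul_mem hy hy))

theorem map_deepComm {H : Type*} [Group H] (f : G →* H) (hf : Function.Surjective f) :
    (deepComm G).map f = deepComm H := by
  have hc : (commutator G).map f = commutator H := by
    rw [commutator_def, commutator_def, Subgroup.map_commutator, Subgroup.map_top_of_surjective f hf]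
  rw [deepComm, deepComm, Subgroup.map_sup, Subgroup.map_commutator, hc, Subgroup.map_top_of_surjective f hf,
    MonoidHom.map_closure]
  congr 2
  rw [← hc, Subgroup.coe_map, Set.image_image, Set.image_image]
  simp only [map_mul]

theorem metacyclic_of_gen {x y : G} (hgen : Subgroup.closure {x, y} = (⊤ : Subgroup G))
    (h : ∀ i : ℤ, y * x ^ i * y⁻¹ ∈ Subgroup.zpowers x) (h' : ∀ i : ℤ, y⁻¹ * x ^ i * y ∈ Subgroup.zpowers x) :
    Cfsg.IsMetacyclic G := by
  haveI hN : (Subgroup.zpowers x).Normal := by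
    rw [← Subgroup.normalizer_eq_top_iff, eq_top_iff, ← hgen, Subgroup.closure_le]
    rintro g (rfl | rfl)
    · exact Subgroup.le_normalizer (Subgroup.mem_zpowers g)
    · rw [SetLike.mem_coe, Subgroup.mem_normalizer_iff]
      intro n
      constructor
      · intro hn
        obtain ⟨i, rfl⟩ := Subgroup.mem_zpowers_iff.1 hn
        exact h i
      · intro hn
        obtain ⟨i, hi⟩ := Subgroup.mem_zpowers_iff.1 hn
        have := h' i
        rw [hi] at this
        simpa [mul_assoc] using this
  refine ⟨Subgroup.zpowers x, hN, inferInstance, ⟨(y : G ⧸ Subgroup.zpowers x), fun q => ?_⟩⟩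
  obtain ⟨g, rfl⟩ := QuotientGroup.mk_surjective q
  have h1 : Subgroup.closure {x, y} ≤
      (Subgroup.zpowers (QuotientGroup.mk' (Subgroup.zpowers x) y)).comap (QuotientGroup.mk' _) := by
    rw [Subgroup.closure_le]
    rintro g (rfl | rfl)
    · rw [SetLike.mem_coe, Subgroup.mem_comap]
      rw [show QuotientGroup.mk' (Subgroup.zpowers g) g = 1 from
        (QuotientGroup.eq_one_iff g).2 (Subgroup.mem_zpowers g)]
      exact one_mem _
    · exact Subgroup.mem_zpowers _
  exact h1 (hgen.ge (Subgroup.mem_top g))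

/-- A cyclic commutator subgroup inside `⟨x⟩` makes a two-generated group metacyclic. -/
theorem metacyclic_of_comm_le {x y : G} (hgen : Subgroup.closure {x, y} = (⊤ : Subgroup G))
    (h : commutator G ≤ Subgroup.zpowers x) : Cfsg.IsMetacyclic G := by
  have hm : ∀ (g : G) (i : ℤ), g * x ^ i * g⁻¹ ∈ Subgroup.zpowers x := fun g i => by
    have h1 : ⁅g, x ^ i⁆ ∈ Subgroup.zpowers x :=
      h (Subgroup.commutator_mem_commutator (Subgroup.mem_top g) (Subgroup.mem_top _))
    rw [show g * x ^ i * g⁻¹ = ⁅g, x ^ i⁆ * x ^ i by rw [commutatorElement_def]; group]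
    exact mul_mem h1 (zpow_mem (Subgroup.mem_zpowers x) i)
  exact metacyclic_of_gen hgen (fun i => hm y i) fun i => by simpa using hm y⁻¹ i

theorem metacyclic_equiv {H : Type*} [Group H] (e : G ≃* H) (hm : Cfsg.IsMetacyclic G) :
    Cfsg.IsMetacyclic H := by
  obtain ⟨N, hN, hNc, hq⟩ := hm
  haveI : (N.map e.toMonoidHom).Normal := hN.map _ e.surjective
  exact ⟨N.map e.toMonoidHom, inferInstance,
    isCyclic_of_surjective (N.equivMapOfInjective e.toMonoidHom e.injective).toMonoidHom
      (N.equivMapOfInjective e.toMonoidHom e.injective).surjective,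
    isCyclic_of_surjective (QuotientGroup.congr N (N.map e.toMonoidHom) e rfl).toMonoidHom
      (QuotientGroup.congr N (N.map e.toMonoidHom) e rfl).surjective⟩

theorem metacyclic_of_surjective {H : Type*} [Group H] (f : G →* H) (hf : Function.Surjective f)
    (hm : Cfsg.IsMetacyclic G) : Cfsg.IsMetacyclic H := by
  obtain ⟨N, hN, hNc, hq⟩ := hm
  haveI : (N.map f).Normal := hN.map _ hf
  refine ⟨N.map f, inferInstance, isCyclic_of_surjective (f.subgroupMap N) (f.subgroupMap_surjective N), ?_⟩
  refine isCyclic_of_surjective (QuotientGroup.map N (N.map f) f (Subgroup.le_comap_map f N)) fun q => ?_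
  obtain ⟨y, rfl⟩ := QuotientGroup.mk_surjective q
  obtain ⟨x, rfl⟩ := hf y
  exact ⟨QuotientGroup.mk x, rfl⟩

theorem lift_step [Finite G] (hG : IsPGroup 2 G) {z : G} (hzR : z ∈ deepComm G) (hzC : z ∈ Subgroup.center G)
    (hz2 : z * z = 1) [(Subgroup.zpowers z).Normal] (hm : Cfsg.IsMetacyclic (G ⧸ Subgroup.zpowers z)) :
    Cfsg.IsMetacyclic G := by
  classical
  obtain ⟨N, hN, hNc, hq⟩ := hm
  obtain ⟨⟨g', hg'N⟩, hg'⟩ := hNc.exists_generator
  obtain ⟨h'', hh''⟩ := hq.exists_generator
  obtain ⟨h', rfl⟩ := QuotientGroup.mk_surjective h''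
  obtain ⟨g, rfl⟩ := QuotientGroup.mk_surjective g'
  obtain ⟨h, rfl⟩ := QuotientGroup.mk_surjective h'
  have hcz : ∀ w : G, w * z = z * w := fun w => Subgroup.mem_center_iff.1 hzC w
  have key : ∀ w : G, (w : G ⧸ Subgroup.zpowers z) ∈ N → ∃ i j : ℤ, w = g ^ i * z ^ j := by
    intro w hw
    obtain ⟨i, hi⟩ := Subgroup.mem_zpowers_iff.1 (hg' ⟨(w : G ⧸ Subgroup.zpowers z), hw⟩)
    have hi' : (g : G ⧸ Subgroup.zpowers z) ^ i = (w : G ⧸ Subgroup.zpowers z) := by
      have := congrArg Subtype.val hi; simpa using this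
    rw [← QuotientGroup.mk_zpow, QuotientGroup.eq] at hi'
    obtain ⟨j, hj⟩ := Subgroup.mem_zpowers_iff.1 hi'
    exact ⟨i, j, by rw [hj]; group⟩
  have all : ∀ w : G, ∃ i j k : ℤ, w = h ^ i * (g ^ j * z ^ k) := by
    intro w
    obtain ⟨i, hi⟩ := Subgroup.mem_zpowers_iff.1 (hh'' ((w : G ⧸ Subgroup.zpowers z) : _ ⧸ N))
    rw [← QuotientGroup.mk_zpow, QuotientGroup.eq, ← QuotientGroup.mk_zpow, ← QuotientGroup.mk_inv,
      ← QuotientGroup.mk_mul] at hi
    obtain ⟨j, k, hjk⟩ := key _ hi
    exact ⟨i, j, k, by rw [← hjk]; group⟩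
  have hgen : ∀ K : Subgroup G, g ∈ K → h ∈ K → z ∈ K → ∀ w, w ∈ K := by
    intro K hgK hhK hzK w
    obtain ⟨i, j, k, rfl⟩ := all w
    exact mul_mem (zpow_mem hhK i) (mul_mem (zpow_mem hgK j) (zpow_mem hzK k))
  obtain ⟨u, η, hu⟩ := key (h * g * h⁻¹) (by
    rw [QuotientGroup.mk_mul, QuotientGroup.mk_mul, QuotientGroup.mk_inv]
    exact hN.conj_mem _ hg'N _)
  have hgz : Commute g z := hcz g
  have hhz : Commute h z := hcz h
  have hzz : ∀ k : ℤ, z ^ (2 * k) = 1 := fun k => by rw [zpow_mul, zpow_two, hz2, one_zpow]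
  set c := g * (h * g * h⁻¹)⁻¹ with hc
  have hce : c = g ^ (1 - u) * z ^ (-η) := by
    rw [hc, hu, mul_inv_rev, ← zpow_neg, ← zpow_neg, (hgz.zpow_zpow (-u) (-η)).symm.eq, ← mul_assoc, zpow_sub,
      zpow_one, zpow_neg g]
  have hgc : g * c * g⁻¹ = c := by
    rw [hce, show g * (g ^ (1 - u) * z ^ (-η)) * g⁻¹ = g * g ^ (1 - u) * (z ^ (-η) * g⁻¹) by group,
      (hgz.symm.zpow_left (-η)).inv_right.eq]
    group
  have hhc : h * c * h⁻¹ = c ^ u := by
    rw [hce, show h * (g ^ (1 - u) * z ^ (-η)) * h⁻¹ = (h * g * h⁻¹) ^ (1 - u) * (h * z ^ (-η) * h⁻¹) by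
      rw [conj_zpow]; group, (hhz.zpow_right (-η)).eq, mul_inv_cancel_right, hu,
      (hgz.zpow_zpow u η).mul_zpow, (hgz.zpow_zpow (1 - u) (-η)).mul_zpow, ← zpow_mul, ← zpow_mul, ← zpow_mul,
      ← zpow_mul, mul_assoc, ← zpow_add, mul_comm u]
    congr 1
    rw [show η * (1 - u) + -η = -η * u + 2 * (η * 0) by ring]
    rw [zpow_add, hzz, mul_one]
  have hzc : ∀ w : G, w * z * w⁻¹ = z := fun w => by rw [hcz w, mul_inv_cancel_right]
  by_cases hgbar : ∃ j : ℤ, g = z ^ j
  · -- then `G` is commutative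
    obtain ⟨j, hj⟩ := hgbar
    have hcomm : ∀ a b : G, a * b = b * a := by
      have hh : ∀ w : G, Commute h w := fun w => by
        obtain ⟨i, j', k, rfl⟩ := all w
        exact ((Commute.refl h).zpow_right i).mul_right
          ((hj ▸ hhz.zpow_right j).zpow_right j' |>.mul_right (hhz.zpow_right k))
      intro a b
      obtain ⟨i, j', k, rfl⟩ := all a
      obtain ⟨i', j'', k', rfl⟩ := all b
      have hzw : ∀ (l : ℤ) (w : G), Commute (z ^ l) w := fun l w =>
        ((show Commute z w from (hcz w).symm).zpow_left l)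
      exact (((hh _).zpow_left i).mul_left ((hj ▸ hzw j _).zpow_left j' |>.mul_left (hzw k _))).eq
    have hM : commutator G = ⊥ := by
      rw [commutator_def, Subgroup.commutator_eq_bot_iff_le_centralizer]
      exact fun a _ => Subgroup.mem_centralizer_iff.2 fun b _ => hcomm b a
    have hz1 : z = 1 := by
      have := deepComm_le_commutator hzR
      rwa [hM, Subgroup.mem_bot] at this
    subst hz1
    refine metacyclic_of_gen (x := g) (y := h) (eq_top_iff.2 fun w _ => ?_) (fun i => ?_) (fun i => ?_)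
    · refine hgen _ (Subgroup.subset_closure (by simp)) (Subgroup.subset_closure (by simp)) (one_mem _) w
    · rw [hcomm h, mul_inv_cancel_right]; exact zpow_mem (Subgroup.mem_zpowers g) i
    · rw [hcomm h⁻¹, inv_mul_cancel_right]; exact zpow_mem (Subgroup.mem_zpowers g) i
  -- the exponent `u` is odd
  have hodd : Odd u := by
    by_contra hne
    obtain ⟨u', rfl⟩ := Int.not_odd_iff_even.1 hne
    apply hgbar
    -- `g` generates modulo `z` the same subgroup as its conjugate, an even power
    obtain ⟨n, hn⟩ := hG g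
    have step : ∀ k : ℕ, (∃ j : ℤ, g ^ ((2 : ℤ) ^ (k + 1)) = z ^ j) → ∃ j : ℤ, g ^ ((2 : ℤ) ^ k) = z ^ j := by
      rintro k ⟨j, hj⟩
      have h1 : (h * g * h⁻¹) ^ ((2 : ℤ) ^ k) = z ^ (j * u' + η * 2 ^ k) := by
        rw [hu, (hgz.zpow_zpow _ η).mul_zpow, ← zpow_mul, ← zpow_mul,
          show (u' + u') * (2 : ℤ) ^ k = 2 ^ (k + 1) * u' by ring, zpow_mul, hj, ← zpow_mul, ← zpow_add]
      refine ⟨j * u' + η * 2 ^ k, ?_⟩
      rw [conj_zpow] at h1
      calc g ^ ((2 : ℤ) ^ k) = h⁻¹ * (h * g ^ ((2 : ℤ) ^ k) * h⁻¹) * h := by group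
        _ = z ^ (j * u' + η * 2 ^ k) := by rw [h1, mul_assoc, (hhz.symm.zpow_left _).eq, inv_mul_cancel_left]
    have hall : ∀ k : ℕ, k ≤ n → ∃ j : ℤ, g ^ ((2 : ℤ) ^ (n - k)) = z ^ j := by
      intro k
      induction k with
      | zero => exact fun _ => ⟨0, by rw [Nat.sub_zero, zpow_zero]; exact_mod_cast hn⟩
      | succ k ih =>
        intro hk
        obtain ⟨j, hj⟩ := ih (by omega)
        exact step _ ⟨j, by rwa [show n - (k + 1) + 1 = n - k by omega]⟩
    obtain ⟨j, hj⟩ := hall n le_rfl
    exact ⟨j, by simpa using hj⟩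
  -- the commutator subgroup is generated by `c`
  haveI hCn : (Subgroup.zpowers c).Normal := by
    rw [← Subgroup.normalizer_eq_top_iff, eq_top_iff]
    intro w _
    refine hgen _ ?_ ?_ ?_ w
    all_goals refine Subgroup.mem_normalizer_fintype fun m hm => ?_
    all_goals obtain ⟨i, rfl⟩ := Subgroup.mem_zpowers_iff.1 hm
    all_goals rw [← conj_zpow]
    · rw [hgc]; exact zpow_mem (Subgroup.mem_zpowers c) i
    · rw [hhc, ← zpow_mul]; exact zpow_mem (Subgroup.mem_zpowers c) _
    · rw [show z * c * z⁻¹ = c by rw [← hcz c, mul_inv_cancel_right]]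
      exact zpow_mem (Subgroup.mem_zpowers c) i
  have hcomm : commutator G ≤ Subgroup.zpowers c := by
    rw [← QuotientGroup.ker_mk' (Subgroup.zpowers c)]
    set π := QuotientGroup.mk' (Subgroup.zpowers c)
    have hc1 : π c = 1 := (QuotientGroup.eq_one_iff c).2 (Subgroup.mem_zpowers c)
    have gh : Commute (π g) (π h) := by
      have hc2 : π (g * (h * g * h⁻¹)⁻¹) = 1 := hc1
      rw [map_mul, map_inv, map_mul, map_mul, map_inv] at hc2
      have := mul_inv_eq_one.1 hc2
      show π g * π h = π h * π g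
      conv_lhs => rw [this]
      group
    have hzw : ∀ w, Commute (π z) (π w) := fun w => by
      show π z * π w = π w * π z
      rw [← map_mul, ← map_mul, hcz w]
    have hall : ∀ v w : G, Commute (π v) (π w) := by
      intro v w
      obtain ⟨i, j, k, rfl⟩ := all v
      obtain ⟨i', j', k', rfl⟩ := all w
      simp only [map_mul, map_zpow]
      have t1 : Commute (π h) (π g) := gh.symm
      have t2 : Commute (π h) (π z) := (hzw h).symm
      have t3 : Commute (π g) (π z) := (hzw g).symm
      refine Commute.mul_left (Commute.mul_right ?_ (Commute.mul_right ?_ ?_))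
        (Commute.mul_left (Commute.mul_right ?_ (Commute.mul_right ?_ ?_))
          (Commute.mul_right ?_ (Commute.mul_right ?_ ?_)))
      all_goals apply Commute.zpow_zpow
      all_goals first
        | exact Commute.refl _ | exact t1 | exact t1.symm | exact t2 | exact t2.symm | exact t3 | exact t3.symm
    rw [commutator_def, Subgroup.commutator_le]
    intro v _ w _
    rw [MonoidHom.mem_ker, map_commutatorElement, commutatorElement_eq_one_iff_mul_comm]
    exact hall v w
  obtain ⟨s, hs⟩ := hodd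
  have hsq : c * c ∈ Subgroup.zpowers g := by
    rw [hce, ← zpow_two, (hgz.zpow_zpow _ _).mul_zpow, ← zpow_mul, ← zpow_mul, mul_comm (-η), hzz, mul_one]
    exact zpow_mem (Subgroup.mem_zpowers g) _
  haveI hC2 : (Subgroup.zpowers (c * c)).Normal := by
    rw [← Subgroup.normalizer_eq_top_iff, eq_top_iff]
    intro w _
    refine hgen _ ?_ ?_ ?_ w
    all_goals refine Subgroup.mem_normalizer_fintype fun m hm => ?_
    all_goals obtain ⟨i, rfl⟩ := Subgroup.mem_zpowers_iff.1 hm
    all_goals rw [← conj_zpow]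
    · rw [← conj_mul, hgc]; exact zpow_mem (Subgroup.mem_zpowers _) i
    · rw [← conj_mul, hhc, ← (Commute.refl c).mul_zpow, ← zpow_mul]; exact zpow_mem (Subgroup.mem_zpowers _) _
    · rw [show z * (c * c) * z⁻¹ = c * c by rw [← hcz (c * c), mul_inv_cancel_right]]
      exact zpow_mem (Subgroup.mem_zpowers _) i
  have hdeep : deepComm G ≤ Subgroup.zpowers g := by
    refine le_trans (sup_le ?_ ?_) (Subgroup.zpowers_le.2 hsq)
    · rw [Subgroup.commutator_le]
      intro v hv w _
      set π := QuotientGroup.mk' (Subgroup.zpowers (c * c))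
      rw [← QuotientGroup.eq_one_iff, ← QuotientGroup.mk'_apply, map_commutatorElement,
        commutatorElement_eq_one_iff_mul_comm]
      obtain ⟨i, rfl⟩ := Subgroup.mem_zpowers_iff.1 (hcomm hv)
      have hcc : Commute (π c) (π g) := by
        show π c * π g = π g * π c
        rw [← map_mul, ← map_mul]
        exact congrArg π (mul_inv_eq_iff_eq_mul.1 hgc).symm
      have hch : Commute (π c) (π h) := by
        have hh' : π (h * c * h⁻¹) = π c := by
          have h2 : π (c * c) = 1 := (QuotientGroup.eq_one_iff _).2 (Subgroup.mem_zpowers _)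
          rw [hhc, hs, zpow_add, zpow_one, zpow_mul, zpow_two, map_mul, map_zpow, h2, one_zpow, one_mul]
        rw [map_mul, map_mul, map_inv] at hh'
        exact (mul_inv_eq_iff_eq_mul.1 hh').symm
      have hcz' : Commute (π c) (π z) := by
        show π c * π z = π z * π c
        rw [← map_mul, ← map_mul, hcz c]
      rw [map_zpow]
      refine (Commute.zpow_left ?_ i).eq
      obtain ⟨i', j', k', rfl⟩ := all w
      simp only [map_mul, map_zpow]
      exact (hch.zpow_right i').mul_right ((hcc.zpow_right j').mul_right (hcz'.zpow_right k'))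
    · rw [Subgroup.closure_le]
      rintro _ ⟨y, hy, rfl⟩
      obtain ⟨i, rfl⟩ := Subgroup.mem_zpowers_iff.1 (hcomm hy)
      show c ^ i * c ^ i ∈ Subgroup.zpowers (c * c)
      rw [show c ^ i * c ^ i = (c * c) ^ i from ((Commute.refl c).mul_zpow i).symm]
      exact zpow_mem (Subgroup.mem_zpowers _) i
  obtain ⟨j, hj⟩ := Subgroup.mem_zpowers_iff.1 (hdeep hzR)
  refine metacyclic_of_gen (x := g) (y := h) (eq_top_iff.2 fun w _ => ?_) (fun i => ?_) (fun i => ?_)
  · refine hgen _ (Subgroup.subset_closure (by simp)) (Subgroup.subset_closure (by simp)) ?_ w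
    rw [← hj]; exact zpow_mem (Subgroup.subset_closure (by simp)) j
  · rw [← conj_zpow, hu, ← hj]
    exact zpow_mem (mul_mem (zpow_mem (Subgroup.mem_zpowers g) _)
      (zpow_mem (zpow_mem (Subgroup.mem_zpowers g) _) _)) _
  · -- a finite group: stability under `h` gives stability under `h⁻¹`
    have hN' : h ∈ Subgroup.normalizer ((Subgroup.zpowers g : Subgroup G) : Set G) := by
      refine Subgroup.mem_normalizer_fintype fun m hm => ?_
      obtain ⟨k, rfl⟩ := Subgroup.mem_zpowers_iff.1 hm
      rw [← conj_zpow, hu, ← hj]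
      exact zpow_mem (mul_mem (zpow_mem (Subgroup.mem_zpowers g) _)
        (zpow_mem (zpow_mem (Subgroup.mem_zpowers g) _) _)) _
    have := (Subgroup.mem_normalizer_iff.1 (inv_mem hN') (g ^ i)).1 (zpow_mem (Subgroup.mem_zpowers g) i)
    simpa using this

/-- Blackburn: a finite `2`-group is metacyclic when its quotient by `[G', G] G'²` is. -/
theorem metacyclic_lift [Finite G] (hG : IsPGroup 2 G) (hm : Cfsg.IsMetacyclic (G ⧸ deepComm G)) :
    Cfsg.IsMetacyclic G := by
  induction hn : Nat.card G using Nat.strong_induction_on generalizing G with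
  | _ n ih =>
    by_cases hR : deepComm G = ⊥
    · exact metacyclic_equiv ((QuotientGroup.quotientMulEquivOfEq hR).trans QuotientGroup.quotientBot) hm
    haveI := hG.isNilpotent
    obtain ⟨⟨w, hwR, hwC⟩, hw1⟩ := Subgroup.ne_bot_iff_exists_ne_one.1
      (CfsgLib.Solvable.FrattiniFitting.inf_center_ne_bot (deepComm G) hR)
    -- an involution in `zpowers w`
    obtain ⟨k, hk⟩ := IsPGroup.iff_orderOf.1 hG w
    have hk0 : k ≠ 0 := fun e => hw1 (Subtype.ext (orderOf_eq_one_iff.1 (by rw [hk, e, pow_zero])))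
    set z := w ^ (2 ^ (k - 1)) with hz
    have hz2 : z * z = 1 := by
      rw [hz, ← pow_add, ← two_mul, ← pow_succ', Nat.sub_add_cancel (Nat.pos_of_ne_zero hk0), ← hk,
        pow_orderOf_eq_one]
    have hz1 : z ≠ 1 := fun e => by
      have := orderOf_le_of_pow_eq_one (by positivity) (hz ▸ e)
      rw [hk] at this
      have := (Nat.pow_le_pow_iff_right (le_refl 2)).1 this
      omega
    have hzC : z ∈ Subgroup.center G := pow_mem hwC _
    haveI : (Subgroup.zpowers z).Normal := ⟨fun m hm' g => by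
      have hmC : m ∈ Subgroup.center G := Subgroup.zpowers_le.2 hzC hm'
      rwa [Subgroup.mem_center_iff.1 hmC g, mul_inv_cancel_right]⟩
    refine lift_step hG (pow_mem hwR _) hzC hz2 (ih _ ?_ (hG.to_quotient _) ?_ rfl)
    · rw [← hn, Subgroup.card_eq_card_quotient_mul_card_subgroup (Subgroup.zpowers z), Nat.card_zpowers]
      refine lt_mul_of_one_lt_right Nat.card_pos ?_
      rw [orderOf_eq_prime (by rw [pow_two]; exact hz2) hz1]
      norm_num
    · let f : G →* (G ⧸ Subgroup.zpowers z) ⧸ deepComm (G ⧸ Subgroup.zpowers z) :=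
        (QuotientGroup.mk' _).comp (QuotientGroup.mk' _)
      have hle : deepComm G ≤ f.ker := fun x hx => by
        show QuotientGroup.mk' _ (QuotientGroup.mk' _ x) = 1
        rw [QuotientGroup.mk'_apply, QuotientGroup.eq_one_iff,
          ← map_deepComm (QuotientGroup.mk' (Subgroup.zpowers z)) (QuotientGroup.mk'_surjective _)]
        exact ⟨x, hx, rfl⟩
      refine metacyclic_of_surjective (QuotientGroup.lift _ f hle) (fun q => ?_) hm
      obtain ⟨y, rfl⟩ := QuotientGroup.mk'_surjective _ q
      obtain ⟨x, rfl⟩ := QuotientGroup.mk'_surjective _ y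
      exact ⟨QuotientGroup.mk x, rfl⟩

end CfsgLib.Fsys.Bicyclic
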