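import Cfsg.Agent.Lib.FusionSystem.Bicyclic.Basic

/-!
A product of two cyclic `2`-groups with non-cyclic commutator subgroup: the commutator subgroup is generated by
`c = [a, b]` and `m = a ^ (2 ^ r)`, with `[a, c] ≡ m` modulo squares.
-/

set_option autoImplicit false
set_option linter.style.haveILetI false
set_option linter.unusedSectionVars false

open scoped commutatorElement IsMulCommutative

namespace CfsgLib.Fsys.Bicyclic

variable {G : Type*} [Group G] [Finite G] [IsMulCommutative ↥(commutator G)]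

namespace Pre

variable (h : Pre G)

include h in
/-- Doubling. -/
theorem mem_of_two (T : AddSubgroup (DP G)) (hstep : ∀ x : DP G, ∃ t ∈ T, ∃ y : DP G, x = t + (2 : ℤ) • y) :
    ∀ x, x ∈ T := by
  obtain ⟨N, -, hN, -⟩ := h.exists_pow_kill
  have h2 : ∀ j : ℕ, ∀ x : DP G, ∃ t ∈ T, ∃ y : DP G, x = t + ((2 : ℤ) ^ j) • y := by
    intro j
    induction j with
    | zero => exact fun x => ⟨0, T.zero_mem, x, by simp⟩
    | succ j ih =>
      intro x
      obtain ⟨t, ht, y, rfl⟩ := ih x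
      obtain ⟨t', ht', y', rfl⟩ := hstep y
      exact ⟨t + ((2 : ℤ) ^ j) • t', T.add_mem ht (T.zsmul_mem ht' _), y', by
        rw [smul_add, pow_succ, mul_smul, add_assoc]⟩
  intro x
  obtain ⟨t, ht, y, rfl⟩ := h2 N x
  rw [hN, add_zero]
  exact ht

/-- `d = [a, c]`. -/
noncomputable def d : DP G := h.X h.c

/-- `2 P + X ^ (k + 1) P` contains `x`. -/
def In2 (k : ℕ) (x : DP G) : Prop := ∃ y z : DP G, x = (2 : ℤ) • y + (h.X ^ (k + 1)) z

theorem In2.add {k : ℕ} {x x' : DP G} (hx : h.In2 k x) (hx' : h.In2 k x') : h.In2 k (x + x') := by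
  obtain ⟨y, z, rfl⟩ := hx
  obtain ⟨y', z', rfl⟩ := hx'
  exact ⟨y + y', z + z', by rw [smul_add, map_add]; abel⟩

theorem In2.neg {k : ℕ} {x : DP G} (hx : h.In2 k x) : h.In2 k (-x) := by
  obtain ⟨y, z, rfl⟩ := hx
  exact ⟨-y, -z, by rw [smul_neg, map_neg]; abel⟩

theorem In2.zsmul {k : ℕ} {x : DP G} (hx : h.In2 k x) (n : ℤ) : h.In2 k (n • x) := by
  obtain ⟨y, z, rfl⟩ := hx
  exact ⟨n • y, n • z, by rw [map_zsmul, smul_add, smul_comm]⟩

theorem In2.two {k : ℕ} (y : DP G) : h.In2 k ((2 : ℤ) • y) := ⟨y, 0, by rw [map_zero, add_zero]⟩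

theorem In2.pow {k : ℕ} (z : DP G) : h.In2 k ((h.X ^ (k + 1)) z) := ⟨0, z, by rw [smul_zero, zero_add]⟩

theorem In2.map {k : ℕ} {x : DP G} (hx : h.In2 k x) : h.In2 (k + 1) (h.X x) := by
  obtain ⟨y, z, rfl⟩ := hx
  refine ⟨h.X y, z, ?_⟩
  rw [map_add, map_zsmul, pow_succ' h.X (k + 1)]
  rfl

theorem In2.mono {k : ℕ} {x : DP G} (hx : h.In2 (k + 1) x) : h.In2 k x := by
  obtain ⟨y, z, rfl⟩ := hx
  refine ⟨y, h.X z, ?_⟩
  rw [pow_succ h.X (k + 1)]
  rfl

theorem mem_deep_iff {x : DP G} : x ∈ h.deep ↔ h.In2 0 x := by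
  rw [h.mem_deep, In2, zero_add, pow_one]

/-- If `X ^ (k+1)` sends `c` deeper, then `X ^ (k+1)` kills everything modulo squares. -/
theorem pow_collapse {k : ℕ} (hc : h.In2 (k + 1) ((h.X ^ (k + 1)) h.c)) (x : DP G) :
    ∃ y : DP G, (h.X ^ (k + 1)) x = (2 : ℤ) • y := by
  let T : AddSubgroup (DP G) :=
    { carrier := {x | h.In2 (k + 1) ((h.X ^ (k + 1)) x)}
      zero_mem' := by show h.In2 _ _; rw [map_zero]; exact ⟨0, 0, by simp⟩
      add_mem' := fun {u v} hu hv => by show h.In2 _ _; rw [map_add]; exact hu.add h hv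
      neg_mem' := fun {u} hu => by show h.In2 _ _; rw [map_neg]; exact hu.neg h }
  have hXT : ∀ z, h.X z ∈ T := fun z => by
    show h.In2 (k + 1) ((h.X ^ (k + 1)) (h.X z))
    exact ⟨0, z, by rw [smul_zero, zero_add, pow_succ h.X (k + 1)]; rfl⟩
  have hall : ∀ x, x ∈ T := by
    refine h.top_of_step T (fun x _ => hXT x) fun x => ?_
    obtain ⟨j, hj⟩ := h.decomp x
    obtain ⟨u, v, huv⟩ := h.mem_deep.1 hj
    exact ⟨j • h.c, T.zsmul_mem hc j, u, v, by rw [← huv]; abel⟩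
  have hit : ∀ i : ℕ, ∀ x, h.In2 (k + i) ((h.X ^ (k + 1)) x) := by
    intro i
    induction i with
    | zero => exact fun x => ⟨0, x, by simp⟩
    | succ i ih =>
      intro x
      obtain ⟨y, z, hyz⟩ : h.In2 (k + 1) ((h.X ^ (k + 1)) x) := hall x
      rw [hyz]
      refine (In2.two h y).add h ?_
      have hz := (ih z).map h
      rw [pow_succ' h.X (k + 1)]
      exact hz
  obtain ⟨n, hn⟩ := h.X_nilpotent
  obtain ⟨y, z, hyz⟩ := hit n x
  refine ⟨y, ?_⟩
  rw [hyz, show k + n + 1 = n + (k + 1) by omega, pow_add, hn, zero_mul]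
  simp

section NC

variable (hnc : ¬ IsCyclic ↥(commutator G))
include hnc

theorem not_all_multiples : ¬ ∀ x : DP G, x ∈ AddSubgroup.zmultiples h.c := by
  intro hall
  apply hnc
  refine ⟨⟨Additive.toMul h.c, fun g => ?_⟩⟩
  obtain ⟨k, hk⟩ := AddSubgroup.mem_zmultiples_iff.1 (hall (Additive.ofMul g))
  exact ⟨k, congrArg Additive.toMul hk⟩

theorem c_not_deep : h.c ∉ h.deep := by
  intro hc
  apply h.not_all_multiples hnc
  intro x
  have : ∀ x : DP G, x ∈ (⊥ : AddSubgroup (DP G)) := by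
    refine h.top_of_step ⊥ (fun y hy => by rw [AddSubgroup.mem_bot.1 hy, map_zero]; exact zero_mem _) fun y => ?_
    obtain ⟨j, hj⟩ := h.decomp y
    obtain ⟨u, v, huv⟩ := h.mem_deep.1 (h.deep.add_mem (h.deep.zsmul_mem hc j) hj)
    exact ⟨0, zero_mem _, u, v, by rw [← huv]; abel⟩
  rw [AddSubgroup.mem_bot.1 (this x)]
  exact zero_mem _

theorem d_not_in2 : ¬ h.In2 1 h.d := by
  intro hd
  apply h.not_all_multiples hnc
  have hX : ∀ x, ∃ y : DP G, h.X x = (2 : ℤ) • y := fun x => by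
    obtain ⟨y, hy⟩ := h.pow_collapse (k := 0) (by rw [zero_add, pow_one]; exact hd) x
    exact ⟨y, by rw [← hy, zero_add, pow_one]⟩
  refine h.mem_of_two _ fun x => ?_
  obtain ⟨j, hj⟩ := h.decomp x
  obtain ⟨u, v, huv⟩ := h.mem_deep.1 hj
  obtain ⟨w, hw⟩ := hX v
  exact ⟨j • h.c, AddSubgroup.mem_zmultiples_iff.2 ⟨j, rfl⟩, u + w, by
    rw [smul_add, ← hw, ← huv]; abel⟩

theorem even_of_deep {k : ℤ} (hk : k • h.c ∈ h.deep) : Even k := by
  by_contra hne
  obtain ⟨l, rfl⟩ := Int.not_even_iff_odd.1 hne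
  apply h.c_not_deep hnc
  have : h.c = (2 * l + 1) • h.c - l • ((2 : ℤ) • h.c) := by rw [add_smul, one_smul, smul_smul, mul_comm l]; abel
  rw [this]
  exact h.deep.sub_mem hk (h.deep.zsmul_mem (h.mem_deep.2 ⟨h.c, 0, by rw [map_zero, add_zero]⟩) l)

theorem even_of_in2 {k : ℤ} (hk : h.In2 1 (k • h.d)) : Even k := by
  by_contra hne
  obtain ⟨l, rfl⟩ := Int.not_even_iff_odd.1 hne
  apply h.d_not_in2 hnc
  have : h.d = (2 * l + 1) • h.d + -((2 : ℤ) • (l • h.d)) := by rw [add_smul, one_smul, mul_smul]; abel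
  rw [this]
  exact hk.add h ((In2.two h (l • h.d)).neg h)

theorem d_deep : h.d ∈ h.deep := h.mem_deep.2 ⟨0, h.c, by rw [smul_zero, zero_add]; rfl⟩

theorem m_deep : h.m ∈ h.deep := by
  obtain ⟨k, hk⟩ := h.decomp h.m
  have h1 : h.In2 1 (k • h.d) := by
    have h2 := ((h.mem_deep_iff).1 hk).map h
    rw [map_sub, h.X_m, map_zsmul, zero_sub] at h2
    simpa [d] using h2.neg h
  obtain ⟨l, rfl⟩ := h.even_of_in2 hnc h1
  have : h.m = (h.m - (l + l) • h.c) + (2 : ℤ) • (l • h.c) := by rw [two_zsmul, ← add_smul]; abel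
  rw [this]
  exact h.deep.add_mem hk (h.mem_deep.2 ⟨l • h.c, 0, by rw [map_zero, add_zero]⟩)

theorem m_not_in2 {x y : G} (hxy : IsProduct x y) : ¬ h.In2 1 h.m := by
  classical
  intro hm
  let I : Subgroup G :=
    { carrier := {g | ∃ u, h.In2 1 u ∧ ι u = g}
      one_mem' := ⟨0, ⟨0, 0, by simp⟩, rfl⟩
      mul_mem' := by rintro _ _ ⟨u, hu, rfl⟩ ⟨v, hv, rfl⟩; exact ⟨u + v, hu.add h hv, ι_add u v⟩
      inv_mem' := by rintro _ ⟨u, hu, rfl⟩; exact ⟨-u, hu.neg h, ι_neg u⟩ }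
  haveI : I.Normal := ⟨by
    rintro _ ⟨u, ⟨s, t, rfl⟩, rfl⟩ g
    refine ⟨act g ((2 : ℤ) • s + (h.X ^ (1 + 1)) t), ⟨act g s, act g t, ?_⟩, ι_act g _⟩
    rw [map_add, map_zsmul]
    congr 1
    exact (DFunLike.congr_fun ((h.comm_X_act g).pow_left (1 + 1)).eq t).symm⟩
  let π := QuotientGroup.mk' I
  have hI : ∀ u, h.In2 1 u → π (ι u) = 1 := fun u hu => (QuotientGroup.eq_one_iff _).2 ⟨u, hu, rfl⟩
  have hI' : ∀ u, π (ι u) = 1 → h.In2 1 u := fun u hu => by
    obtain ⟨v, hv, hve⟩ := (QuotientGroup.eq_one_iff _).1 hu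
    exact ι_inj hve ▸ hv
  -- fourth powers
  have h4 : ∀ g : G, ∀ i e : ℤ, ∀ u : DP G, g = h.a ^ i * h.b ^ e * ι u → π g ^ (4 : ℤ) = π h.a ^ (4 * i) := by
    intro g i e u hg
    have hsq : (h.a ^ (2 * i))⁻¹ * (g * g) ∈ commutator G := by
      rw [mem_commutator_iff, hg]
      simp only [QuotientGroup.mk_mul, QuotientGroup.mk_inv, QuotientGroup.mk_zpow]
      have hcm : ∀ s t : G ⧸ commutator G, Commute s t := fun s t => by
        obtain ⟨s, rfl⟩ := QuotientGroup.mk_surjective s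
        obtain ⟨t, rfl⟩ := QuotientGroup.mk_surjective t
        rw [← commutatorElement_eq_one_iff_commute]
        exact (QuotientGroup.eq_one_iff _).2
          (Subgroup.commutator_mem_commutator (Subgroup.mem_top s) (Subgroup.mem_top t))
      have hu : ((ι u : G) : G ⧸ commutator G) = 1 := (QuotientGroup.eq_one_iff _).2 (ι_mem u)
      have hb : ((h.b : G) : G ⧸ commutator G) ^ (2 * e) = 1 := by
        rw [zpow_mul, zpow_two, ← QuotientGroup.mk_mul, (QuotientGroup.eq_one_iff _).2 h.b_sq_mem, one_zpow]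
      rw [hu, mul_one]
      calc ((h.a : G ⧸ commutator G) ^ (2 * i))⁻¹ * ((h.a : G ⧸ commutator G) ^ i * (h.b : G ⧸ commutator G) ^ e *
            ((h.a : G ⧸ commutator G) ^ i * (h.b : G ⧸ commutator G) ^ e))
          = ((h.a : G ⧸ commutator G) ^ (2 * i))⁻¹ * (((h.a : G ⧸ commutator G) ^ i * (h.a : G ⧸ commutator G) ^ i) *
            ((h.b : G ⧸ commutator G) ^ e * (h.b : G ⧸ commutator G) ^ e)) := by
            rw [(hcm _ _).mul_mul_mul_comm]
        _ = 1 := by rw [← zpow_add, ← zpow_add, ← two_mul, ← two_mul, hb, mul_one, inv_mul_cancel]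
    obtain ⟨w, hw⟩ := exists_ι hsq
    have hgg : g * g = h.a ^ (2 * i) * ι w := by rw [hw]; group
    have h44 : g ^ (4 : ℤ) = h.a ^ (4 * i) * ι (act (h.a ^ (2 * i))⁻¹ w + w) := by
      rw [show (4 : ℤ) = 2 + 2 by norm_num, zpow_add, zpow_two, hgg, ι_add, ι_act,
        show (2 + 2 : ℤ) * i = 2 * i + 2 * i by ring, zpow_add]
      group
    rw [← map_zpow, h44, map_mul, map_zpow, hI _ ?_, mul_one]
    -- `A ^ 2` is the identity modulo `2 P + X ^ 2 P`
    have hA2 : ∀ (n : ℕ) (v : DP G), h.In2 1 ((h.A ^ (2 * n)) v - v) := by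
      intro n
      induction n with
      | zero => exact fun v => ⟨0, 0, by simp⟩
      | succ n ih =>
        intro v
        rw [show 2 * (n + 1) = 2 * n + 2 by ring, pow_add]
        have e : (h.A ^ (2 * n) * h.A ^ 2) v - v =
            ((h.A ^ (2 * n)) ((h.A ^ 2) v) - (h.A ^ 2) v) + ((2 : ℤ) • h.X v + (h.X ^ (1 + 1)) v) := by
          have : (h.A ^ 2) v = v + (2 : ℤ) • h.X v + (h.X ^ (1 + 1)) v := by
            rw [pow_two, show (1 + 1 : ℕ) = 2 from rfl, pow_two]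
            show h.A (h.A v) = v + (2 : ℤ) • h.X v + h.X (h.X v)
            rw [h.A_apply v, map_add, h.A_apply v, h.A_apply (h.X v), two_zsmul]; abel
          rw [show (h.A ^ (2 * n) * h.A ^ 2) v = (h.A ^ (2 * n)) ((h.A ^ 2) v) from rfl, this]
          abel
        rw [e]
        exact (ih _).add h ((In2.two h _).add h (In2.pow h v))
    obtain ⟨N, hN1, -, hN⟩ := h.exists_pow_kill
    obtain ⟨n, hn⟩ : ∃ n : ℕ, (h.a ^ (2 * i))⁻¹ = h.a ^ (2 * n) := by
      refine ⟨(((-i) % (2 ^ N : ℤ))).toNat, ?_⟩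
      rw [← zpow_natCast, Nat.cast_mul, Int.toNat_of_nonneg (Int.emod_nonneg _ (by positivity)), ← zpow_neg,
        Int.emod_def, show ((2 : ℕ) : ℤ) * (-i - 2 ^ N * ((-i) / 2 ^ N)) = -(2 * i) + 2 ^ N * (-2 * ((-i) / 2 ^ N)) by
          push_cast; ring, zpow_add, zpow_mul h.a (2 ^ N : ℤ)]
      rw [show h.a ^ (2 ^ N : ℤ) = 1 by exact_mod_cast hN h.a, one_zpow, mul_one]
    rw [hn, map_pow, show act h.a = h.A from rfl,
      show (h.A ^ (2 * n)) w + w = ((h.A ^ (2 * n)) w - w) + (2 : ℤ) • w by rw [two_zsmul]; abel]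
    exact (hA2 n w).add h (In2.two h w)
  have ha2r : π h.a ^ (2 ^ h.r : ℤ) = 1 := by rw [← map_zpow, ← h.ι_m]; exact hI _ hm
  -- the upper bound for the order of the quotient
  have hup : ∀ x y : G, IsProduct x y → (∀ (i e : ℤ) u, x = h.a ^ i * h.b ^ e * ι u → Odd i) →
      Nat.card (G ⧸ I) ≤ 2 ^ h.r * 4 := by
    intro x y hxy hodd
    obtain ⟨i, e, u, hx⟩ := h.nf x
    obtain ⟨i', e', u', hy⟩ := h.nf y
    have hi := hodd i e u hx
    have hx4 := h4 x i e u hx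
    have hy4 := h4 y i' e' u' hy
    have hr2 := h.two_le_r
    obtain ⟨s, hs⟩ : ∃ s : ℤ, (2 ^ h.r : ℤ) ∣ 4 * (i * s - i') := by
      have hcop : IsCoprime i ((2 : ℤ) ^ h.r) := by
        refine IsCoprime.pow_right ?_
        obtain ⟨w, rfl⟩ := hi
        exact ⟨1, -w, by ring⟩
      obtain ⟨α, β, hαβ⟩ := hcop
      exact ⟨α * i', -4 * β * i', by linear_combination (4 * i') * hαβ⟩
    have hy4' : π y ^ (4 : ℤ) = π x ^ (4 * s) := by
      obtain ⟨t, ht⟩ := hs
      rw [zpow_mul, hx4, hy4, ← zpow_mul, show 4 * i' = 4 * i * s + 2 ^ h.r * (-t) by linear_combination -ht,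
        zpow_add, zpow_mul (π h.a) (2 ^ h.r : ℤ), ha2r, one_zpow, mul_one]
    have hx2r : π x ^ (2 ^ h.r : ℤ) = 1 := by
      have e2 : (2 ^ h.r : ℤ) = 4 * 2 ^ (h.r - 2) := by
        rw [show (4 : ℤ) = 2 ^ 2 by norm_num, ← pow_add, Nat.add_sub_cancel' hr2]
      rw [e2, zpow_mul, hx4, ← zpow_mul, show 4 * i * 2 ^ (h.r - 2) = 2 ^ h.r * i by rw [e2]; ring,
        zpow_mul, ha2r, one_zpow]
    let f : Fin (2 ^ h.r) × Fin 4 → G ⧸ I := fun q => π x ^ (q.1 : ℤ) * π y ^ (q.2 : ℤ)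
    have hf : Function.Surjective f := by
      intro g
      obtain ⟨g, rfl⟩ := QuotientGroup.mk'_surjective I g
      obtain ⟨k, l, rfl⟩ := hxy g
      refine ⟨(⟨((k + 4 * s * (l / 4)) % 2 ^ h.r).toNat, ?_⟩, ⟨(l % 4).toNat, by omega⟩), ?_⟩
      · have h1 := Int.emod_lt_of_pos (k + 4 * s * (l / 4)) (show (0 : ℤ) < 2 ^ h.r by positivity)
        have h0 := Int.emod_nonneg (k + 4 * s * (l / 4)) (show (2 ^ h.r : ℤ) ≠ 0 by positivity)
        have : (((k + 4 * s * (l / 4)) % 2 ^ h.r).toNat : ℤ) < ((2 ^ h.r : ℕ) : ℤ) := by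
          rw [Int.toNat_of_nonneg h0]; push_cast; exact h1
        exact_mod_cast this
      · show π x ^ ((((k + 4 * s * (l / 4)) % 2 ^ h.r).toNat : ℕ) : ℤ) * π y ^ (((l % 4).toNat : ℕ) : ℤ) = π (x ^ k * y ^ l)
        rw [map_mul, map_zpow, map_zpow, Int.toNat_of_nonneg (Int.emod_nonneg _ (by positivity)),
          Int.toNat_of_nonneg (Int.emod_nonneg _ (by norm_num))]
        conv_rhs => rw [show l = 4 * (l / 4) + l % 4 from (Int.mul_ediv_add_emod l 4).symm, zpow_add, zpow_mul,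
          hy4', ← zpow_mul, ← mul_assoc, ← zpow_add]
        congr 1
        rw [Int.emod_def, sub_eq_add_neg, zpow_add, ← mul_neg, zpow_mul (π x) (2 ^ h.r : ℤ), hx2r, one_zpow,
          mul_one]
    exact (Nat.card_le_card_of_surjective f hf).trans (by simp)
  -- the lower bound
  have hlow : 2 ^ h.r * 8 ≤ Nat.card (G ⧸ I) := by
    let f : Fin (2 ^ h.r) × Fin 2 × Fin 2 × Fin 2 → G ⧸ I := fun q =>
      π (h.a ^ (q.1 : ℤ) * h.b ^ (q.2.1 : ℤ) * ι ((q.2.2.1 : ℤ) • h.c + (q.2.2.2 : ℤ) • h.d))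
    have hf : Function.Injective f := by
      rintro ⟨i, e, k, l⟩ ⟨i', e', k', l'⟩ hq
      obtain ⟨w, hw, hwe⟩ := QuotientGroup.eq.1 hq
      dsimp only at hwe hw
      have hsep : h.a ^ ((i' : ℤ) - i) * h.b ^ ((e' : ℤ) - e) ∈ commutator G := by
        have h1 : ((ι ((k : ℤ) • h.c + (l : ℤ) • h.d))⁻¹ * ((h.b ^ (e : ℤ))⁻¹ * ((h.a ^ (i : ℤ))⁻¹ *
            h.a ^ (i' : ℤ)) * h.b ^ (e' : ℤ)) * ι ((k' : ℤ) • h.c + (l' : ℤ) • h.d)) ∈ commutator G := by
          have := ι_mem w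
          rw [hwe] at this
          convert this using 1
          group
        have h2 := mul_mem (mul_mem (ι_mem ((k : ℤ) • h.c + (l : ℤ) • h.d)) h1)
          (inv_mem (ι_mem ((k' : ℤ) • h.c + (l' : ℤ) • h.d)))
        have h3 := Subgroup.Normal.conj_mem (inferInstance : (commutator G).Normal) _ h2 (h.b ^ (e : ℤ))
        convert h3 using 1
        rw [zpow_sub h.b, zpow_sub h.a]
        simp only [mul_assoc]
        have hc1 : h.a ^ (i' : ℤ) * (h.a ^ (i : ℤ))⁻¹ = (h.a ^ (i : ℤ))⁻¹ * h.a ^ (i' : ℤ) :=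
          ((Commute.refl h.a).zpow_zpow _ _).inv_right.eq
        rw [← mul_assoc (h.a ^ (i' : ℤ)), hc1]
        group
      obtain ⟨hi, he⟩ := h.sep.1 hsep
      have hii : i = i' := Fin.ext (by
        have h1 : (((i' : ℕ) : ℤ) - (i : ℕ)) = 0 := by
          refine Int.eq_zero_of_abs_lt_dvd hi ?_
          have := i.2; have := i'.2
          rw [abs_lt]
          constructor <;> [skip; skip] <;> push_cast <;> zify at * <;> omega
        omega)
      have hee : e = e' := Fin.ext (by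
        obtain ⟨t, ht⟩ := he
        have := e.2; have := e'.2
        omega)
      subst hii hee
      have hw' : w = -((k : ℤ) • h.c + (l : ℤ) • h.d) + ((k' : ℤ) • h.c + (l' : ℤ) • h.d) := by
        refine ι_inj ?_
        rw [hwe, ι_add (-_), ι_neg]
        group
      have hk : Even ((k' : ℤ) - k) := by
        refine h.even_of_deep hnc ?_
        have h1 : w ∈ h.deep := h.mem_deep_iff.2 (hw.mono h)
        have e1 : ((k' : ℤ) - k) • h.c = w - ((l' : ℤ) - l) • h.d := by rw [hw', sub_smul, sub_smul]; abel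
        rw [e1]
        exact h.deep.sub_mem h1 (h.deep.zsmul_mem (h.d_deep hnc) _)
      have hkk : k = k' := Fin.ext (by
        obtain ⟨t, ht⟩ := hk
        have := k.2; have := k'.2
        omega)
      subst hkk
      have hl : Even ((l' : ℤ) - l) := by
        refine h.even_of_in2 hnc ?_
        have e1 : ((l' : ℤ) - l) • h.d = w := by rw [hw', sub_smul]; abel
        rw [e1]
        exact hw
      have hll : l = l' := Fin.ext (by
        obtain ⟨t, ht⟩ := hl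
        have := l.2; have := l'.2
        omega)
      rw [hll]
    calc 2 ^ h.r * 8 = Nat.card (Fin (2 ^ h.r) × Fin 2 × Fin 2 × Fin 2) := by simp
      _ ≤ _ := Nat.card_le_card_of_injective f hf
  have hpos : 0 < 2 ^ h.r := by positivity
  by_cases hodd : ∀ (i e : ℤ) u, x = h.a ^ i * h.b ^ e * ι u → Odd i
  · have := hlow.trans (hup x y hxy hodd)
    omega
  · have hyx : IsProduct y x := fun g => by
      obtain ⟨k, l, hkl⟩ := hxy g⁻¹
      exact ⟨-l, -k, by rw [← inv_inv g, hkl]; group⟩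
    refine absurd (hlow.trans (hup y x hyx ?_)) (by omega)
    intro i' e' u' hy
    push Not at hodd
    obtain ⟨i, e, u, hx, hi⟩ := hodd
    by_contra hi'
    rw [Int.not_odd_iff_even] at hi hi'
    -- then every exponent of `a` is even
    set μ := QuotientGroup.mk' (commutator G)
    obtain ⟨k, l, hkl⟩ := hxy h.a
    have hcm : ∀ s t : G ⧸ commutator G, Commute s t := fun s t => by
      obtain ⟨s, rfl⟩ := QuotientGroup.mk_surjective s
      obtain ⟨t, rfl⟩ := QuotientGroup.mk_surjective t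
      rw [← commutatorElement_eq_one_iff_commute]
      exact (QuotientGroup.eq_one_iff _).2
        (Subgroup.commutator_mem_commutator (Subgroup.mem_top s) (Subgroup.mem_top t))
    have hμ : μ h.a = μ h.a ^ (i * k + i' * l) * μ h.b ^ (e * k + e' * l) := by
      have hu : ∀ w : DP G, μ (ι w) = 1 := fun w => (QuotientGroup.eq_one_iff _).2 (ι_mem w)
      conv_lhs => rw [hkl, hx, hy]
      simp only [map_mul, map_zpow, hu, mul_one]
      rw [(hcm _ _).mul_zpow, (hcm _ _).mul_zpow, ← zpow_mul, ← zpow_mul, ← zpow_mul, ← zpow_mul,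
        (hcm _ _).mul_mul_mul_comm, ← zpow_add, ← zpow_add]
    have hone : h.a ^ (i * k + i' * l - 1) * h.b ^ (e * k + e' * l) ∈ commutator G := by
      rw [← QuotientGroup.eq_one_iff, ← QuotientGroup.mk'_apply, map_mul, map_zpow, map_zpow, zpow_sub, zpow_one,
        mul_assoc, (hcm (μ h.a)⁻¹ _).eq, ← mul_assoc, ← hμ, mul_inv_cancel]
    obtain ⟨hdiv, -⟩ := h.sep.1 hone
    have h2 : (2 : ℤ) ∣ i * k + i' * l - 1 := (dvd_pow_self 2 (by have := h.two_le_r; omega)).trans hdiv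
    obtain ⟨a1, rfl⟩ := hi
    obtain ⟨a2, rfl⟩ := hi'
    obtain ⟨t, ht⟩ := h2
    have : (2 : ℤ) * (a1 * k + a2 * l - t) = 1 := by linear_combination ht
    omega

/-- The structure of the commutator subgroup. -/
theorem structure_nc {x y : G} (hxy : IsProduct x y) :
    (∀ w : DP G, ∃ k l : ℤ, w = k • h.c + l • h.m) ∧
      (∀ k l : ℤ, (∃ w : DP G, k • h.c + l • h.m = (2 : ℤ) • w) → Even k ∧ Even l) ∧
      (∃ j ε p s : ℤ, Odd ε ∧ h.d = (2 * j) • h.c + ε • h.m ∧ h.q = (2 * p) • h.c + s • h.m) := by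
  -- `m ≡ d` modulo `2 P + X ^ 2 P`
  obtain ⟨u, z, huz⟩ := h.mem_deep.1 (h.m_deep hnc)
  obtain ⟨l, hl⟩ := h.decomp z
  have hml : h.In2 1 (h.m - l • h.d) := by
    have e : h.m - l • h.d = (2 : ℤ) • u + h.X (z - l • h.c) := by
      rw [huz, map_sub, map_zsmul, d]; abel
    rw [e]
    exact (In2.two h u).add h (((h.mem_deep_iff).1 hl).map h)
  have hlodd : Odd l := by
    by_contra hne
    obtain ⟨t, rfl⟩ := Int.not_odd_iff_even.1 hne
    apply h.m_not_in2 hnc hxy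
    have := hml.add h (In2.two h (t • h.d))
    rwa [two_zsmul, ← add_smul, sub_add_cancel] at this
  -- `X ^ 2` is zero modulo `2`
  have hXX : ∀ w, ∃ v : DP G, h.X (h.X w) = (2 : ℤ) • v := by
    have hcc : h.In2 (1 + 1) ((h.X ^ (1 + 1)) h.c) := by
      have h2 := hml.map h
      rw [map_sub, h.X_m, map_zsmul, zero_sub] at h2
      obtain ⟨t, ht⟩ := hlodd
      have e : (h.X ^ (1 + 1)) h.c = -(-(l • h.X h.d)) + -((2 : ℤ) • (t • h.X h.d)) := by
        rw [neg_neg, ht, add_smul, one_smul, mul_smul, show (1 + 1 : ℕ) = 2 from rfl, pow_two]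
        show h.X (h.X h.c) = _
        rw [d]; abel
      rw [e]
      exact (h2.neg h).add h ((In2.two h _).neg h)
    intro w
    obtain ⟨v, hv⟩ := h.pow_collapse (k := 1) hcc w
    refine ⟨v, ?_⟩
    rw [← hv, show (1 + 1 : ℕ) = 2 from rfl, pow_two]
    rfl
  have hI2 : ∀ w, h.In2 1 w → ∃ v : DP G, w = (2 : ℤ) • v := by
    rintro w ⟨s, t, rfl⟩
    obtain ⟨v, hv⟩ := hXX t
    refine ⟨s + v, ?_⟩
    rw [smul_add, ← hv, show (1 + 1 : ℕ) = 2 from rfl, pow_two]
    rfl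
  obtain ⟨w0, hw0⟩ := hI2 _ hml
  have hdm : ∃ v : DP G, h.d = h.m + (2 : ℤ) • v := by
    obtain ⟨t, rfl⟩ := hlodd
    refine ⟨-w0 - t • h.d, ?_⟩
    have : h.m = (2 * t + 1) • h.d + (2 : ℤ) • w0 := by rw [← hw0]; abel
    rw [this, add_smul, one_smul, mul_smul, smul_sub, smul_neg]; abel
  obtain ⟨v0, hv0⟩ := hdm
  let T : AddSubgroup (DP G) :=
    { carrier := {w | ∃ k l : ℤ, w = k • h.c + l • h.m}
      zero_mem' := ⟨0, 0, by simp⟩
      add_mem' := by
        rintro _ _ ⟨k, l, rfl⟩ ⟨k', l', rfl⟩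
        exact ⟨k + k', l + l', by rw [add_smul, add_smul]; abel⟩
      neg_mem' := by rintro _ ⟨k, l, rfl⟩; exact ⟨-k, -l, by rw [neg_smul, neg_smul]; abel⟩ }
  have hgen : ∀ w : DP G, ∃ k l : ℤ, w = k • h.c + l • h.m := by
    refine h.mem_of_two T fun w => ?_
    obtain ⟨k, hk⟩ := h.decomp w
    obtain ⟨s, t, hst⟩ := h.mem_deep.1 hk
    obtain ⟨k', hk'⟩ := h.decomp t
    obtain ⟨w1, hw1⟩ := hI2 _ (((h.mem_deep_iff).1 hk').map h)
    refine ⟨k • h.c + k' • h.m, ⟨k, k', rfl⟩, s + w1 + k' • v0, ?_⟩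
    have e1 : w = k • h.c + ((2 : ℤ) • s + h.X t) := by rw [← hst]; abel
    have e2 : h.X t = k' • h.d + (2 : ℤ) • w1 := by rw [← hw1, map_sub, map_zsmul, d]; abel
    rw [e1, e2, hv0, smul_add, smul_add, smul_add, smul_comm (2 : ℤ) k']; abel
  have hind : ∀ k l : ℤ, (∃ w : DP G, k • h.c + l • h.m = (2 : ℤ) • w) → Even k ∧ Even l := by
    rintro k l ⟨w, hw⟩
    have hk : Even k := by
      refine h.even_of_deep hnc ?_
      have e : k • h.c = (2 : ℤ) • w - l • h.m := by rw [← hw]; abel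
      rw [e]
      exact h.deep.sub_mem (h.mem_deep.2 ⟨w, 0, by rw [map_zero, add_zero]⟩) (h.deep.zsmul_mem (h.m_deep hnc) l)
    refine ⟨hk, h.even_of_in2 hnc ?_⟩
    obtain ⟨k', rfl⟩ := hk
    have e : l • h.d = (2 : ℤ) • (w - k' • h.c + l • v0) := by
      rw [hv0, smul_add, smul_add, smul_sub, smul_comm (2 : ℤ) l, ← hw, two_zsmul (k' • h.c), ← add_smul]
      abel
    rw [e]
    exact In2.two h _
  obtain ⟨α, ε, hd⟩ := hgen h.d
  obtain ⟨β, s, hq⟩ := hgen h.q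
  have hα : Even α := by
    refine h.even_of_deep hnc ?_
    rw [show α • h.c = h.d - ε • h.m by rw [hd]; abel]
    exact h.deep.sub_mem (h.d_deep hnc) (h.deep.zsmul_mem (h.m_deep hnc) ε)
  have hβ : Even β := by
    refine h.even_of_deep hnc ?_
    rw [show β • h.c = h.q - s • h.m by rw [hq]; abel]
    exact h.deep.sub_mem h.q_deep (h.deep.zsmul_mem (h.m_deep hnc) s)
  obtain ⟨j, rfl⟩ := hα
  obtain ⟨p, rfl⟩ := hβ
  refine ⟨hgen, hind, j, ε, p, s, ?_, by rw [two_mul]; exact hd, by rw [two_mul]; exact hq⟩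
  by_contra hne
  obtain ⟨t, rfl⟩ := Int.not_odd_iff_even.1 hne
  apply h.d_not_in2 hnc
  rw [hd]
  have : (j + j) • h.c + (t + t) • h.m = (2 : ℤ) • (j • h.c + t • h.m) := by
    rw [two_zsmul, add_smul, add_smul]; abel
  rw [this]
  exact In2.two h _

end NC

end Pre

end CfsgLib.Fsys.Bicyclic
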