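import Mathlib
import Cfsg.Agent.Lib.PGroup.Frattini

/-!
The Frattini stability criterion for essential subgroups, stated inside the group.
-/

set_option autoImplicit false
set_option linter.style.haveILetI false

open scoped commutatorElement

namespace CfsgLib.Fsys.Bicyclic

variable {G : Type*} [Group G]

/-- The Frattini subgroup of `H`, as a subgroup of `G`. -/
def Phi (H : Subgroup G) : Subgroup G := (frattini ↥H).map H.subtype

/-- `L` is invariant under every automorphism of `H`. -/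
def AutInv (H L : Subgroup G) : Prop := ∀ (α : MulAut ↥H) (v : ↥H), (v : G) ∈ L → (α v : G) ∈ L

/-- What is used of an essential subgroup: it is self-centralising and proper, and an element of its normaliser
stabilising an invariant series `Φ(H) ≤ L ≤ H` lies in it. -/
structure Stab (H : Subgroup G) : Prop where
  cent : Subgroup.centralizer (H : Set G) ≤ H
  lt : H ≠ ⊤
  stab : ∀ n ∈ Subgroup.normalizer (H : Set G), ∀ L : Subgroup G, Phi H ≤ L → L ≤ H → AutInv H L →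
    (∀ v ∈ L, v⁻¹ * (n * v * n⁻¹) ∈ Phi H) → (∀ v ∈ H, v⁻¹ * (n * v * n⁻¹) ∈ L) → n ∈ H

variable {H : Subgroup G}

theorem Phi_le : Phi H ≤ H := Subgroup.map_subtype_le _

theorem Phi_autInv : AutInv H (Phi H) := by
  intro α v hv
  obtain ⟨w, hw, hwv⟩ := hv
  rw [show v = w from Subtype.ext hwv.symm]
  exact ⟨α w, (Subgroup.characteristic_iff_map_le.1 frattini_characteristic α) ⟨w, hw, rfl⟩, rfl⟩

theorem sq_mem_Phi [Finite G] (hG : IsPGroup 2 G) {v : G} (hv : v ∈ H) : v * v ∈ Phi H := by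
  haveI : Fact (Nat.Prime 2) := ⟨Nat.prime_two⟩
  refine ⟨(⟨v, hv⟩ : H) ^ 2, CfsgLib.PGroup.Frattini.pow_mem_frattini (hG.to_subgroup H) _, ?_⟩
  rw [pow_two]; rfl

theorem comm_mem_Phi [Finite G] (hG : IsPGroup 2 G) {v w : G} (hv : v ∈ H) (hw : w ∈ H) : ⁅v, w⁆ ∈ Phi H := by
  haveI : Fact (Nat.Prime 2) := ⟨Nat.prime_two⟩
  exact ⟨⁅(⟨v, hv⟩ : H), ⟨w, hw⟩⁆, CfsgLib.PGroup.Frattini.commutatorElement_mem_frattini (hG.to_subgroup H) _ _,
    rfl⟩

/-- An element moving a generating set of `H` inside `H` normalises `H`. -/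
theorem mem_normalizer_of_gen [Finite G] {Y : Set G} (hY : H ≤ Subgroup.closure Y) (hYH : Y ⊆ H) {n : G}
    (hn : ∀ y ∈ Y, y⁻¹ * (n * y * n⁻¹) ∈ H) : n ∈ Subgroup.normalizer (H : Set G) := by
  refine Subgroup.mem_normalizer_fintype fun v hv => ?_
  have : Subgroup.closure Y ≤ H.comap (MulAut.conj n).toMonoidHom := by
    rw [Subgroup.closure_le]
    intro y hy
    show n * y * n⁻¹ ∈ H
    simpa using mul_mem (hYH hy) (hn y hy)
  exact this (hY hv)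

theorem autInv_conj {L : Subgroup G} (hL : AutInv H L) {g v : G} (hg : g ∈ H) (hv : v ∈ L) (hvH : v ∈ H) :
    g * v * g⁻¹ ∈ L :=
  hL (MulAut.conj (⟨g, hg⟩ : H)) ⟨v, hvH⟩ hv

theorem shift_mem [Finite G] (hG : IsPGroup 2 G) {L : Subgroup G} (hΦ : Phi H ≤ L) {Y : Set G}
    (hY : H ≤ Subgroup.closure Y) {n : G} (hn : n ∈ Subgroup.normalizer (H : Set G)) (hYH : Y ⊆ H)
    (hs : ∀ y ∈ Y, y⁻¹ * (n * y * n⁻¹) ∈ L) (hLH : L ≤ H) {v : G} (hv : v ∈ H) : v⁻¹ * (n * v * n⁻¹) ∈ L := by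
  have key : Subgroup.closure Y ≤ H ∧ ∀ v ∈ Subgroup.closure Y, v ∈ H ∧ v⁻¹ * (n * v * n⁻¹) ∈ L := by
    refine ⟨(Subgroup.closure_le _).2 hYH, fun v hv => ?_⟩
    induction hv using Subgroup.closure_induction with
    | mem y hy => exact ⟨hYH hy, hs y hy⟩
    | one => exact ⟨one_mem _, by simp⟩
    | mul x y _ _ hx hy =>
      refine ⟨mul_mem hx.1 hy.1, ?_⟩
      have hc : ⁅y⁻¹, x⁻¹ * (n * x * n⁻¹)⁆ ∈ L := hΦ (comm_mem_Phi hG (inv_mem hy.1) (hLH hx.2))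
      rw [show (x * y)⁻¹ * (n * (x * y) * n⁻¹) =
        ⁅y⁻¹, x⁻¹ * (n * x * n⁻¹)⁆ * (x⁻¹ * (n * x * n⁻¹)) * (y⁻¹ * (n * y * n⁻¹)) by
          rw [commutatorElement_def]; group]
      exact mul_mem (mul_mem hc hx.2) hy.2
    | inv x _ hx =>
      refine ⟨inv_mem hx.1, ?_⟩
      have hc : ⁅x, (x⁻¹ * (n * x * n⁻¹))⁻¹⁆ ∈ L := hΦ (comm_mem_Phi hG hx.1 (inv_mem (hLH hx.2)))
      rw [show x⁻¹⁻¹ * (n * x⁻¹ * n⁻¹) =
        ⁅x, (x⁻¹ * (n * x * n⁻¹))⁻¹⁆ * (x⁻¹ * (n * x * n⁻¹))⁻¹ by rw [commutatorElement_def]; group]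
      exact mul_mem hc (inv_mem hx.2)
  exact (key.2 v (hY hv)).2

/-- The criterion, with a generating set of `H` and generators of `L` over the Frattini subgroup. -/
theorem Stab.mem [Finite G] (hs : Stab H) (hG : IsPGroup 2 G) {n : G} (hn : n ∈ Subgroup.normalizer (H : Set G))
    (L : Subgroup G) (hΦ : Phi H ≤ L) (hLH : L ≤ H) (hinv : AutInv H L) {Z : Set G}
    (hZ : L ≤ Subgroup.closure (Z ∪ Phi H)) (hZH : Z ⊆ H) (h1 : ∀ z ∈ Z, z⁻¹ * (n * z * n⁻¹) ∈ Phi H) {Y : Set G}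
    (hY : H ≤ Subgroup.closure Y) (hYH : Y ⊆ H) (h2 : ∀ y ∈ Y, y⁻¹ * (n * y * n⁻¹) ∈ L) : n ∈ H := by
  refine hs.stab n hn L hΦ hLH hinv (fun v hv => ?_) fun v hv => shift_mem hG hΦ hY hn hYH h2 hLH hv
  have hΦn : ∀ w ∈ Phi H, w⁻¹ * (n * w * n⁻¹) ∈ Phi H := by
    intro w hw
    let α : MulAut H := Subgroup.normalizerMonoidHom H ⟨n, hn⟩
    exact mul_mem (inv_mem hw) (Phi_autInv α ⟨w, Phi_le hw⟩ hw)
  have hv' := hZ hv
  clear hv
  induction hv' using Subgroup.closure_induction with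
  | mem y hy => exact hy.elim (h1 y) (hΦn y)
  | one => simp
  | mul x y hxc hyc hx hy =>
    have hle : Subgroup.closure (Z ∪ Phi H) ≤ H :=
      (Subgroup.closure_le _).2 (Set.union_subset hZH Phi_le)
    rw [show (x * y)⁻¹ * (n * (x * y) * n⁻¹) =
      (y⁻¹ * (x⁻¹ * (n * x * n⁻¹)) * y⁻¹⁻¹) * (y⁻¹ * (n * y * n⁻¹)) by group]
    exact mul_mem (autInv_conj Phi_autInv (inv_mem (hle hyc)) hx (Phi_le hx)) hy
  | inv x hxc hx =>
    have hle : Subgroup.closure (Z ∪ Phi H) ≤ H :=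
      (Subgroup.closure_le _).2 (Set.union_subset hZH Phi_le)
    rw [show x⁻¹⁻¹ * (n * x⁻¹ * n⁻¹) = x * (x⁻¹ * (n * x * n⁻¹))⁻¹ * x⁻¹ by group]
    exact autInv_conj Phi_autInv (hle hxc) (inv_mem hx) (inv_mem (Phi_le hx))

/-- An element acting trivially modulo the Frattini subgroup lies in `H`. -/
theorem Stab.mem_of_central [Finite G] (hs : Stab H) (hG : IsPGroup 2 G) {n : G} {Y : Set G}
    (hY : H ≤ Subgroup.closure Y) (hYH : Y ⊆ H) (h2 : ∀ y ∈ Y, y⁻¹ * (n * y * n⁻¹) ∈ Phi H) : n ∈ H :=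
  hs.mem hG (mem_normalizer_of_gen hY hYH fun y hy => Phi_le (h2 y hy)) (Phi H) le_rfl Phi_le Phi_autInv
    (Z := ∅) (fun x hx => Subgroup.subset_closure (Or.inr hx)) (Set.empty_subset _) (fun z hz => hz.elim)
    hY hYH h2

/-- The criterion with commutators `⁅n, y⁆` for the shifts. -/
theorem Stab.mem' [Finite G] (hs : Stab H) (hG : IsPGroup 2 G) {n : G} (L : Subgroup G) (hΦ : Phi H ≤ L)
    (hLH : L ≤ H) (hinv : AutInv H L) {Z : Set G} (hZ : L ≤ Subgroup.closure (Z ∪ Phi H)) (hZH : Z ⊆ H)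
    (h1 : ∀ z ∈ Z, ⁅n, z⁆ ∈ Phi H) {Y : Set G} (hY : H ≤ Subgroup.closure Y) (hYH : Y ⊆ H)
    (h2 : ∀ y ∈ Y, ⁅n, y⁆ ∈ L) : n ∈ H := by
  have conv : ∀ {M : Subgroup G}, AutInv H M → M ≤ H → ∀ {y : G}, y ∈ H → ⁅n, y⁆ ∈ M →
      y⁻¹ * (n * y * n⁻¹) ∈ M := by
    intro M hM hMH y hy hc
    rw [show y⁻¹ * (n * y * n⁻¹) = y⁻¹ * ⁅n, y⁆ * y⁻¹⁻¹ by rw [commutatorElement_def]; group]
    exact autInv_conj hM (inv_mem hy) hc (hMH hc)
  exact hs.mem hG (mem_normalizer_of_gen hY hYH fun y hy => hLH (conv hinv hLH (hYH hy) (h2 y hy))) L hΦ hLH hinv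
    hZ hZH (fun z hz => conv Phi_autInv Phi_le (hZH hz) (h1 z hz)) hY hYH
    (fun y hy => conv hinv hLH (hYH hy) (h2 y hy))

/-- An element whose commutators with generators lie in the Frattini subgroup lies in `H`. -/
theorem Stab.mem_of_central' [Finite G] (hs : Stab H) (hG : IsPGroup 2 G) {n : G} {Y : Set G}
    (hY : H ≤ Subgroup.closure Y) (hYH : Y ⊆ H) (h2 : ∀ y ∈ Y, ⁅n, y⁆ ∈ Phi H) : n ∈ H :=
  hs.mem' hG (Phi H) le_rfl Phi_le Phi_autInv (Z := ∅) (fun _ hx => Subgroup.subset_closure (Or.inr hx))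
    (Set.empty_subset _) (fun _ hz => hz.elim) hY hYH h2

/-- `Φ(H)` together with an invariant subset generates an invariant subgroup. -/
theorem autInv_sup_closure {Z : Set G} (hZH : Z ⊆ H)
    (hinv : ∀ (α : MulAut ↥H) (v : ↥H), (v : G) ∈ Z → (α v : G) ∈ Z) : AutInv H (Phi H ⊔ Subgroup.closure Z) := by
  intro α v hv
  have hsub : Phi H ⊔ Subgroup.closure Z ≤ H := sup_le Phi_le ((Subgroup.closure_le _).2 hZH)
  let T : Subgroup G :=
    { carrier := {x | ∃ hx : x ∈ H, (α ⟨x, hx⟩ : G) ∈ Phi H ⊔ Subgroup.closure Z}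
      one_mem' := ⟨one_mem _, by rw [show (⟨1, one_mem H⟩ : H) = 1 from rfl, map_one]; exact one_mem _⟩
      mul_mem' := by
        rintro x y ⟨hx, hx'⟩ ⟨hy, hy'⟩
        exact ⟨mul_mem hx hy, by
          rw [show (⟨x * y, mul_mem hx hy⟩ : H) = ⟨x, hx⟩ * ⟨y, hy⟩ from rfl, map_mul]
          exact mul_mem hx' hy'⟩
      inv_mem' := by
        rintro x ⟨hx, hx'⟩
        exact ⟨inv_mem hx, by
          rw [show (⟨x⁻¹, inv_mem hx⟩ : H) = ⟨x, hx⟩⁻¹ from rfl, map_inv]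
          exact inv_mem hx'⟩ }
  have hT : Phi H ⊔ Subgroup.closure Z ≤ T :=
    sup_le (fun x hx => ⟨Phi_le hx, Subgroup.mem_sup_left (Phi_autInv α ⟨x, Phi_le hx⟩ hx)⟩)
      ((Subgroup.closure_le _).2 fun x hx =>
        ⟨hZH hx, Subgroup.mem_sup_right (Subgroup.subset_closure (hinv α ⟨x, hZH hx⟩ hx))⟩)
  obtain ⟨_, h⟩ := hT hv
  exact h

/-- An invariant subset generates an invariant subgroup. -/
theorem autInv_closure {Z : Set G} (hZH : Z ⊆ H)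
    (hinv : ∀ (α : MulAut ↥H) (v : ↥H), (v : G) ∈ Z → (α v : G) ∈ Z) : AutInv H (Subgroup.closure Z) := by
  intro α v hv
  let T : Subgroup G :=
    { carrier := {x | ∃ hx : x ∈ H, (α ⟨x, hx⟩ : G) ∈ Subgroup.closure Z}
      one_mem' := ⟨one_mem _, by rw [show (⟨1, one_mem H⟩ : H) = 1 from rfl, map_one]; exact one_mem _⟩
      mul_mem' := by
        rintro x y ⟨hx, hx'⟩ ⟨hy, hy'⟩
        exact ⟨mul_mem hx hy, by
          rw [show (⟨x * y, mul_mem hx hy⟩ : H) = ⟨x, hx⟩ * ⟨y, hy⟩ from rfl, map_mul]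
          exact mul_mem hx' hy'⟩
      inv_mem' := by
        rintro x ⟨hx, hx'⟩
        exact ⟨inv_mem hx, by
          rw [show (⟨x⁻¹, inv_mem hx⟩ : H) = ⟨x, hx⟩⁻¹ from rfl, map_inv]
          exact inv_mem hx'⟩ }
  have hT : Subgroup.closure Z ≤ T := (Subgroup.closure_le _).2 fun x hx =>
    ⟨hZH hx, Subgroup.subset_closure (hinv α ⟨x, hZH hx⟩ hx)⟩
  obtain ⟨_, h⟩ := hT hv
  exact h

/-- The squares of `⁅H, H⁆`. -/
def sqComm (H : Subgroup G) : Subgroup G := Subgroup.closure ((fun u => u * u) '' (⁅H, H⁆ : Subgroup G))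

theorem comm_autInv : AutInv H ⁅H, H⁆ := by
  intro α v hv
  have hle : ⁅H, H⁆ ≤ H := Subgroup.commutator_le.2 fun x hx y hy => by
    rw [commutatorElement_def]; exact mul_mem (mul_mem (mul_mem hx hy) (inv_mem hx)) (inv_mem hy)
  let T : Subgroup G :=
    { carrier := {x | ∃ hx : x ∈ H, (α ⟨x, hx⟩ : G) ∈ ⁅H, H⁆}
      one_mem' := ⟨one_mem _, by rw [show (⟨1, one_mem H⟩ : H) = 1 from rfl, map_one]; exact one_mem _⟩
      mul_mem' := by
        rintro x y ⟨hx, hx'⟩ ⟨hy, hy'⟩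
        exact ⟨mul_mem hx hy, by
          rw [show (⟨x * y, mul_mem hx hy⟩ : H) = ⟨x, hx⟩ * ⟨y, hy⟩ from rfl, map_mul]
          exact mul_mem hx' hy'⟩
      inv_mem' := by
        rintro x ⟨hx, hx'⟩
        exact ⟨inv_mem hx, by
          rw [show (⟨x⁻¹, inv_mem hx⟩ : H) = ⟨x, hx⟩⁻¹ from rfl, map_inv]
          exact inv_mem hx'⟩ }
  have hT : ⁅H, H⁆ ≤ T := Subgroup.commutator_le.2 fun x hx y hy => by
    refine ⟨hle (Subgroup.commutator_mem_commutator hx hy), ?_⟩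
    rw [show (⟨⁅x, y⁆, hle (Subgroup.commutator_mem_commutator hx hy)⟩ : H) = ⁅(⟨x, hx⟩ : H), ⟨y, hy⟩⁆ from rfl,
      map_commutatorElement]
    exact Subgroup.commutator_mem_commutator (α ⟨x, hx⟩).2 (α ⟨y, hy⟩).2
  obtain ⟨_, h⟩ := hT hv
  exact h

theorem sqComm_autInv : AutInv H (sqComm H) := by
  intro α v hv
  have hle : ⁅H, H⁆ ≤ H := Subgroup.commutator_le.2 fun x hx y hy => by
    rw [commutatorElement_def]; exact mul_mem (mul_mem (mul_mem hx hy) (inv_mem hx)) (inv_mem hy)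
  let T : Subgroup G :=
    { carrier := {x | ∃ hx : x ∈ H, (α ⟨x, hx⟩ : G) ∈ sqComm H}
      one_mem' := ⟨one_mem _, by rw [show (⟨1, one_mem H⟩ : H) = 1 from rfl, map_one]; exact one_mem _⟩
      mul_mem' := by
        rintro x y ⟨hx, hx'⟩ ⟨hy, hy'⟩
        exact ⟨mul_mem hx hy, by
          rw [show (⟨x * y, mul_mem hx hy⟩ : H) = ⟨x, hx⟩ * ⟨y, hy⟩ from rfl, map_mul]
          exact mul_mem hx' hy'⟩
      inv_mem' := by
        rintro x ⟨hx, hx'⟩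
        exact ⟨inv_mem hx, by
          rw [show (⟨x⁻¹, inv_mem hx⟩ : H) = ⟨x, hx⟩⁻¹ from rfl, map_inv]
          exact inv_mem hx'⟩ }
  have hT : sqComm H ≤ T := (Subgroup.closure_le _).2 (by
    rintro _ ⟨u, hu, rfl⟩
    refine ⟨mul_mem (hle hu) (hle hu), ?_⟩
    rw [show (⟨u * u, mul_mem (hle hu) (hle hu)⟩ : H) = ⟨u, hle hu⟩ * ⟨u, hle hu⟩ from rfl, map_mul]
    exact Subgroup.subset_closure ⟨_, comm_autInv α ⟨u, hle hu⟩ hu, rfl⟩)
  obtain ⟨_, h⟩ := hT hv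
  exact h

end CfsgLib.Fsys.Bicyclic
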