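import Cfsg.Agent.Lib.FusionSystem.Bicyclic.Coord
import Cfsg.Agent.Lib.FusionSystem.Bicyclic.Stab

/-!
Commutators and powers in coordinates.
-/

set_option autoImplicit false
set_option linter.style.haveILetI false
set_option linter.unusedSectionVars false

open scoped commutatorElement IsMulCommutative

namespace CfsgLib.Fsys.Bicyclic

variable {G : Type*} [Group G] [Finite G] [IsMulCommutative ↥(commutator G)]

/-- The elements of `P` lying in `H`. -/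
def Jof (H : Subgroup G) : AddSubgroup (DP G) where
  carrier := {x | ι x ∈ H}
  zero_mem' := by show ι (0 : DP G) ∈ H; rw [ι_zero]; exact one_mem H
  add_mem' := fun {x y} hx hy => by show ι (x + y) ∈ H; rw [ι_add]; exact mul_mem hx hy
  neg_mem' := fun {x} hx => by show ι (-x) ∈ H; rw [ι_neg]; exact inv_mem hx

theorem mem_Jof {H : Subgroup G} {x : DP G} : x ∈ Jof H ↔ ι x ∈ H := Iff.rfl

theorem ι_zsmul_mem {H : Subgroup G} {x : DP G} (hx : ι x ∈ H) (k : ℤ) : ι (k • x) ∈ H := by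
  rw [ι_zsmul]; exact zpow_mem hx k

theorem comm_ι_left (w : DP G) (g : G) : ⁅ι w, g⁆ = ι (w - act g w) := by
  rw [ι_sub, ι_act, commutatorElement_def]; group

theorem comm_ι_right (g : G) (w : DP G) : ⁅g, ι w⁆ = ι (act g w - w) := by
  rw [ι_sub, ι_act, commutatorElement_def]

theorem exists_two_pow (T : AddSubgroup ℤ) {N : ℕ} (hN : (2 : ℤ) ^ N ∈ T) :
    ∃ i : ℕ, ∀ k : ℤ, k ∈ T ↔ (2 : ℤ) ^ i ∣ k := by
  obtain ⟨d, hd⟩ := Int.subgroup_cyclic T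
  have hmem : ∀ k : ℤ, k ∈ T ↔ d ∣ k := fun k => by
    rw [hd, ← AddSubgroup.zmultiples_eq_closure, Int.mem_zmultiples_iff]
  have h2 : d.natAbs ∣ 2 ^ N := by
    have := Int.natAbs_dvd_natAbs.2 ((hmem _).1 hN)
    rwa [Int.natAbs_pow] at this
  obtain ⟨i, -, hi⟩ := (Nat.dvd_prime_pow Nat.prime_two).1 h2
  exact ⟨i, fun k => by rw [hmem, ← Int.natAbs_dvd, hi]; push_cast; rfl⟩

theorem gen_of_frattini {K : Subgroup G} (h : K ⊔ frattini G = ⊤) : K = ⊤ := frattini_nongenerating h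

namespace Pre

variable (h : Pre G)

theorem act_a_pow (i : ℕ) : act (h.a ^ i) = h.A ^ i := map_pow _ _ _

theorem comm_a_pow_b (k : ℕ) : ⁅h.a ^ k, h.b⁆ = ι (h.S k) := (h.ι_S k).symm

theorem comm_pow_ι (k : ℕ) (w : DP G) : ⁅h.a ^ k, ι w⁆ = ι ((h.A ^ k) w - w) := by
  rw [comm_ι_right, h.act_a_pow]

theorem comm_pow_g0 (k l : ℕ) (u : DP G) :
    ⁅h.a ^ k, h.a ^ l * ι u⁆ = ι ((h.A ^ l) ((h.A ^ k) u - u)) := by
  rw [← h.act_a_pow l, ι_act, ← h.comm_pow_ι]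
  simp only [commutatorElement_def]
  rw [show h.a ^ k * (h.a ^ l * ι u) = h.a ^ l * (h.a ^ k * ι u) by rw [← mul_assoc, ← mul_assoc, pow_mul_comm]]
  group

theorem comm_pow_g1 (k l : ℕ) (u : DP G) :
    ⁅h.a ^ k, h.a ^ l * h.b * ι u⁆ = ι ((h.A ^ l) (h.S k + h.B ((h.A ^ k) u - u))) := by
  rw [← h.act_a_pow l, ι_act, ι_add, B, ι_act, ← h.comm_a_pow_b, ← h.comm_pow_ι]
  simp only [commutatorElement_def]
  rw [show h.a ^ k * (h.a ^ l * h.b * ι u) = h.a ^ l * (h.a ^ k * h.b * ι u) by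
    simp only [← mul_assoc]; rw [pow_mul_comm]]
  group

theorem comm_ι_g0 (w : DP G) (l : ℕ) (u : DP G) : ⁅ι w, h.a ^ l * ι u⁆ = ι (w - (h.A ^ l) w) := by
  rw [comm_ι_left, map_mul, act_ι, mul_one, h.act_a_pow]

theorem comm_ι_g1 (w : DP G) (l : ℕ) (u : DP G) : ⁅ι w, h.a ^ l * h.b * ι u⁆ = ι (w - (h.A ^ l) (h.B w)) := by
  rw [comm_ι_left, map_mul, act_ι, mul_one, map_mul, h.act_a_pow]
  rfl

theorem nf_nat (g : G) : ∃ (i e : ℕ) (x : DP G), e ≤ 1 ∧ g = h.a ^ i * h.b ^ e * ι x := by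
  obtain ⟨i, e, x, rfl⟩ := h.nf g
  obtain ⟨N, -, -, hN⟩ := h.exists_pow_kill
  have hi : ∃ n : ℕ, h.a ^ i = h.a ^ n := by
    refine ⟨(i % (2 ^ N : ℤ)).toNat, ?_⟩
    rw [← zpow_natCast, Int.toNat_of_nonneg (Int.emod_nonneg _ (by positivity)), Int.emod_def, sub_eq_add_neg,
      zpow_add, ← mul_neg, zpow_mul, show h.a ^ (2 ^ N : ℤ) = 1 by exact_mod_cast hN h.a, one_zpow, mul_one]
  obtain ⟨n, hn⟩ := hi
  rcases Int.even_or_odd' e with ⟨k, rfl | rfl⟩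
  · refine ⟨n, 0, k • h.q + x, Nat.zero_le 1, ?_⟩
    rw [hn, zpow_mul, zpow_two, pow_zero, mul_one, ι_add, ι_zsmul, h.ι_q, mul_assoc]
  · refine ⟨n, 1, k • h.q + x, le_rfl, ?_⟩
    rw [hn, add_comm (2 * k) 1, zpow_one_add, zpow_mul, zpow_two, pow_one, ι_add, ι_zsmul, h.ι_q]
    group

theorem sep_nat {i e : ℕ} : h.a ^ i * h.b ^ e ∈ commutator G ↔ 2 ^ h.r ∣ i ∧ Even e := by
  rw [← zpow_natCast, ← zpow_natCast, h.sep]
  constructor
  · rintro ⟨h1, h2⟩; exact ⟨by exact_mod_cast h1, by exact_mod_cast h2⟩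
  · rintro ⟨h1, h2⟩; exact ⟨by exact_mod_cast h1, by exact_mod_cast h2⟩

theorem even_of_sq_mem {i e : ℕ} {x : DP G} {g : G} (hg : g = h.a ^ i * h.b ^ e * ι x)
    (h2 : g * g ∈ commutator G) : 2 ^ (h.r - 1) ∣ i := by
  have hμ : (h.a : G ⧸ commutator G) ^ (2 * i) = 1 := by
    have hcm : ∀ s t : G ⧸ commutator G, Commute s t := fun s t => by
      obtain ⟨s, rfl⟩ := QuotientGroup.mk_surjective s
      obtain ⟨t, rfl⟩ := QuotientGroup.mk_surjective t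
      rw [← commutatorElement_eq_one_iff_commute]
      exact (QuotientGroup.eq_one_iff _).2
        (Subgroup.commutator_mem_commutator (Subgroup.mem_top s) (Subgroup.mem_top t))
    rw [hg, Pre.mem_commutator_iff] at h2
    simp only [QuotientGroup.mk_mul, QuotientGroup.mk_pow] at h2
    rw [(QuotientGroup.eq_one_iff (ι x)).2 (ι_mem x), mul_one, (hcm _ _).mul_mul_mul_comm, ← pow_add, ← pow_add,
      ← two_mul, ← two_mul, pow_mul _ 2 e, pow_two (h.b : G ⧸ commutator G), ← QuotientGroup.mk_mul,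
      (QuotientGroup.eq_one_iff _).2 h.b_sq_mem, one_pow, mul_one] at h2
    exact h2
  have := orderOf_dvd_iff_pow_eq_one.2 hμ
  rw [h.orderOf_a] at this
  have hr := h.two_le_r
  rw [show h.r = h.r - 1 + 1 by omega, pow_succ'] at this
  exact Nat.dvd_of_mul_dvd_mul_left (by norm_num) this

theorem ι_deep_mem {x : DP G} (hx : x ∈ h.deep) : ι x ∈ deepComm G := by
  obtain ⟨y, z, rfl⟩ := h.mem_deep.1 hx
  rw [ι_add, two_zsmul, ι_add, h.X_apply, A, ← comm_ι_right]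
  refine mul_mem (sq_mem_deepComm (ι_mem y)) ?_
  rw [← commutatorElement_inv]
  exact inv_mem (comm_mem_deepComm (ι_mem z) _)

theorem sq_pow (u : DP G) (i : ℕ) :
    (ι u * h.a ^ i) * (ι u * h.a ^ i) = ι (u + (h.A ^ i) u) * h.a ^ (i * 2) := by
  rw [ι_add, ← h.act_a_pow, ι_act, pow_mul, pow_two]
  group

end Pre

namespace Coord

variable {h : Pre G} (K : Coord h)
include K

theorem A_pow_sub (k : ℕ) (x : DP G) : (h.A ^ k) x - x = ee K.j k • h.X x := by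
  rw [K.A_pow, add_sub_cancel_left]

theorem X_mem_d (x : DP G) : ∃ k : ℤ, h.X x = k • h.d := by
  obtain ⟨k, l, rfl⟩ := K.gen x
  exact ⟨k, by rw [map_add, map_zsmul, map_zsmul, h.X_m, smul_zero, add_zero]; rfl⟩

theorem A_even_add (l : ℕ) (hl : Even l) (y : DP G) :
    ∃ z : DP G, y + (h.A ^ l) y = (2 : ℤ) • z ∧ ∃ t : ℤ, z = y + t • h.X y := by
  obtain ⟨l', rfl⟩ := hl
  obtain ⟨t, ht⟩ := ee_even K.j l'
  refine ⟨y + ((1 + K.j) * t) • h.X y, ?_, _, rfl⟩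
  rw [K.A_pow, ← two_mul l', ht, smul_add, two_zsmul, ← add_assoc, smul_smul]
  congr 1
  · ring_nf

/-- `2 ^ (k+1)`-th powers are multiples of two, when the last squaring is at an even exponent. -/
theorem pow_two_pow (u : DP G) (i k : ℕ) (hik : Even (i * 2 ^ k)) :
    ∃ z : DP G, (ι u * h.a ^ i) ^ (2 ^ (k + 1)) = ι ((2 : ℤ) • z) * h.a ^ (i * 2 ^ (k + 1)) := by
  have gen : ∀ k : ℕ, ∃ y : DP G, (ι u * h.a ^ i) ^ (2 ^ k) = ι y * h.a ^ (i * 2 ^ k) := by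
    intro k
    induction k with
    | zero => exact ⟨u, by rw [pow_zero, pow_one, mul_one]⟩
    | succ k ih =>
      obtain ⟨y, hy⟩ := ih
      exact ⟨y + (h.A ^ (i * 2 ^ k)) y, by rw [pow_succ 2 k, pow_mul, hy, pow_two, h.sq_pow, mul_assoc]⟩
  obtain ⟨y, hy⟩ := gen k
  obtain ⟨z, hz, -⟩ := K.A_even_add _ hik y
  exact ⟨z, by rw [pow_succ 2 k, pow_mul, hy, pow_two, h.sq_pow, mul_assoc, hz]⟩

/-- `2 ^ k`-th powers of `c a ^ i` for even `i`. -/
theorem pow_c (i : ℕ) (hi : Even i) (k : ℕ) :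
    ∃ t : ℤ, (ι h.c * h.a ^ i) ^ (2 ^ k) = ι (((2 : ℤ) ^ k) • h.c + (2 * t) • h.d) * h.a ^ (i * 2 ^ k) := by
  induction k with
  | zero => exact ⟨0, by simp⟩
  | succ k ih =>
    obtain ⟨t, ht⟩ := ih
    obtain ⟨l, hl⟩ := hi.mul_right (2 ^ k)
    obtain ⟨t', ht'⟩ := ee_even K.j l
    refine ⟨2 * t + (1 + K.j) * t' * (2 ^ k + 2 * t * (2 * K.j)), ?_⟩
    rw [pow_succ 2 k, pow_mul, ht, pow_two, h.sq_pow, mul_assoc]
    congr 2
    rw [K.A_pow, hl, ← two_mul l, ht', map_add, map_zsmul, map_zsmul, K.X_d, show h.X h.c = h.d from rfl,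
      pow_succ (2 : ℤ) k]
    module

end Coord

end CfsgLib.Fsys.Bicyclic
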