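import Cfsg.Agent.Lib.FusionSystem.Bicyclic.Lift
import Cfsg.Agent.Lib.Solvable.Ito

/-!
Products of two cyclic `2`-groups that are not metacyclic have a generator whose square lies in `[G', G] G'²`.
-/

set_option autoImplicit false
set_option linter.style.haveILetI false

open scoped commutatorElement

namespace CfsgLib.Fsys.Bicyclic

variable {G : Type*} [Group G] [Finite G]

/-- Every element is `x ^ i * y ^ j`. -/
def IsProduct (x y : G) : Prop := ∀ g : G, ∃ i j : ℤ, g = x ^ i * y ^ j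

omit [Finite G] in
theorem IsProduct.closure {x y : G} (h : IsProduct x y) : Subgroup.closure {x, y} = (⊤ : Subgroup G) := by
  refine eq_top_iff.2 fun g _ => ?_
  obtain ⟨i, j, rfl⟩ := h g
  exact mul_mem (zpow_mem (Subgroup.subset_closure (by simp)) i) (zpow_mem (Subgroup.subset_closure (by simp)) j)

omit [Finite G] in
theorem IsProduct.comm {x y : G} (h : IsProduct x y) : IsMulCommutative ↥(commutator G) := by
  have h2 : derivedSeries G 2 = ⊥ := CfsgLib.Solvable.Ito.derivedSeries_two_eq_bot (Subgroup.zpowers x)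
    (Subgroup.zpowers y) inferInstance inferInstance fun g => by
      obtain ⟨i, j, rfl⟩ := h g
      exact ⟨x ^ i, zpow_mem (Subgroup.mem_zpowers x) i, y ^ j, zpow_mem (Subgroup.mem_zpowers y) j, rfl⟩
  rw [derivedSeries_succ, derivedSeries_one, Subgroup.commutator_eq_bot_iff_le_centralizer] at h2
  exact ⟨⟨fun a b => Subtype.ext (Subgroup.mem_centralizer_iff.1 (h2 b.2) a a.2)⟩⟩

/-- The conclusion of the analysis of one ordering of the two factors. -/
theorem involution_or_metacyclic {Q : Type*} [Group Q] [Finite Q] {x y c : Q}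
    (hgen : Subgroup.closure {x, y} = (⊤ : Subgroup Q)) (hc : c = ⁅x, y⁆) (hc2 : c * c = 1)
    (hcen : ∀ g : Q, Commute c g) (hQ' : commutator Q ≤ Subgroup.zpowers c) (hQ : IsPGroup 2 Q)
    (α : ℕ) (hα : 1 ≤ α) (t s : ℤ) (ht : Odd t) (he : c = x ^ (2 ^ α * t) * y ^ (2 ^ α * s)) :
    Cfsg.IsMetacyclic Q ∨ ∃ a b : Q, Subgroup.closure {a, b} = (⊤ : Subgroup Q) ∧ b * b = 1 := by
  have hxy : x * y = c * (y * x) := by rw [hc, commutatorElement_def]; group
  have hyx : y * x = c * (x * y) := by rw [hxy, ← mul_assoc, hc2, one_mul]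
  -- moving powers past each other
  have hmove1 : ∀ l : ℤ, y ^ l * x = c ^ l * x * y ^ l := by
    intro l
    have hconj : x⁻¹ * y * x = c * y := by
      rw [show x⁻¹ * y * x = x⁻¹ * (y * x) by group, hyx, ← mul_assoc x⁻¹, ← ((hcen x⁻¹)).eq]
      group
    have h := congrArg (· ^ l) hconj
    simp only [(hcen y).mul_zpow] at h
    rw [show x⁻¹ * y * x = x⁻¹ * y * x⁻¹⁻¹ by rw [inv_inv], conj_zpow, inv_inv] at h
    calc y ^ l * x = x * (x⁻¹ * y ^ l * x) := by group
      _ = x * (c ^ l * y ^ l) := by rw [h]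
      _ = c ^ l * x * y ^ l := by rw [← mul_assoc, ((hcen x).zpow_left l).eq]
  have hmove : ∀ l k : ℤ, y ^ l * x ^ k = c ^ (l * k) * x ^ k * y ^ l := by
    intro l k
    have h1 : y ^ l * x * (y ^ l)⁻¹ = c ^ l * x := by rw [hmove1]; group
    have h := congrArg (· ^ k) h1
    simp only [conj_zpow, ((hcen x).zpow_left l).mul_zpow, ← zpow_mul] at h
    calc y ^ l * x ^ k = y ^ l * x ^ k * (y ^ l)⁻¹ * y ^ l := by group
      _ = c ^ (l * k) * x ^ k * y ^ l := by rw [h]
  have heven : ∀ l : ℤ, c ^ (2 * l) = 1 := fun l => by rw [zpow_mul, zpow_two, hc2, one_zpow]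
  set z := x ^ t * y ^ s with hz
  have hz2 : z * z = c ^ (s * t) * (x ^ (2 * t) * y ^ (2 * s)) := by
    calc z * z = x ^ t * (y ^ s * x ^ t) * y ^ s := by rw [hz]; group
      _ = x ^ t * c ^ (s * t) * x ^ t * y ^ (2 * s) := by rw [hmove, two_mul, zpow_add]; group
      _ = c ^ (s * t) * (x ^ (2 * t) * y ^ (2 * s)) := by
        rw [← ((hcen (x ^ t)).zpow_left (s * t)).eq, two_mul t, zpow_add]; group
  have hxk : ∀ k : ℤ, Commute (x ^ (2 * k)) (y ^ (2 * s)) := fun k => by
    show x ^ (2 * k) * y ^ (2 * s) = y ^ (2 * s) * x ^ (2 * k)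
    rw [hmove, show 2 * s * (2 * k) = 2 * (2 * s * k) by ring, heven, one_mul]
  have hzgen : Subgroup.closure {z, y} = (⊤ : Subgroup Q) := by
    rw [eq_top_iff, ← hgen, Subgroup.closure_le]
    rintro g (rfl | rfl)
    · -- `x ^ t` generates `x` as `t` is odd
      have hxt : g ^ t ∈ Subgroup.closure {z, y} := by
        rw [show g ^ t = z * (y ^ s)⁻¹ by rw [hz]; group]
        exact mul_mem (Subgroup.subset_closure (by simp)) (inv_mem (zpow_mem (Subgroup.subset_closure (by simp)) s))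
      obtain ⟨n, hn⟩ := hQ g
      have hcop : IsCoprime t ((2 : ℤ) ^ n) := by
        refine IsCoprime.pow_right ?_
        obtain ⟨w, rfl⟩ := ht
        exact ⟨1, -w, by ring⟩
      obtain ⟨a, b, hab⟩ := hcop
      have : g = (g ^ t) ^ a := by
        rw [← zpow_mul, show t * a = 1 + (2 : ℤ) ^ n * (-b) by linear_combination hab, zpow_add, zpow_one,
          zpow_mul, show g ^ ((2 : ℤ) ^ n) = 1 by exact_mod_cast hn, one_zpow, mul_one]
      rw [SetLike.mem_coe, this]
      exact zpow_mem hxt a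
    · exact Subgroup.subset_closure (by simp)
  -- `z` raised to `2 ^ α`
  have hcz : ∀ (l : ℤ), Commute (c ^ (s * t)) ((x ^ (2 * t) * y ^ (2 * s)) ^ l) := fun l =>
    ((hcen _).zpow_left _)
  have hzα : z ^ ((2 : ℤ) ^ α) = c ^ (s * t * 2 ^ (α - 1) + 1) := by
    obtain ⟨β, rfl⟩ := Nat.exists_eq_add_of_le hα
    rw [pow_add, pow_one, zpow_mul, zpow_two, hz2, ((hcen _).zpow_left (s * t)).mul_zpow, ← zpow_mul,
      (hxk t).mul_zpow, ← zpow_mul, ← zpow_mul, zpow_add, zpow_one, Nat.add_sub_cancel_left]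
    congr 1
    rw [he, pow_add, pow_one, show (2 : ℤ) * t * 2 ^ β = 2 * 2 ^ β * t by ring,
      show (2 : ℤ) * s * 2 ^ β = 2 * 2 ^ β * s by ring]
  by_cases hinv : α = 1 ∧ Odd s
  · obtain ⟨rfl, hs⟩ := hinv
    refine Or.inr ⟨y, z, by rw [Set.pair_comm]; exact hzgen, ?_⟩
    rw [← zpow_two, show (2 : ℤ) = 2 ^ 1 by norm_num, hzα]
    obtain ⟨k, hk⟩ := hs.mul ht
    rw [hk, show (2 * k + 1) * 2 ^ (1 - 1) + 1 = 2 * (k + 1) by ring, heven]
  · refine Or.inl (metacyclic_of_comm_le hzgen (hQ'.trans (Subgroup.zpowers_le.2 ?_)))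
    have he2 : Even (s * t * 2 ^ (α - 1)) := by
      rcases eq_or_lt_of_le hα with rfl | h2
      · have : Even s := Int.not_odd_iff_even.1 fun hs => hinv ⟨rfl, hs⟩
        exact (this.mul_right t).mul_right _
      · exact (Int.even_pow.2 ⟨even_two, by omega⟩).mul_left _
    obtain ⟨k, hk⟩ := he2
    rw [hk, ← two_mul, zpow_add, heven, one_mul, zpow_one] at hzα
    rw [← hzα]
    exact zpow_mem (Subgroup.mem_zpowers z) _

/-- A product of two cyclic `2`-groups which is not metacyclic: generators `a, b` with `b² ∈ [G', G] G'²`. -/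
theorem exists_generators (hG : IsPGroup 2 G) {x y : G} (hxy : IsProduct x y) (hm : ¬ Cfsg.IsMetacyclic G) :
    ∃ a b : G, Subgroup.closure {a, b} = (⊤ : Subgroup G) ∧ b * b ∈ deepComm G := by
  classical
  haveI := hG.isNilpotent
  set π := QuotientGroup.mk' (deepComm G) with hπ
  have hs : Function.Surjective π := QuotientGroup.mk'_surjective _
  have hnm : ¬ Cfsg.IsMetacyclic (G ⧸ deepComm G) := fun h => hm (metacyclic_lift hG h)
  set X := π x with hX
  set Y := π y with hY
  set c := ⁅X, Y⁆ with hc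
  have hgen : Subgroup.closure {X, Y} = (⊤ : Subgroup (G ⧸ deepComm G)) := by
    rw [← Subgroup.map_top_of_surjective π hs, ← hxy.closure, MonoidHom.map_closure, Set.image_pair]
  have hcx : c = π ⁅x, y⁆ := (map_commutatorElement π x y).symm
  have hxyM : ⁅x, y⁆ ∈ commutator G :=
    Subgroup.commutator_mem_commutator (Subgroup.mem_top x) (Subgroup.mem_top y)
  have hcen : ∀ g : G ⧸ deepComm G, Commute c g := by
    intro g
    obtain ⟨w, rfl⟩ := hs g
    rw [hcx, ← commutatorElement_eq_one_iff_commute, ← map_commutatorElement]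
    exact (QuotientGroup.eq_one_iff _).2 (comm_mem_deepComm hxyM w)
  have hc2 : c * c = 1 := by
    rw [hcx, ← map_mul]
    exact (QuotientGroup.eq_one_iff _).2 (sq_mem_deepComm hxyM)
  haveI : (Subgroup.zpowers c).Normal := ⟨fun m hm' g => by
    obtain ⟨k, rfl⟩ := Subgroup.mem_zpowers_iff.1 hm'
    rw [← ((hcen g).zpow_left k).eq, mul_inv_cancel_right]
    exact hm'⟩
  have hQ' : commutator (G ⧸ deepComm G) ≤ Subgroup.zpowers c := by
    set ρ := QuotientGroup.mk' (Subgroup.zpowers c)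
    have hXY : Commute (ρ X) (ρ Y) := by
      rw [← commutatorElement_eq_one_iff_commute, ← map_commutatorElement]
      exact (QuotientGroup.eq_one_iff _).2 (Subgroup.mem_zpowers c)
    rw [commutator_def, Subgroup.commutator_le]
    intro v _ w _
    rw [← QuotientGroup.eq_one_iff, ← QuotientGroup.mk'_apply, map_commutatorElement,
      commutatorElement_eq_one_iff_commute]
    obtain ⟨v, rfl⟩ := hs v
    obtain ⟨w, rfl⟩ := hs w
    obtain ⟨i, j, rfl⟩ := hxy v
    obtain ⟨i', j', rfl⟩ := hxy w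
    simp only [map_mul, map_zpow]
    exact ((((Commute.refl _).zpow_zpow i i').mul_right (hXY.zpow_zpow i j')).mul_left
      ((hXY.symm.zpow_zpow j i').mul_right ((Commute.refl _).zpow_zpow j j')))
  obtain ⟨g0, hg0⟩ := hs c
  obtain ⟨i, j, rfl⟩ := hxy g0
  rw [map_mul, map_zpow, map_zpow, ← hX, ← hY] at hg0
  -- if the commutator is trivial or an exponent is odd, `Q` is metacyclic
  have hne : c ≠ 1 := fun e => hnm (metacyclic_of_comm_le hgen (hQ'.trans (by simp [e])))
  have evenI : ∀ (X Y : G ⧸ deepComm G) (i j : ℤ), c = X ^ i * Y ^ j → (∀ g, Commute c g) → ¬ Commute X Y →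
      Even i := by
    intro X Y i j he hcen hnc
    by_contra hi
    rw [Int.not_even_iff_odd] at hi
    apply hnc
    have h1 : Commute (X ^ i) Y := by
      have : X ^ i = c * (Y ^ j)⁻¹ := by rw [he]; group
      rw [this]
      exact (hcen Y).mul_left ((Commute.refl Y).zpow_left j).inv_left
    obtain ⟨n, hn⟩ := (hG.to_quotient (deepComm G)) X
    have hcop : IsCoprime i ((2 : ℤ) ^ n) := by
      refine IsCoprime.pow_right ?_
      obtain ⟨w, rfl⟩ := hi
      exact ⟨1, -w, by ring⟩
    obtain ⟨a, b, hab⟩ := hcop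
    have : X = (X ^ i) ^ a := by
      rw [← zpow_mul, show i * a = 1 + (2 : ℤ) ^ n * (-b) by linear_combination hab, zpow_add, zpow_one,
        zpow_mul, show X ^ ((2 : ℤ) ^ n) = 1 by exact_mod_cast hn, one_zpow, mul_one]
    rw [this]
    exact h1.zpow_left a
  have hnc : ¬ Commute X Y := fun h => hne (commutatorElement_eq_one_iff_commute.2 h)
  have hi : Even i := evenI X Y i j hg0.symm hcen hnc
  have hcom : Commute (X ^ i) (Y ^ j) := by
    have : Y ^ j = (X ^ i)⁻¹ * c := by rw [← hg0]; group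
    rw [this]
    exact ((Commute.refl (X ^ i)).inv_right).mul_right ((hcen _).symm)
  have hj : Even j := evenI Y X j i (hcom.eq ▸ hg0.symm) hcen fun h => hnc h.symm
  have hP := hG.to_quotient (deepComm G)
  -- take the factor with the smaller two-power
  have main : ∀ (n : ℕ) (i j : ℤ), Even i → Even j → c = X ^ i * Y ^ j → Commute (X ^ i) (Y ^ j) →
      n = i.natAbs + j.natAbs →
      (Cfsg.IsMetacyclic (G ⧸ deepComm G) ∨
        ∃ a b : G ⧸ deepComm G, Subgroup.closure {a, b} = (⊤ : Subgroup (G ⧸ deepComm G)) ∧ b * b = 1) := by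
    intro n i j hie hje he hco _
    have core : ∀ (α : ℕ) (i' j' : ℤ), i = 2 ^ (α + 1) * i' → j = 2 ^ (α + 1) * j' →
        Odd i' ∨ Odd j' → (Cfsg.IsMetacyclic (G ⧸ deepComm G) ∨
        ∃ a b : G ⧸ deepComm G, Subgroup.closure {a, b} = (⊤ : Subgroup (G ⧸ deepComm G)) ∧ b * b = 1) := by
      intro α i' j' hi' hj' ho
      rcases ho with ho | ho
      · exact involution_or_metacyclic hgen hc hc2 hcen hQ' hP (α + 1) (by omega) i' j' ho
          (by rw [← hi', ← hj']; exact he)
      · refine involution_or_metacyclic (x := Y) (y := X) (by rw [Set.pair_comm]; exact hgen) ?_ hc2 hcen hQ' hP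
          (α + 1) (by omega) j' i' ho (by rw [← hi', ← hj']; exact he.trans hco.eq)
        rw [← commutatorElement_inv, ← hc]
        exact (inv_eq_of_mul_eq_one_right hc2).symm
    rcases Classical.em (i = 0 ∧ j = 0) with h0 | h0
    · exact absurd (by rw [he, h0.1, h0.2]; simp) hne
    · obtain ⟨α, hα⟩ : ∃ α, (2 : ℤ) ^ α ∣ i ∧ (2 : ℤ) ^ α ∣ j ∧ ¬ ((2 : ℤ) ^ (α + 1) ∣ i ∧ (2 : ℤ) ^ (α + 1) ∣ j) := by
        by_contra hno
        push Not at hno
        have hall : ∀ α : ℕ, (2 : ℤ) ^ α ∣ i ∧ (2 : ℤ) ^ α ∣ j := by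
          intro α
          induction α with
          | zero => simp
          | succ α ih => exact hno α ih.1 ih.2
        apply h0
        have hb : ∀ z : ℤ, (∀ α : ℕ, (2 : ℤ) ^ α ∣ z) → z = 0 := by
          intro z hz
          by_contra hz0
          have := Int.le_of_dvd (abs_pos.2 hz0) ((dvd_abs _ _).2 (hz z.natAbs))
          rw [Int.abs_eq_natAbs] at this
          have h2 : z.natAbs < 2 ^ z.natAbs := Nat.lt_two_pow_self
          exact absurd (by exact_mod_cast this) (not_le.2 h2)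
        exact ⟨hb i fun α => (hall α).1, hb j fun α => (hall α).2⟩
      obtain ⟨⟨i', hi'⟩, ⟨j', hj'⟩, hno⟩ := hα
      obtain ⟨β, rfl⟩ : ∃ β, α = β + 1 := by
        rcases Nat.eq_zero_or_pos α with rfl | hpos
        · exfalso
          apply hno
          simp only [zero_add, pow_one]
          exact ⟨even_iff_two_dvd.1 hie, even_iff_two_dvd.1 hje⟩
        · exact ⟨α - 1, by omega⟩
      refine core β i' j' hi' hj' ?_
      by_contra hodd
      push Not at hodd
      apply hno
      obtain ⟨⟨u, rfl⟩, ⟨v, rfl⟩⟩ := And.intro (Int.not_odd_iff_even.1 hodd.1) (Int.not_odd_iff_even.1 hodd.2)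
      exact ⟨⟨u, by rw [hi']; ring⟩, ⟨v, by rw [hj']; ring⟩⟩
  rcases main _ i j hi hj hg0.symm hcom rfl with h | ⟨a, b, hab, hb⟩
  · exact absurd h hnm
  obtain ⟨a, rfl⟩ := hs a
  obtain ⟨b, rfl⟩ := hs b
  refine ⟨a, b, ?_, (QuotientGroup.eq_one_iff (b * b)).1 (by rw [← hb]; rfl)⟩
  have h1 : Subgroup.closure {a, b} ⊔ deepComm G = ⊤ := by
    conv_lhs => rw [← QuotientGroup.ker_mk' (deepComm G)]
    rw [← Subgroup.comap_map_eq, MonoidHom.map_closure, Set.image_pair, hab, Subgroup.comap_top]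
  refine frattini_nongenerating (top_le_iff.1 (h1.ge.trans (sup_le_sup_left ?_ _)))
  refine deepComm_le_commutator.trans ?_
  rw [commutator_def, Subgroup.commutator_le]
  exact fun v _ w _ => CfsgLib.PGroup.Frattini.commutatorElement_mem_frattini hG v w

end CfsgLib.Fsys.Bicyclic
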